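import Mathlib
import Groth.Agent.H9.RegSpread
import Groth.Agent.H94.RegIdealSub
import Groth.Prelude.Def_CInt

set_option autoImplicit false
set_option linter.style.haveILetI false
universe u

open RingTheory.Sequence

namespace Groth.Agent.H39.RegSpread2

/-- Kernel of a map between localizations induced by a surjection. -/
theorem ker_eq_map_ker_of_localization {A B' S T : Type*} [CommRing A] [CommRing B'] [CommRing S]
    [CommRing T] (φ : A →+* B') (hφ : Function.Surjective φ) (p : Ideal A) [p.IsPrime]
    (q : Ideal B') [q.IsPrime] (hpq : q.comap φ = p) [Algebra A S] [IsLocalization.AtPrime S p]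
    [Algebra B' T] [IsLocalization.AtPrime T q] (ψ : S →+* T)
    (hψ : ψ.comp (algebraMap A S) = (algebraMap B' T).comp φ) :
    RingHom.ker ψ = (RingHom.ker φ).map (algebraMap A S) := by
  apply le_antisymm
  · intro s hs
    obtain ⟨⟨a, t⟩, hat⟩ := IsLocalization.surj p.primeCompl s
    simp only at hat
    have h1 : ψ (algebraMap A S a) = 0 := by
      rw [← hat, map_mul, (RingHom.mem_ker).mp hs, zero_mul]
    have h2 : algebraMap B' T (φ a) = 0 := by
      have := congr($hψ a)
      simp only [RingHom.comp_apply] at this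
      rw [← this, h1]
    obtain ⟨⟨b, hb⟩, hb0⟩ := (IsLocalization.map_eq_zero_iff q.primeCompl T (φ a)).mp h2
    obtain ⟨t', rfl⟩ := hφ b
    have ht' : t' ∈ p.primeCompl := by
      intro hmem
      apply hb
      rw [← hpq] at hmem
      exact hmem
    have h3 : t' * a ∈ RingHom.ker φ := by
      rw [RingHom.mem_ker, map_mul]
      exact hb0
    have h4 : algebraMap A S t' * algebraMap A S a ∈ (RingHom.ker φ).map (algebraMap A S) := by
      rw [← map_mul]
      exact Ideal.mem_map_of_mem _ h3
    have hu : IsUnit (algebraMap A S t') := IsLocalization.map_units S ⟨t', ht'⟩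
    have h5 : algebraMap A S a ∈ (RingHom.ker φ).map (algebraMap A S) :=
      (Ideal.unit_mul_mem_iff_mem _ hu).mp h4
    have hu2 : IsUnit (algebraMap A S t) := IsLocalization.map_units S t
    rw [← hat] at h5
    exact (Ideal.mul_unit_mem_iff_mem _ hu2).mp h5
  · rw [Ideal.map_le_iff_le_comap]
    intro a ha
    rw [Ideal.mem_comap, RingHom.mem_ker]
    have := congr($hψ a)
    simp only [RingHom.comp_apply] at this
    rw [this, (RingHom.mem_ker).mp ha, map_zero]

variable {A : Type u} [CommRing A]

lemma isSMulRegular_spread [IsNoetherianRing A] (M : Type u) [AddCommGroup M]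
    [Module A M] [Module.Finite A M] (r : A) (p : Ideal A) [p.IsPrime]
    (h : IsSMulRegular (LocalizedModule p.primeCompl M) r) :
    ∃ f ∉ p, ∀ (S : Submonoid A) (g : A), f * g ∈ S →
      IsSMulRegular (LocalizedModule S M) r := by
  let K : Submodule A M := LinearMap.ker (LinearMap.lsmul A M r)
  have hKp : Subsingleton (LocalizedModule p.primeCompl K) := by
    rw [LocalizedModule.subsingleton_iff]
    intro k
    have hk : r • (k : M) = 0 := k.2
    have h1 : r • (LocalizedModule.mk (k : M) (1 : p.primeCompl)) = r • 0 := by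
      rw [LocalizedModule.smul'_mk, hk, smul_zero, LocalizedModule.zero_mk]
    have h2 := h h1
    rw [← LocalizedModule.zero_mk 1, LocalizedModule.mk_eq] at h2
    obtain ⟨u, hu⟩ := h2
    simp only [one_smul, smul_zero] at hu
    exact ⟨u, u.2, Subtype.ext hu⟩
  have hsupp : (⟨p, inferInstance⟩ : PrimeSpectrum A) ∉ Module.support A K :=
    Module.notMem_support_iff.2 hKp
  rw [Module.mem_support_iff_of_finite] at hsupp
  obtain ⟨f, hfK, hfp⟩ := Set.not_subset.1 hsupp
  refine ⟨f, hfp, fun S g hfg => ?_⟩
  rw [isSMulRegular_iff_right_eq_zero_of_smul]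
  intro x hx
  induction x using LocalizedModule.induction_on with
  | h m s =>
    rw [LocalizedModule.smul'_mk, ← LocalizedModule.zero_mk 1, LocalizedModule.mk_eq] at hx
    obtain ⟨t, ht⟩ := hx
    simp only [one_smul, smul_zero] at ht
    have hmem : (t : A) • m ∈ K := by
      change r • ((t : A) • m) = 0
      rw [smul_comm]; exact ht
    have hf0 : f • (⟨(t : A) • m, hmem⟩ : K) = 0 := Module.mem_annihilator.1 hfK _
    have hf0' : f • ((t : A) • m) = 0 := congrArg Subtype.val hf0
    rw [← LocalizedModule.zero_mk 1, LocalizedModule.mk_eq]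
    refine ⟨⟨f * g, hfg⟩ * t, ?_⟩
    simp only [one_smul, smul_zero]
    change ((f * g) * (t : A)) • m = 0
    rw [mul_comm f g, mul_assoc, mul_smul, mul_smul]
    rw [← mul_smul f, mul_smul] 
    rw [hf0', smul_zero]

lemma isWeaklyRegular_spread [IsNoetherianRing A] (rs : List A) (p : Ideal A)
    [p.IsPrime] :
    ∀ (M : Type u) [AddCommGroup M] [Module A M] [Module.Finite A M],
      IsWeaklyRegular (LocalizedModule p.primeCompl M) rs →
      ∃ f ∉ p, ∀ (S : Submonoid A) (g : A), f * g ∈ S →
        IsWeaklyRegular (LocalizedModule S M) rs := by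
  induction rs with
  | nil =>
    intro M _ _ _ _
    exact ⟨1, (inferInstance : p.IsPrime).one_notMem, fun S g _ => IsWeaklyRegular.nil _ _⟩
  | cons r rs ih =>
    intro M _ _ _ h
    rw [isWeaklyRegular_cons_iff] at h
    obtain ⟨h1, h2⟩ := h
    have h2' : IsWeaklyRegular (LocalizedModule p.primeCompl (QuotSMulTop r M)) rs :=
      ((Groth.Agent.H9.localizedQuotSMulTopEquiv p.primeCompl r M).isWeaklyRegular_congr rs).2 h2
    obtain ⟨f₂, hf₂, H₂⟩ := ih (QuotSMulTop r M) h2'
    obtain ⟨f₁, hf₁, H₁⟩ := isSMulRegular_spread M r p h1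
    refine ⟨f₁ * f₂, fun hmem => ((inferInstance : p.IsPrime).mem_or_mem hmem).elim hf₁ hf₂,
      fun S g hS => ?_⟩
    have hq1 : f₁ * (f₂ * g) ∈ S := by rwa [← mul_assoc]
    have hq2 : f₂ * (f₁ * g) ∈ S := by
      rwa [← mul_assoc, mul_comm f₂ f₁]
    rw [isWeaklyRegular_cons_iff]
    exact ⟨H₁ S _ hq1, ((Groth.Agent.H9.localizedQuotSMulTopEquiv S r M).isWeaklyRegular_congr rs).1
      (H₂ S _ hq2)⟩

/-- Comparison of ideals at a prime spreads to a multiplier outside the prime. -/
lemma exists_mul_mem_of_map_le (p : Ideal A) [p.IsPrime] (B : Type*) [CommRing B] [Algebra A B]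
    [IsLocalization.AtPrime B p] (I J : Ideal A) (hI : I.FG)
    (h : I.map (algebraMap A B) ≤ J.map (algebraMap A B)) :
    ∃ t ∉ p, ∀ a ∈ I, t * a ∈ J := by
  classical
  obtain ⟨s, hs⟩ := hI
  have key : ∀ a ∈ s, ∃ t ∉ p, t * a ∈ J := by
    intro a ha
    have haI : a ∈ I := hs ▸ Ideal.subset_span ha
    have h1 : algebraMap A B a ∈ J.map (algebraMap A B) := h (Ideal.mem_map_of_mem _ haI)
    rw [IsLocalization.mem_map_algebraMap_iff p.primeCompl] at h1
    obtain ⟨⟨⟨j, hj⟩, m⟩, hjm⟩ := h1
    simp only at hjm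
    rw [← map_mul, IsLocalization.eq_iff_exists p.primeCompl] at hjm
    obtain ⟨c, hc⟩ := hjm
    refine ⟨c * m, ?_, ?_⟩
    · exact (c * m).2
    · have : (c : A) * (m : A) * a = c * j := by rw [← hc]; ring
      rw [this]
      exact J.mul_mem_left _ hj
  choose! t ht htJ using key
  refine ⟨∏ a ∈ s, t a, ?_, ?_⟩
  · intro hmem
    obtain ⟨a, ha, hta⟩ := (Ideal.IsPrime.prod_mem_iff (p := p)).mp hmem
    exact ht a ha hta
  · intro a ha
    rw [← hs] at ha
    refine Submodule.span_induction (p := fun x _ => (∏ a ∈ s, t a) * x ∈ J) ?_ ?_ ?_ ?_ ha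
    · intro x hx
      obtain ⟨u, hu⟩ := Finset.dvd_prod_of_mem t hx
      rw [hu, mul_comm (t x) u, mul_assoc]
      exact J.mul_mem_left _ (htJ x hx)
    · simp
    · intro x y _ _ hx hy
      rw [mul_add]
      exact J.add_mem hx hy
    · intro r x _ hx
      rw [smul_eq_mul, mul_left_comm]
      exact J.mul_mem_left _ hx

/-- forward direction: a regular ideal contained in a prime localizes to a regular ideal. -/
theorem isRegularIdeal_map_atPrime {A : Type u} [CommRing A] (p : Ideal A) [p.IsPrime]
    (B : Type u) [CommRing B] [Algebra A B] [IsLocalization.AtPrime B p] (I : Ideal A) (hIp : I ≤ p)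
    (h : CInt.IsRegularIdeal I) : CInt.IsRegularIdeal (I.map (algebraMap A B)) := by
  obtain ⟨rs, hrs, rfl⟩ := h
  refine ⟨rs.map (algebraMap A B), ?_, (Ideal.map_ofList _ _).symm⟩
  refine hrs.toIsWeaklyRegular.isRegular_of_isLocalization_of_mem B p ?_
  intro r hr
  exact hIp (Ideal.subset_span hr)

/-- **Spreading out**: if an ideal of a Noetherian ring becomes generated by a regular sequence
after localizing at a prime containing it, the same happens on a basic open neighbourhood. -/
theorem isRegularIdeal_away_of_atPrime (A : Type u) [CommRing A] [IsNoetherianRing A]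
    (p : Ideal A) [p.IsPrime] (B : Type u) [CommRing B] [Algebra A B] [IsLocalization.AtPrime B p]
    (I : Ideal A) (hIp : I ≤ p) (h : CInt.IsRegularIdeal (I.map (algebraMap A B))) :
    ∃ f ∉ p, ∀ (C : Type u) [CommRing C] [Algebra A C] [IsLocalization.Away f C],
      CInt.IsRegularIdeal (I.map (algebraMap A C)) := by
  classical
  obtain ⟨fs, hfs, hfsI⟩ := h
  haveI : IsLocalRing B := IsLocalization.AtPrime.isLocalRing B p
  haveI : IsNoetherianRing B := IsLocalization.isNoetherianRing p.primeCompl B inferInstance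
  have hsurj : ∀ i : Fin fs.length, ∃ as : A × p.primeCompl,
      fs.get i * algebraMap A B as.2 = algebraMap A B as.1 :=
    fun i => IsLocalization.surj p.primeCompl (fs.get i)
  choose as has using hsurj
  let a : Fin fs.length → A := fun i => (as i).1
  let w : Fin fs.length → B := fun i => algebraMap A B (a i)
  have hget : ∀ i, fs.get i ∈ Ideal.ofList fs := fun i => Ideal.subset_span (List.get_mem fs i)
  have hspan : Ideal.span (Set.range w) = Ideal.ofList fs := by
    apply le_antisymm
    · rw [Ideal.span_le]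
      rintro _ ⟨i, rfl⟩
      change algebraMap A B (as i).1 ∈ _
      rw [← has i]
      exact Ideal.mul_mem_right _ _ (hget i)
    · rw [Ideal.ofList, Ideal.span_le]
      intro r hr
      obtain ⟨i, rfl⟩ := List.mem_iff_get.mp hr
      have hu : IsUnit (algebraMap A B (as i).2) := IsLocalization.map_units B (as i).2
      have : fs.get i * algebraMap A B (as i).2 ∈ Ideal.span (Set.range w) := by
        rw [has i]
        exact Ideal.subset_span ⟨i, rfl⟩
      exact (Ideal.mul_unit_mem_iff_mem _ hu).mp this
  have hmax : I.map (algebraMap A B) ≤ IsLocalRing.maximalIdeal B := by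
    rw [← IsLocalization.AtPrime.map_eq_maximalIdeal p B]
    exact Ideal.map_mono hIp
  have hm : ∀ i, w i ∈ IsLocalRing.maximalIdeal B := by
    intro i
    apply hmax
    rw [← hfsI, ← hspan]
    exact Ideal.subset_span ⟨i, rfl⟩
  have hw : IsWeaklyRegular B (List.ofFn w) :=
    Groth.Agent.H94.RegIdealSub.isWeaklyRegular_of_ofList_eq fs hfs.toIsWeaklyRegular w rfl hspan hm
  have hw' : IsWeaklyRegular B (List.ofFn a) := by
    rw [← isWeaklyRegular_map_algebraMap_iff (S := B) (M := B), List.map_ofFn]
    exact hw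
  haveI : IsLocalizedModule p.primeCompl (Algebra.linearMap A B) :=
    isLocalizedModule_iff_isLocalization.mpr inferInstance
  let e : LocalizedModule p.primeCompl A ≃ₗ[A] B :=
    IsLocalizedModule.iso p.primeCompl (Algebra.linearMap A B)
  have hw'' : IsWeaklyRegular (LocalizedModule p.primeCompl A) (List.ofFn a) :=
    (e.isWeaklyRegular_congr _).mpr hw'
  obtain ⟨f₁, hf₁, H₁⟩ := isWeaklyRegular_spread (List.ofFn a) p A hw''
  let J : Ideal A := Ideal.ofList (List.ofFn a)
  have hJmap : J.map (algebraMap A B) = I.map (algebraMap A B) := by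
    rw [Ideal.map_ofList, List.map_ofFn, ← hfsI, ← hspan]
    rw [Ideal.ofList]
    congr 1
    ext y
    simp [List.mem_ofFn, w, Function.comp]
  obtain ⟨t₁, ht₁, H₂⟩ := exists_mul_mem_of_map_le p B I J (IsNoetherian.noetherian I) hJmap.ge
  obtain ⟨t₂, ht₂, H₃⟩ := exists_mul_mem_of_map_le p B J I (IsNoetherian.noetherian J) hJmap.le
  have hpp : p.IsPrime := inferInstance
  refine ⟨f₁ * (t₁ * t₂), ?_, ?_⟩
  · intro hmem
    rcases hpp.mem_or_mem hmem with h | h
    · exact hf₁ h
    · rcases hpp.mem_or_mem h with h | h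
      · exact ht₁ h
      · exact ht₂ h
  intro C _ _ _
  set f := f₁ * (t₁ * t₂) with hf
  have hfu : IsUnit (algebraMap A C f) := IsLocalization.Away.algebraMap_isUnit f
  have hu₁ : IsUnit (algebraMap A C t₁) := by
    rw [hf, map_mul, map_mul] at hfu
    exact isUnit_of_mul_isUnit_left (isUnit_of_mul_isUnit_right hfu)
  have hu₂ : IsUnit (algebraMap A C t₂) := by
    rw [hf, map_mul, map_mul] at hfu
    exact isUnit_of_mul_isUnit_right (isUnit_of_mul_isUnit_right hfu)
  have hIJ : I.map (algebraMap A C) = J.map (algebraMap A C) := by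
    apply le_antisymm
    · rw [Ideal.map_le_iff_le_comap]
      intro x hx
      rw [Ideal.mem_comap]
      have := Ideal.mem_map_of_mem (algebraMap A C) (H₂ x hx)
      rw [map_mul] at this
      exact (Ideal.unit_mul_mem_iff_mem _ hu₁).mp this
    · rw [Ideal.map_le_iff_le_comap]
      intro x hx
      rw [Ideal.mem_comap]
      have := Ideal.mem_map_of_mem (algebraMap A C) (H₃ x hx)
      rw [map_mul] at this
      exact (Ideal.unit_mul_mem_iff_mem _ hu₂).mp this
  have hS : f₁ * (t₁ * t₂) ∈ Submonoid.powers f := Submonoid.mem_powers f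
  have h1 := H₁ (Submonoid.powers f) (t₁ * t₂) hS
  haveI : IsLocalizedModule (Submonoid.powers f) (Algebra.linearMap A C) :=
    isLocalizedModule_iff_isLocalization.mpr inferInstance
  let e' : LocalizedModule (Submonoid.powers f) A ≃ₗ[A] C :=
    IsLocalizedModule.iso (Submonoid.powers f) (Algebra.linearMap A C)
  have h2 : IsWeaklyRegular C (List.ofFn a) := (e'.isWeaklyRegular_congr _).mp h1
  have h3 : IsWeaklyRegular C ((List.ofFn a).map (algebraMap A C)) :=
    (isWeaklyRegular_map_algebraMap_iff (S := C) (M := C) (List.ofFn a)).mpr h2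
  refine ⟨(List.ofFn a).map (algebraMap A C), ⟨h3, ?_⟩, ?_⟩
  · rw [← Ideal.map_ofList, smul_eq_mul, Ideal.mul_top]
    change (⊤ : Ideal C) ≠ J.map (algebraMap A C)
    rw [← hIJ]
    intro htop
    have hdisj : Disjoint (Submonoid.powers f : Set A) (p : Set A) := by
      rw [Set.disjoint_left]
      rintro _ ⟨n, rfl⟩ hn
      have := hpp.mem_of_pow_mem n hn
      rw [hf] at this
      rcases hpp.mem_or_mem this with h | h
      · exact hf₁ h
      · rcases hpp.mem_or_mem h with h | h
        · exact ht₁ h
        · exact ht₂ h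
    have hne := (IsLocalization.map_algebraMap_ne_top_iff_disjoint (Submonoid.powers f) C p).mpr hdisj
    apply hne
    rw [eq_top_iff, htop]
    exact Ideal.map_mono hIp
  · rw [← Ideal.map_ofList, hIJ]

end Groth.Agent.H39.RegSpread2
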