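import Mathlib
import Groth.Agent.H39.RegSpread2
import Groth.Agent.H25.RegQuot
import Groth.Prelude.Def_RegImm

set_option autoImplicit false
set_option linter.style.haveILetI false
universe u

open AlgebraicGeometry CategoryTheory RingTheory.Sequence

namespace Groth.Agent.H39.RegImmStalk3

variable {X Z : Scheme.{u}}

/-- The kernel of the stalk map, when over an affine open `U` the preimage is affine and the map
on sections is surjective. -/
theorem ker_stalkMap_eq_of_surjective (i : Z ⟶ X) (z : Z) (U : X.Opens) (hU : IsAffineOpen U)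
    (hzU : i z ∈ U) (hU' : IsAffineOpen (i ⁻¹ᵁ U)) (hsurj : Function.Surjective (i.app U).hom) :
    RingHom.ker (i.stalkMap z).hom =
      (RingHom.ker (i.app U).hom).map (X.presheaf.germ U (i z) hzU).hom := by
  have hzU' : z ∈ i ⁻¹ᵁ U := hzU
  letI := X.presheaf.algebra_section_stalk ⟨i z, hzU⟩
  haveI := hU.isLocalization_stalk ⟨i z, hzU⟩
  letI := Z.presheaf.algebra_section_stalk ⟨z, hzU'⟩
  haveI := hU'.isLocalization_stalk ⟨z, hzU'⟩
  refine Groth.Agent.H39.RegSpread2.ker_eq_map_ker_of_localization (i.app U).hom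
    hsurj (hU.primeIdealOf ⟨i z, hzU⟩).asIdeal
    (hU'.primeIdealOf ⟨z, hzU'⟩).asIdeal ?_ (i.stalkMap z).hom ?_
  · have := IsAffineOpen.comap_primeIdealOf_appLE U hU (i ⁻¹ᵁ U) hU' le_rfl hzU'
    have h2 := congr($(this).1)
    rw [Scheme.Hom.appLE_eq_app] at h2
    exact h2
  · have := Scheme.Hom.germ_stalkMap i U z hzU
    exact congr($(this).hom)

theorem ker_app_le_primeIdealOf (i : Z ⟶ X) (z : Z) (U : X.Opens) (hU : IsAffineOpen U)
    (hzU : i z ∈ U) (hU' : IsAffineOpen (i ⁻¹ᵁ U)) :
    RingHom.ker (i.app U).hom ≤ (hU.primeIdealOf ⟨i z, hzU⟩).asIdeal := by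
  have hzU' : z ∈ i ⁻¹ᵁ U := hzU
  have := IsAffineOpen.comap_primeIdealOf_appLE U hU (i ⁻¹ᵁ U) hU' le_rfl hzU'
  have h2 := congr($(this).1)
  rw [Scheme.Hom.appLE_eq_app] at h2
  rw [← h2]
  intro a ha
  rw [PrimeSpectrum.comap_asIdeal, Ideal.mem_comap, (RingHom.mem_ker).mp ha]
  exact zero_mem _

/-- If `i` restricts to a closed immersion over the affine open `U`, then the preimage of `U` is
affine and `i.app U` is surjective. -/
theorem isAffineOpen_preimage_and_surjective_of_isClosedImmersion_restrict (i : Z ⟶ X)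
    (U : X.Opens) (hU : IsAffineOpen U) [IsClosedImmersion (i ∣_ U)] :
    IsAffineOpen (i ⁻¹ᵁ U) ∧ Function.Surjective (i.app U).hom := by
  haveI : IsAffine (U : Scheme.{u}) := hU
  obtain ⟨h1, h2⟩ := IsClosedImmersion.isAffine_surjective_of_isAffine (i ∣_ U)
  refine ⟨h1, ?_⟩
  rw [morphismRestrict_appTop] at h2
  have h3 : Function.Surjective (i.app (U.ι ''ᵁ ⊤)).hom := by
    intro b
    obtain ⟨a, ha⟩ := h2 ((Z.presheaf.map (eqToHom (image_morphismRestrict_preimage i U ⊤)).op).hom b)
    refine ⟨a, ?_⟩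
    have hinj : Function.Injective
        (Z.presheaf.map (eqToHom (image_morphismRestrict_preimage i U ⊤)).op).hom :=
      (ConcreteCategory.bijective_of_isIso _).1
    apply hinj
    rw [← ha]
    rfl
  have key : ∀ W : X.Opens, W = U → Function.Surjective (i.app W).hom →
      Function.Surjective (i.app U).hom := by
    rintro W rfl h
    exact h
  exact key _ (by simp) h3

/-- An immersion restricts to a closed immersion over any open contained in the coborder of its
range. -/
theorem isClosedImmersion_restrict_of_le_coborderRange (i : Z ⟶ X) [IsImmersion i] (U : X.Opens)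
    (hU : U ≤ i.coborderRange) : IsClosedImmersion (i ∣_ U) := by
  refine IsClosedImmersion.of_isPreimmersion _ ?_
  have h1 : Set.range (i ∣_ U) = (Subtype.val : U → X) ⁻¹' closure (Set.range i) := by
    ext x
    constructor
    · rintro ⟨w, rfl⟩
      apply subset_closure
      exact ⟨w.1, (morphismRestrict_base_coe i U w).symm⟩
    · intro h
      have hx' : x.1 ∈ coborder (Set.range i) := hU x.2
      have hxr : x.1 ∈ Set.range i := by
        by_contra hni
        exact hx' ⟨h, hni⟩
      obtain ⟨w, hw⟩ := hxr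
      have hwU : w ∈ i ⁻¹ᵁ U := by
        change i w ∈ U
        rw [hw]
        exact x.2
      refine ⟨⟨w, hwU⟩, ?_⟩
      apply Subtype.ext
      rw [morphismRestrict_base_coe]
      exact hw
  rw [h1]
  exact isClosed_closure.preimage continuous_subtype_val

/-- **S18944**: the kernel of the stalk map of a regular immersion is a regular ideal. -/
theorem isRegularIdeal_ker_stalkMap_of_isRegularImmersionAt (i : Z ⟶ X) (z : Z)
    (h : RegImm.IsRegularImmersionAt RegImm.Kind.regular i z) :
    CInt.IsRegularIdeal (RingHom.ker (i.stalkMap z).hom) := by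
  obtain ⟨U, hzU, hcl, rs, hrs, hker⟩ := h
  haveI := hcl
  obtain ⟨hU', hsurj⟩ :=
    isAffineOpen_preimage_and_surjective_of_isClosedImmersion_restrict i U.1 U.2
  letI := X.presheaf.algebra_section_stalk ⟨i z, hzU⟩
  haveI := U.2.isLocalization_stalk ⟨i z, hzU⟩
  rw [ker_stalkMap_eq_of_surjective i z U.1 U.2 hzU hU' hsurj]
  exact Groth.Agent.H39.RegSpread2.isRegularIdeal_map_atPrime
    (U.2.primeIdealOf ⟨i z, hzU⟩).asIdeal (X.presheaf.stalk (i z)) _
    (ker_app_le_primeIdealOf i z U.1 U.2 hzU hU') ⟨rs, hrs, hker.symm⟩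

/-- On a locally Noetherian scheme, an immersion whose stalk-map kernel at `z` is a regular ideal
is a regular immersion at `z`. -/
theorem isRegularImmersionAt_of_isRegularIdeal_ker [IsLocallyNoetherian X] (i : Z ⟶ X)
    [IsImmersion i] (z : Z) (h : CInt.IsRegularIdeal (RingHom.ker (i.stalkMap z).hom)) :
    RegImm.IsRegularImmersionAt RegImm.Kind.regular i z := by
  have hzO : i z ∈ i.coborderRange := subset_coborder ⟨z, rfl⟩
  obtain ⟨_, ⟨U₀, hU₀ : IsAffineOpen U₀, rfl⟩, hzU₀, hU₀O⟩ :=
    X.isBasis_affineOpens.exists_subset_of_mem_open hzO i.coborderRange.2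
  haveI := isClosedImmersion_restrict_of_le_coborderRange i U₀ hU₀O
  obtain ⟨hU', hsurj⟩ :=
    isAffineOpen_preimage_and_surjective_of_isClosedImmersion_restrict i U₀ hU₀
  haveI : IsNoetherianRing Γ(X, U₀) := IsLocallyNoetherian.component_noetherian ⟨U₀, hU₀⟩
  letI := X.presheaf.algebra_section_stalk ⟨i z, hzU₀⟩
  haveI := hU₀.isLocalization_stalk ⟨i z, hzU₀⟩
  rw [ker_stalkMap_eq_of_surjective i z U₀ hU₀ hzU₀ hU' hsurj] at h
  obtain ⟨f, hf, H⟩ := Groth.Agent.H39.RegSpread2.isRegularIdeal_away_of_atPrime Γ(X, U₀)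
    (hU₀.primeIdealOf ⟨i z, hzU₀⟩).asIdeal (X.presheaf.stalk (i z)) (RingHom.ker (i.app U₀).hom)
    (ker_app_le_primeIdealOf i z U₀ hU₀ hzU₀ hU') h
  haveI := hU₀.isLocalization_basicOpen f
  have h1 := H Γ(X, X.basicOpen f)
  haveI : QuasiCompact i := by
    have : QuasiCompact (i.liftCoborder ≫ i.coborderRange.ι) := inferInstance
    rwa [i.liftCoborder_ι] at this
  have hle : X.basicOpen f ≤ i.coborderRange := (X.basicOpen_le f).trans hU₀O
  have hcl := isClosedImmersion_restrict_of_le_coborderRange i (X.basicOpen f) hle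
  have hker : RingHom.ker (i.app (X.basicOpen f)).hom =
      (RingHom.ker (i.app U₀).hom).map (algebraMap Γ(X, U₀) Γ(X, X.basicOpen f)) := by
    have h2 := i.ker.map_ideal_basicOpen ⟨U₀, hU₀⟩ f
    rw [Scheme.Hom.ker_apply, Scheme.Hom.ker_apply] at h2
    exact h2.symm
  obtain ⟨rs, hrs, hrsI⟩ := h1
  refine ⟨X.affineBasicOpen (U := ⟨U₀, hU₀⟩) f, ?_, hcl, rs, hrs, ?_⟩
  · change i z ∈ X.basicOpen f
    rw [Scheme.mem_basicOpen _ _ _ hzU₀]
    exact (IsLocalization.AtPrime.isUnit_to_map_iff (X.presheaf.stalk (i z))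
      (hU₀.primeIdealOf ⟨i z, hzU₀⟩).asIdeal f).mpr hf
  · change RingHom.ker (i.app (X.basicOpen f)).hom = _
    rw [hker]
    exact hrsI.symm

/-- **S8855**: an immersion of regular (locally Noetherian) schemes is a regular immersion. -/
theorem isRegularImmersion_of_regular (i : Z ⟶ X) [IsImmersion i] [IsLocallyNoetherian X]
    (hX : ∀ x : X, IsRegularLocalRing (X.presheaf.stalk x))
    (hZ : ∀ z : Z, IsRegularLocalRing (Z.presheaf.stalk z)) :
    RegImm.IsRegularImmersion RegImm.Kind.regular i := by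
  refine ⟨inferInstance, fun z => isRegularImmersionAt_of_isRegularIdeal_ker i z ?_⟩
  have hsurj : Function.Surjective (i.stalkMap z).hom := i.stalkMap_surjective z
  let e := RingHom.quotientKerEquivOfSurjective hsurj
  haveI := hX (i z)
  haveI := hZ z
  haveI : IsRegularLocalRing (X.presheaf.stalk (i z) ⧸ RingHom.ker (i.stalkMap z).hom) :=
    IsRegularLocalRing.of_ringEquiv e.symm
  exact Groth.Agent.H25.RegQuot.isRegularIdeal_of_regular _ _

end Groth.Agent.H39.RegImmStalk3
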