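import Mathlib
import Groth.Agent.H19.QuasiRegReg
import Groth.Prelude.Def_CInt

set_option autoImplicit false
set_option linter.style.haveILetI false
universe u

open RingTheory.Sequence MvPolynomial

namespace Groth.Agent.H39.QRLocal

variable {A : Type u} [CommRing A]

/-- Quasi-regular families localize. -/
theorem isQuasiRegular_of_isLocalization (S : Submonoid A) (B : Type u) [CommRing B]
    [Algebra A B] [IsLocalization S B] {c : ℕ} (f : Fin c → A) (hf : CAlgX.IsQuasiRegular f) :
    CAlgX.IsQuasiRegular (fun i => algebraMap A B (f i)) := by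
  classical
  intro n P hP hev d
  set φ := algebraMap A B with hφ
  set J : Ideal A := Ideal.span (Set.range f) with hJ
  have hJ' : Ideal.span (Set.range fun i => φ (f i)) = J.map φ := by
    rw [hJ, Ideal.map_span, ← Set.range_comp]
    rfl
  rw [hJ'] at hev ⊢
  -- clear denominators
  obtain ⟨s, hs⟩ := IsLocalization.exist_integer_multiples_of_finset S
    (P.support.image (fun d => P.coeff d))
  have hs' : ∀ d ∈ P.support, ∃ a : A, φ a = φ s * P.coeff d := by
    intro d hd
    obtain ⟨a, ha⟩ := hs (P.coeff d) (Finset.mem_image_of_mem _ hd)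
    exact ⟨a, by rw [ha, Algebra.smul_def]⟩
  choose! a ha using hs'
  let P₀ : MvPolynomial (Fin c) A := ∑ d ∈ P.support, monomial d (a d)
  have hP₀hom : P₀.IsHomogeneous n := by
    refine IsHomogeneous.sum _ _ _ fun d hd => ?_
    have hdeg : d.degree = n :=
      (Groth.Agent.H19.QReg.isHomogeneous_iff P n).mp hP d (mem_support_iff.mp hd)
    rw [← hdeg]
    exact isHomogeneous_monomial _ rfl
  have hmap : map φ P₀ = C (φ s) * P := by
    ext e
    rw [coeff_map, coeff_C_mul]
    simp only [P₀, coeff_sum, coeff_monomial]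
    rw [Finset.sum_ite_eq' P.support e]
    split_ifs with he
    · exact ha e he
    · rw [map_zero, notMem_support_iff.mp he, mul_zero]
  have hev₀ : φ (eval f P₀) = φ s * eval (fun i => φ (f i)) P := by
    have h1 : φ (eval f P₀) = eval (fun i => φ (f i)) (map φ P₀) := by
      rw [eval_map]
      exact (eval₂_comp_left φ (RingHom.id A) f P₀).trans (by simp [Function.comp_def])
    rw [h1, hmap, map_mul, eval_C]
  have hmem : φ (eval f P₀) ∈ (J ^ (n + 1)).map φ := by
    rw [hev₀, Ideal.map_pow]
    exact Ideal.mul_mem_left _ _ hev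
  rw [IsLocalization.mem_map_algebraMap_iff S] at hmem
  obtain ⟨⟨⟨j, hj⟩, m⟩, hjm⟩ := hmem
  simp only at hjm
  rw [← map_mul, IsLocalization.eq_iff_exists S] at hjm
  obtain ⟨u, hu⟩ := hjm
  let t : A := u * m
  have htS : t ∈ S := (u * m).2
  have hQ : (C t * P₀).IsHomogeneous n := by
    have := (isHomogeneous_C (Fin c) t).mul hP₀hom
    simpa using this
  have hQev : eval f (C t * P₀) ∈ Ideal.span (Set.range f) ^ (n + 1) := by
    rw [map_mul, eval_C]
    have : t * eval f P₀ = u * j := by
      rw [← hu]; ring
    rw [this]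
    exact Ideal.mul_mem_left _ _ hj
  have hcoef := hf n (C t * P₀) hQ hQev d
  rw [coeff_C_mul] at hcoef
  by_cases hd : d ∈ P.support
  · have h2 : coeff d P₀ = a d := by
      simp only [P₀, coeff_sum, coeff_monomial]
      rw [Finset.sum_ite_eq' P.support d, if_pos hd]
    rw [h2] at hcoef
    have h3 : φ (t * a d) ∈ J.map φ := Ideal.mem_map_of_mem _ hcoef
    rw [map_mul, ha d hd, ← mul_assoc] at h3
    have hunit : IsUnit (φ t * φ s) :=
      (IsLocalization.map_units B ⟨t, htS⟩).mul (IsLocalization.map_units B s)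
    exact (Ideal.unit_mul_mem_iff_mem _ hunit).mp h3
  · rw [notMem_support_iff.mp hd]
    exact zero_mem _

/-- A quasi-regular sequence in a Noetherian ring generates, after localizing at a prime
containing it, an ideal generated by a regular sequence. -/
theorem isRegularIdeal_map_atPrime_of_quasiRegular [IsNoetherianRing A] (p : Ideal A) [p.IsPrime]
    (B : Type u) [CommRing B] [Algebra A B] [IsLocalization.AtPrime B p] (rs : List A)
    (hrs : CAlgX.IsQuasiRegular rs.get) (hIp : Ideal.ofList rs ≤ p) :
    CInt.IsRegularIdeal ((Ideal.ofList rs).map (algebraMap A B)) := by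
  haveI : IsLocalRing B := IsLocalization.AtPrime.isLocalRing B p
  haveI : IsNoetherianRing B := IsLocalization.isNoetherianRing p.primeCompl B inferInstance
  have hqr := isQuasiRegular_of_isLocalization p.primeCompl B rs.get hrs
  have hmem : ∀ i, algebraMap A B (rs.get i) ∈ IsLocalRing.maximalIdeal B := by
    intro i
    rw [IsLocalization.AtPrime.to_map_mem_maximal_iff B p]
    exact hIp (Ideal.subset_span (List.get_mem rs i))
  have hw : IsWeaklyRegular B (List.ofFn fun i => algebraMap A B (rs.get i)) := by
    refine Groth.Agent.H19.QReg.isWeaklyRegular_of_qr rs.length B _ (fun i => ?_) hqr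
    rw [IsLocalRing.ringJacobson_eq_maximalIdeal]
    exact hmem i
  have hlist : (List.ofFn fun i => algebraMap A B (rs.get i)) = rs.map (algebraMap A B) := by
    have : (fun i => algebraMap A B (rs.get i)) = (algebraMap A B) ∘ rs.get := rfl
    rw [this, ← List.map_ofFn, List.ofFn_get]
  rw [hlist] at hw
  refine ⟨rs.map (algebraMap A B), ?_, (Ideal.map_ofList _ _).symm⟩
  refine (IsLocalRing.isRegular_iff_isWeaklyRegular_of_subset_maximalIdeal ?_).mpr hw
  intro r hr
  obtain ⟨a, ha, rfl⟩ := List.mem_map.mp hr
  obtain ⟨i, rfl⟩ := List.mem_iff_get.mp ha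
  exact hmem i

end Groth.Agent.H39.QRLocal
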