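import Mathlib
import Groth.Agent.H39.QRLocal
import Groth.Prelude.Def_RegImm
import Groth.Agent.H46.H1RegBaseChange
import Groth.Agent.H19.QuasiRegBC

set_option autoImplicit false
set_option linter.style.haveILetI false
universe u

open TensorProduct

namespace Groth.Agent.H39.RelRegAlg

variable {A : Type u} [CommRing A]

/-- Trivial relations map to trivial relations under a ring hom. -/
theorem map_mem_trivRel {B : Type u} [CommRing B] (φ : A →+* B) {c : ℕ} (f : Fin c → A)
    (t : Fin c → A)
    (ht : t ∈ Submodule.span A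
      {v : Fin c → A | ∃ i j : Fin c, v = Pi.single i (f j) - Pi.single j (f i)}) :
    (fun k => φ (t k)) ∈ Submodule.span B
      {v : Fin c → B | ∃ i j : Fin c, v = Pi.single i (φ (f j)) - Pi.single j (φ (f i))} := by
  classical
  induction ht using Submodule.span_induction with
  | mem t ht =>
    obtain ⟨i, j, rfl⟩ := ht
    refine Submodule.subset_span ⟨i, j, ?_⟩
    funext k
    simp only [Pi.sub_apply, map_sub]
    congr 1
    · by_cases h : k = i
      · subst h; simp
      · simp [Pi.single_eq_of_ne h]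
    · by_cases h : k = j
      · subst h; simp
      · simp [Pi.single_eq_of_ne h]
  | zero =>
    have : (fun k => φ ((0 : Fin c → A) k)) = (0 : Fin c → B) := by
      funext k; simp
    rw [this]; exact Submodule.zero_mem _
  | add t t' _ _ iht iht' =>
    have : (fun k => φ ((t + t') k)) = (fun k => φ (t k)) + (fun k => φ (t' k)) := by
      funext k; simp
    rw [this]; exact Submodule.add_mem _ iht iht'
  | smul b t _ iht =>
    have : (fun k => φ ((b • t) k)) = φ b • (fun k => φ (t k)) := by
      funext k; simp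
    rw [this]; exact Submodule.smul_mem _ _ iht

/-- `H_1`-regular families localize. -/
theorem isH1Regular_of_isLocalization (M : Submonoid A) (B : Type u) [CommRing B]
    [Algebra A B] [IsLocalization M B] {c : ℕ} (f : Fin c → A) (hf : CAlgX.IsH1Regular f) :
    CAlgX.IsH1Regular (fun i => algebraMap A B (f i)) := by
  classical
  intro a' ha'
  obtain ⟨b, hb⟩ := IsLocalization.exist_integer_multiples M (Finset.univ : Finset (Fin c)) a'
  choose a ha using fun i => hb i (Finset.mem_univ i)
  -- `algebraMap (a i) = b • a' i`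
  have h1 : algebraMap A B (∑ i, a i * f i) = 0 := by
    rw [map_sum]
    have : ∀ i, algebraMap A B (a i * f i) = algebraMap A B b * (a' i * algebraMap A B (f i)) := by
      intro i
      rw [map_mul, ha i, Algebra.smul_def]
      ring
    rw [Finset.sum_congr rfl (fun i _ => this i), ← Finset.mul_sum, ha', mul_zero]
  obtain ⟨u, hu⟩ := (IsLocalization.map_eq_zero_iff M B _).mp h1
  have h2 : ∑ i, (u * a i) * f i = 0 := by
    rw [← hu, Finset.mul_sum]
    exact Finset.sum_congr rfl (fun i _ => by ring)
  have h3 := map_mem_trivRel (algebraMap A B) f _ (hf (fun i => u * a i) h2)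
  have hunit : IsUnit (algebraMap A B (u * b)) := IsLocalization.map_units B (u * b)
  obtain ⟨w, hw⟩ := hunit
  have h4 : a' = (↑w⁻¹ : B) • (fun k => algebraMap A B (u * a k)) := by
    funext k
    simp only [Pi.smul_apply, smul_eq_mul]
    rw [map_mul, ha k, Algebra.smul_def, eq_comm, Units.inv_mul_eq_iff_eq_mul, hw]
    simp only [map_mul]
    ring
  rw [h4]
  exact Submodule.smul_mem _ _ h3

/-- `H_1`-regular families are preserved by ring isomorphisms. -/
theorem isH1Regular_ringEquiv {B : Type u} [CommRing B] (e : A ≃+* B) {c : ℕ} (f : Fin c → A)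
    (hf : CAlgX.IsH1Regular f) : CAlgX.IsH1Regular (fun i => e (f i)) := by
  letI := e.toRingHom.toAlgebra
  haveI : IsLocalization (⊥ : Submonoid A) B := by
    have : IsLocalization.Away (1 : A) B :=
      IsLocalization.away_of_isUnit_of_bijective B isUnit_one e.bijective
    have h2 : Submonoid.powers (1 : A) = ⊥ := by simp
    rwa [IsLocalization.Away, h2] at this
  exact isH1Regular_of_isLocalization (⊥ : Submonoid A) B f hf

/-- Quasi-regular families are preserved by ring isomorphisms. -/
theorem isQuasiRegular_ringEquiv {B : Type u} [CommRing B] (e : A ≃+* B) {c : ℕ} (f : Fin c → A)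
    (hf : CAlgX.IsQuasiRegular f) : CAlgX.IsQuasiRegular (fun i => e (f i)) := by
  letI := e.toRingHom.toAlgebra
  haveI : IsLocalization (⊥ : Submonoid A) B := by
    have : IsLocalization.Away (1 : A) B :=
      IsLocalization.away_of_isUnit_of_bijective B isUnit_one e.bijective
    have h2 : Submonoid.powers (1 : A) = ⊥ := by simp
    rwa [IsLocalization.Away, h2] at this
  exact Groth.Agent.H39.QRLocal.isQuasiRegular_of_isLocalization (⊥ : Submonoid A) B f hf


open CategoryTheory CategoryTheory.Limits

/-- In a pushout square of commutative rings with `φ` surjective, the kernel of the opposite map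
`β` is the extension of the kernel of `φ`. -/
theorem ker_inr_of_isPushout_of_surjective {R A B P : CommRingCat.{u}} {φ : R ⟶ A} {γ : R ⟶ B}
    {α : A ⟶ P} {β : B ⟶ P} (h : IsPushout φ γ α β) (hφ : Function.Surjective φ.hom) :
    RingHom.ker β.hom = (RingHom.ker φ.hom).map γ.hom := by
  apply le_antisymm
  · set K : Ideal B := (RingHom.ker φ.hom).map γ.hom with hK
    let mk' : B ⟶ CommRingCat.of (B ⧸ K) := CommRingCat.ofHom (Ideal.Quotient.mk K)
    have hle : RingHom.ker φ.hom ≤ RingHom.ker ((Ideal.Quotient.mk K).comp γ.hom) := by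
      intro r hr
      rw [RingHom.mem_ker, RingHom.comp_apply, Ideal.Quotient.eq_zero_iff_mem]
      exact Ideal.mem_map_of_mem _ hr
    let α' : A ⟶ CommRingCat.of (B ⧸ K) :=
      CommRingCat.ofHom (RingHom.liftOfSurjective φ.hom hφ ⟨(Ideal.Quotient.mk K).comp γ.hom, hle⟩)
    have hcomm : φ ≫ α' = γ ≫ mk' := by
      ext r
      exact RingHom.liftOfSurjective_comp_apply φ.hom hφ
        ⟨(Ideal.Quotient.mk K).comp γ.hom, hle⟩ r
    let d : P ⟶ CommRingCat.of (B ⧸ K) := h.desc α' mk' hcomm
    have hd : β ≫ d = mk' := h.inr_desc _ _ _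
    intro b hb
    have h1 : d.hom (β.hom b) = Ideal.Quotient.mk K b := congr($(hd).hom b)
    rw [(RingHom.mem_ker).mp hb, map_zero] at h1
    exact Ideal.Quotient.eq_zero_iff_mem.mp h1.symm
  · rw [Ideal.map_le_iff_le_comap]
    intro r hr
    rw [Ideal.mem_comap, RingHom.mem_ker]
    have : β.hom (γ.hom r) = α.hom (φ.hom r) := congr($(h.w.symm).hom r)
    rw [this, (RingHom.mem_ker).mp hr, map_zero]

/-- In a pushout square of commutative rings, `P` is the tensor product. -/
theorem exists_tensor_ringEquiv_of_isPushout {R A B P : CommRingCat.{u}} {φ : R ⟶ A} {γ : R ⟶ B}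
    {α : A ⟶ P} {β : B ⟶ P} (h : IsPushout φ γ α β) :
    letI := φ.hom.toAlgebra
    letI := γ.hom.toAlgebra
    ∃ e : (B ⊗[R] A) ≃+* P, (∀ a : A, e ((1 : B) ⊗ₜ[R] a) = α.hom a) ∧
      (∀ b : B, e (b ⊗ₜ[R] (1 : A)) = β.hom b) := by
  letI := φ.hom.toAlgebra
  letI := γ.hom.toAlgebra
  have h1 := CommRingCat.isPushout_tensorProduct R B A
  have h2 : IsPushout (CommRingCat.ofHom (algebraMap R B)) (CommRingCat.ofHom (algebraMap R A))
      β α := h.flip
  let E := h1.isoIsPushout _ _ h2
  refine ⟨E.commRingCatIsoToRingEquiv, fun a => ?_, fun b => ?_⟩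
  · have := h1.inr_isoIsPushout_hom _ _ h2
    exact congr($(this).hom a)
  · have := h1.inl_isoIsPushout_hom _ _ h2
    exact congr($(this).hom b)


theorem isH1Regular_congr {R : Type u} [CommRing R] {c c' : ℕ} (h : c' = c) (f : Fin c → R)
    (g : Fin c' → R) (hg : ∀ i, g i = f (Fin.cast h i)) (hf : CAlgX.IsH1Regular f) :
    CAlgX.IsH1Regular g := by
  subst h
  have : g = f := funext fun i => by simpa using hg i
  rw [this]; exact hf

theorem isQuasiRegular_congr {R : Type u} [CommRing R] {c c' : ℕ} (h : c' = c) (f : Fin c → R)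
    (g : Fin c' → R) (hg : ∀ i, g i = f (Fin.cast h i)) (hf : CAlgX.IsQuasiRegular f) :
    CAlgX.IsQuasiRegular g := by
  subst h
  have : g = f := funext fun i => by simpa using hg i
  rw [this]; exact hf

theorem isH1Regular_get_of_eq_ofFn {R : Type u} [CommRing R] {c : ℕ} (f : Fin c → R)
    (hf : CAlgX.IsH1Regular f) (l : List R) (hl : l = List.ofFn f) :
    CAlgX.IsH1Regular l.get := by
  subst hl
  exact isH1Regular_congr (List.length_ofFn) f _ (fun i => by simp; rfl) hf

theorem isQuasiRegular_get_of_eq_ofFn {R : Type u} [CommRing R] {c : ℕ} (f : Fin c → R)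
    (hf : CAlgX.IsQuasiRegular f) (l : List R) (hl : l = List.ofFn f) :
    CAlgX.IsQuasiRegular l.get := by
  subst hl
  exact isQuasiRegular_congr (List.length_ofFn) f _ (fun i => by simp; rfl) hf

theorem map_eq_ofFn {R R' : Type*} (g : R → R') (l : List R) :
    l.map g = List.ofFn (fun i => g (l.get i)) := by
  have : (fun i => g (l.get i)) = g ∘ l.get := rfl
  rw [this, ← List.map_ofFn, List.ofFn_get]

theorem span_range_get {R : Type*} [CommRing R] (l : List R) :
    Ideal.span (Set.range l.get) = Ideal.ofList l := by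
  rw [Ideal.ofList]
  congr 1
  ext b
  constructor
  · rintro ⟨k, rfl⟩
    exact List.get_mem l k
  · intro hb
    obtain ⟨k, rfl⟩ := List.mem_iff_get.mp hb
    exact ⟨k, rfl⟩

/-- Sequences of kind `h1` or `quasi` are preserved by ring isomorphisms. -/
theorem kindSeq_map_ringEquiv {R R' : Type u} [CommRing R] [CommRing R'] (e : R ≃+* R')
    (k : RegImm.Kind) (hk : k = RegImm.Kind.h1 ∨ k = RegImm.Kind.quasi) (rs : List R)
    (hrs : k.Seq R rs) : k.Seq R' (rs.map e) := by
  rcases hk with rfl | rfl
  · exact isH1Regular_get_of_eq_ofFn _ (isH1Regular_ringEquiv e rs.get hrs) _ (map_eq_ofFn _ _)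
  · exact isQuasiRegular_get_of_eq_ofFn _ (isQuasiRegular_ringEquiv e rs.get hrs) _
      (map_eq_ofFn _ _)

/-- Sequences of kind `h1` or `quasi` localize. -/
theorem kindSeq_map_of_isLocalization {R : Type u} [CommRing R] (M : Submonoid R) (R' : Type u)
    [CommRing R'] [Algebra R R'] [IsLocalization M R']
    (k : RegImm.Kind) (hk : k = RegImm.Kind.h1 ∨ k = RegImm.Kind.quasi) (rs : List R)
    (hrs : k.Seq R rs) : k.Seq R' (rs.map (algebraMap R R')) := by
  rcases hk with rfl | rfl
  · exact isH1Regular_get_of_eq_ofFn _ (isH1Regular_of_isLocalization M R' rs.get hrs) _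
      (map_eq_ofFn _ _)
  · exact isQuasiRegular_get_of_eq_ofFn _
      (Groth.Agent.H39.QRLocal.isQuasiRegular_of_isLocalization M R' rs.get hrs) _
      (map_eq_ofFn _ _)

/-- **Base change of sequences of kind `h1` or `quasi` with flat quotient**, in pushout form. -/
theorem kindSeq_of_isPushout {R A B P : CommRingCat.{u}} {φ : R ⟶ A} {γ : R ⟶ B}
    {α : A ⟶ P} {β : B ⟶ P} (h : IsPushout φ γ α β) (k : RegImm.Kind)
    (hk : k = RegImm.Kind.h1 ∨ k = RegImm.Kind.quasi) (rs : List A) (hrs : k.Seq A rs)
    {C : Type u} [CommRing C] (ψ : A →+* C) (hψ : Function.Surjective ψ)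
    (hker : RingHom.ker ψ = Ideal.ofList rs) (hfl : (ψ.comp φ.hom).Flat) :
    k.Seq P (rs.map α.hom) := by
  letI := φ.hom.toAlgebra
  letI := γ.hom.toAlgebra
  obtain ⟨e, he1, he2⟩ := exists_tensor_ringEquiv_of_isPushout h
  letI : Algebra R C := (ψ.comp φ.hom).toAlgebra
  haveI hflC : Module.Flat R C := hfl
  have hker' : RingHom.ker ψ = Ideal.span (Set.range rs.get) := by rw [hker, span_range_get]
  let e0 : (A ⧸ Ideal.span (Set.range rs.get)) ≃+* C :=
    (Ideal.quotEquivOfEq hker'.symm).trans (RingHom.quotientKerEquivOfSurjective hψ)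
  have he0 : ∀ b : A, e0 (Ideal.Quotient.mk _ b) = ψ b := fun b => rfl
  let el : (A ⧸ Ideal.span (Set.range rs.get)) ≃ₗ[R] C :=
    { e0.toAddEquiv with
      map_smul' := by
        intro a x
        obtain ⟨b, rfl⟩ := Ideal.Quotient.mk_surjective x
        change e0 (a • Ideal.Quotient.mk _ b) = a • e0 (Ideal.Quotient.mk _ b)
        rw [Algebra.smul_def, Algebra.smul_def, map_mul, he0]
        rfl }
  haveI hflat : Module.Flat R (A ⧸ Ideal.span (Set.range rs.get)) := Module.Flat.of_linearEquiv el
  have hmap : rs.map α.hom = (rs.map fun a => ((1 : B) ⊗ₜ[R] a : B ⊗[R] A)).map e := by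
    rw [List.map_map]
    apply List.map_congr_left
    intro a _
    exact (he1 a).symm
  rw [hmap]
  refine kindSeq_map_ringEquiv e k hk _ ?_
  rcases hk with rfl | rfl
  · exact isH1Regular_get_of_eq_ofFn _
      (Groth.Agent.H46.isH1Regular_baseChange R A B rs.length rs.get hflat hrs) _ (map_eq_ofFn _ _)
  · exact isQuasiRegular_get_of_eq_ofFn _
      (Groth.Agent.H19.QuasiRegBC.main rs.get B hrs) _ (map_eq_ofFn _ _)

end Groth.Agent.H39.RelRegAlg
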