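import Mathlib
import Groth.Agent.H39.RelRegAlg
import Groth.Agent.H39.RegImmStalk3

set_option autoImplicit false
set_option linter.style.haveILetI false
universe u

open AlgebraicGeometry CategoryTheory CategoryTheory.Limits

namespace Groth.Agent.H39.RelRegGeom

open Groth.Agent.H39.RegImmStalk3 Groth.Agent.H39.RelRegAlg

section B

variable {X Y S T : Scheme.{u}} {f : T ⟶ S} {g : Y ⟶ X} {iX : X ⟶ S} {iY : Y ⟶ T}
  (H : IsPullback g iY iX f) {US : S.Opens} {UT : T.Opens} (hUST : UT ≤ f ⁻¹ᵁ US)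

include H hUST in
theorem preimage_eq_inf : iY ⁻¹ᵁ UT = g ⁻¹ᵁ (iX ⁻¹ᵁ US) ⊓ iY ⁻¹ᵁ UT := by
  apply le_antisymm
  · refine le_inf ?_ le_rfl
    intro y hy
    change iX (g y) ∈ US
    have h1 : iX (g y) = f (iY y) := by
      rw [← Scheme.Hom.comp_apply, ← Scheme.Hom.comp_apply, H.w]
    rw [h1]
    exact hUST hy
  · exact inf_le_right

include H hUST in
/-- The base change of a morphism restricting to a closed immersion over `US` restricts to a
closed immersion over any open mapping into `US`. -/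
theorem isClosedImmersion_restrict_of_isPullback [IsClosedImmersion (iX ∣_ US)] :
    IsClosedImmersion (iY ∣_ UT) := by
  have hpb := Scheme.Hom.isPullback_resLE H hUST (le_refl (iX ⁻¹ᵁ US)) (preimage_eq_inf H hUST)
  simp only [Scheme.Hom.resLE_eq_morphismRestrict] at hpb
  exact MorphismProperty.of_isPullback (P := @IsClosedImmersion) hpb inferInstance

include H hUST in
/-- Kernel of the base change on affine opens. -/
theorem ker_app_of_isPullback (hUS : IsAffineOpen US) (hUT : IsAffineOpen UT)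
    [IsClosedImmersion (iX ∣_ US)] :
    RingHom.ker (iY.app UT).hom =
      (RingHom.ker (iX.app US).hom).map (f.appLE US UT hUST).hom := by
  obtain ⟨hUX, hsurj⟩ :=
    isAffineOpen_preimage_and_surjective_of_isClosedImmersion_restrict iX US hUS
  have hiso := isIso_pushoutSection_of_isAffineOpen H hUST (le_refl (iX ⁻¹ᵁ US))
    (preimage_eq_inf H hUST) hUS hUT hUX
  have hpo := (isIso_pushoutSection_iff H hUST (le_refl (iX ⁻¹ᵁ US))
    (preimage_eq_inf H hUST)).mp hiso
  have hk := ker_inr_of_isPushout_of_surjective hpo (by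
    rw [Scheme.Hom.appLE_eq_app]; exact hsurj)
  rw [Scheme.Hom.appLE_eq_app, Scheme.Hom.appLE_eq_app] at hk
  exact hk

end B


/-- Base change of relative `H_1`-regular / quasi-regular immersions, for abstract pullback
squares. -/
theorem relRegularImmersion_of_isPullback {Z X S S' X' Z' : Scheme.{u}} {f : X ⟶ S} {i : Z ⟶ X}
    {g : S' ⟶ S} {g' : X' ⟶ X} {f' : X' ⟶ S'} {p : Z' ⟶ Z} {i' : Z' ⟶ X'}
    (H₁ : IsPullback p i' i g') (H₂ : IsPullback g' f' f g)
    (k : RegImm.Kind) (hk : k = RegImm.Kind.h1 ∨ k = RegImm.Kind.quasi)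
    (hi : RegImm.IsRelRegularImmersion k f i) :
    RegImm.IsRelRegularImmersion k f' i' := by
  obtain ⟨⟨himm, hreg⟩, hflat⟩ := hi
  haveI := himm
  haveI := hflat
  haveI : IsImmersion i' := MorphismProperty.of_isPullback (P := @IsImmersion) H₁ himm
  refine ⟨⟨inferInstance, fun z' => ?_⟩, ?_⟩
  · obtain ⟨U, hzU, hcl, rs, hrs, hker⟩ := hreg (p z')
    haveI := hcl
    have hgi : g' (i' z') = i (p z') := by
      rw [← Scheme.Hom.comp_apply, ← Scheme.Hom.comp_apply, H₁.w]
    have hgf : g (f' (i' z')) = f (i (p z')) := by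
      have h1 : g (f' (i' z')) = f (g' (i' z')) := by
        generalize i' z' = y
        rw [← Scheme.Hom.comp_apply, ← Scheme.Hom.comp_apply, H₂.w]
      rw [h1, hgi]
    obtain ⟨_, ⟨V, hV, rfl⟩, hsV, -⟩ := S.isBasis_affineOpens.exists_subset_of_mem_open
      (Set.mem_univ (f (i (p z')))) isOpen_univ
    have hs' : f' (i' z') ∈ g ⁻¹ᵁ V := by
      change g (f' (i' z')) ∈ V
      rw [hgf]; exact hsV
    obtain ⟨_, ⟨V', hV', rfl⟩, hsV', hV'V⟩ :=
      S'.isBasis_affineOpens.exists_subset_of_mem_open hs' (g ⁻¹ᵁ V).2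
    obtain ⟨h, hhle, hxh⟩ := U.2.exists_basicOpen_le (V := U.1 ⊓ f ⁻¹ᵁ V)
      ⟨i (p z'), ⟨hzU, hsV⟩⟩ hzU
    set U₁ : X.Opens := X.basicOpen h with hU₁def
    have hU₁ : IsAffineOpen U₁ := U.2.basicOpen h
    have hU₁U : U₁ ≤ U.1 := X.basicOpen_le h
    have hU₁V : U₁ ≤ f ⁻¹ᵁ V := hhle.trans inf_le_right
    set U' : X'.Opens := g' ⁻¹ᵁ U₁ ⊓ f' ⁻¹ᵁ V' with hU'def
    have hU' : IsAffineOpen U' := by
      haveI : IsAffine (V : Scheme.{u}) := hV
      haveI : IsAffine (V' : Scheme.{u}) := hV'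
      haveI : IsAffine (U₁ : Scheme.{u}) := hU₁
      exact .of_isIso (Scheme.Hom.isPullback_resLE H₂ hV'V hU₁V rfl).isoPullback.hom
    have hz'U' : i' z' ∈ U' := by
      refine ⟨?_, hsV'⟩
      change g' (i' z') ∈ U₁
      rw [hgi]; exact hxh
    have hU'U : U' ≤ g' ⁻¹ᵁ U.1 := inf_le_left.trans (g'.preimage_mono hU₁U)
    have hcl' : IsClosedImmersion (i' ∣_ U') := isClosedImmersion_restrict_of_isPullback H₁ hU'U
    have hker' := ker_app_of_isPullback H₁ hU'U U.2 hU'
    refine ⟨⟨U', hU'⟩, hz'U', hcl', rs.map (g'.appLE U.1 U' hU'U).hom, ?_, ?_⟩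
    · -- the kind of the new sequence
      haveI := U.2.isLocalization_basicOpen h
      have hrs₁ : k.Seq Γ(X, U₁) (rs.map (algebraMap Γ(X, U.1) Γ(X, U₁))) :=
        kindSeq_map_of_isLocalization (Submonoid.powers h) Γ(X, U₁) k hk rs hrs
      have H₀ : IsPullback (𝟙 Z) i i (𝟙 X) := IsPullback.id_horiz i
      have hU₁U' : U₁ ≤ (𝟙 X) ⁻¹ᵁ U.1 := hU₁U
      haveI hcl₁ : IsClosedImmersion (i ∣_ U₁) :=
        isClosedImmersion_restrict_of_isPullback H₀ hU₁U'
      have hker₁ := ker_app_of_isPullback H₀ hU₁U' U.2 hU₁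
      obtain ⟨hU₁', hsurj₁⟩ :=
        isAffineOpen_preimage_and_surjective_of_isClosedImmersion_restrict i U₁ hU₁
      have hid : (Scheme.Hom.appLE (𝟙 X) U.1 U₁ hU₁U').hom = algebraMap Γ(X, U.1) Γ(X, U₁) := by
        simp only [Scheme.Hom.appLE, Scheme.Hom.id_app]
        rfl
      rw [hid, hker, Ideal.map_ofList] at hker₁
      have hle : i ⁻¹ᵁ U₁ ≤ (i ≫ f) ⁻¹ᵁ V := by
        intro w hw
        exact hU₁V hw
      have hfl0 : ((i ≫ f).appLE V (i ⁻¹ᵁ U₁) hle).hom.Flat :=
        HasRingHomProperty.appLE (P := @Flat) (i ≫ f) inferInstance ⟨V, hV⟩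
          ⟨i ⁻¹ᵁ U₁, hU₁'⟩ hle
      have hfl : ((i.app U₁).hom.comp (f.appLE V U₁ hU₁V).hom).Flat := by
        have h1 : (i ≫ f).appLE V (i ⁻¹ᵁ U₁) hle = f.appLE V U₁ hU₁V ≫ i.app U₁ := by
          rw [← Scheme.Hom.appLE_eq_app, Scheme.Hom.appLE_comp_appLE]
        rw [h1] at hfl0
        exact hfl0
      have hpo := (isIso_pushoutSection_iff H₂ hV'V hU₁V rfl).mp
        (isIso_pushoutSection_of_isAffineOpen H₂ hV'V hU₁V rfl hV hV' hU₁)
      have hkind := kindSeq_of_isPushout hpo k hk _ hrs₁ (i.app U₁).hom hsurj₁ hker₁ hfl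
      have hlist : (rs.map (algebraMap Γ(X, U.1) Γ(X, U₁))).map
          (g'.appLE U₁ U' (by simp [hU'def])).hom = rs.map (g'.appLE U.1 U' hU'U).hom := by
        rw [List.map_map]
        apply List.map_congr_left
        intro a _
        have h1 := Scheme.Hom.map_appLE g' (U := U₁) (V := U') (by simp [hU'def])
          (homOfLE hU₁U).op
        exact congr($(h1).hom a)
      rw [← hlist]
      exact hkind
    · rw [hker', hker, Ideal.map_ofList]
  · have hp : IsPullback (i' ≫ f') p g (i ≫ f) := H₁.flip.paste_horiz H₂.flip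
    exact MorphismProperty.of_isPullback (P := @Flat) hp.flip hflat

/-- **S8892**: base change of relative `H_1`-regular / quasi-regular immersions. -/
theorem relRegularImmersion_baseChange {Z X S S' : Scheme.{u}} (f : X ⟶ S) (i : Z ⟶ X)
    (k : RegImm.Kind) (hk : k = RegImm.Kind.h1 ∨ k = RegImm.Kind.quasi)
    (hi : RegImm.IsRelRegularImmersion k f i) (g : S' ⟶ S) :
    RegImm.IsRelRegularImmersion k (pullback.snd f g) (pullback.snd i (pullback.fst f g)) :=
  relRegularImmersion_of_isPullback (IsPullback.of_hasPullback i (pullback.fst f g))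
    (IsPullback.of_hasPullback f g) k hk hi

end Groth.Agent.H39.RelRegGeom
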