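import Mathlib
import Groth.Agent.H79.KoszulNat
import Groth.Agent.H39.RelRegGeom

set_option autoImplicit false
set_option linter.style.haveILetI false
universe u

open AlgebraicGeometry CategoryTheory CategoryTheory.Limits

namespace Groth.Agent.H39.KoszulFlatBC

open Groth.Agent.H39.RegImmStalk3 Groth.Agent.H39.RelRegGeom

/-- Koszul-regular sequences are preserved by flat ring maps. -/
theorem isKoszulRegularSeq_map_of_flat {B S : Type u} [CommRing B] [CommRing S] (φ : B →+* S)
    (hφ : φ.Flat) (l : List B) (hl : LCI.IsKoszulRegularSeq B l) :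
    LCI.IsKoszulRegularSeq S (l.map φ) := by
  intro i hi
  show IsZero ((Koszul.koszul S (l.map φ)).homology i)
  rw [Groth.Agent.H79.KoszulCone.koszul_eq,
    ← Groth.Agent.H79.KoszulNat.isZero_homology_restrict_iff φ (ModuleCat.of S S) l i]
  letI := φ.toAlgebra
  haveI : Module.Flat B ((ModuleCat.restrictScalars φ).obj (ModuleCat.of S S)) := hφ
  exact Groth.Agent.H79.KoszulNat.isZero_homology_of_flat l i (hl i hi) _

/-- **S8652**: flat base change of Koszul-regular immersions. -/
theorem koszulRegularImmersion_baseChange_flat {X Y X' Y' : Scheme.{u}} (i : Y ⟶ X) (g : X' ⟶ X)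
    [Flat g] (i' : Y' ⟶ X') (g' : Y' ⟶ Y) (hsq : IsPullback g' i' i g)
    (hi : RegImm.IsRegularImmersion .koszul i) : RegImm.IsRegularImmersion .koszul i' := by
  obtain ⟨himm, hreg⟩ := hi
  haveI : IsImmersion i' := MorphismProperty.of_isPullback (P := @IsImmersion) hsq himm
  refine ⟨inferInstance, fun z' => ?_⟩
  obtain ⟨U, hzU, hcl, rs, hrs, hker⟩ := hreg (g' z')
  haveI := hcl
  have hgi : g (i' z') = i (g' z') := by
    rw [← Scheme.Hom.comp_apply, ← Scheme.Hom.comp_apply, hsq.w]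
  have hx' : i' z' ∈ g ⁻¹ᵁ U.1 := by
    change g (i' z') ∈ U.1
    rw [hgi]; exact hzU
  obtain ⟨_, ⟨U', hU', rfl⟩, hz'U', hU'U⟩ :=
    X'.isBasis_affineOpens.exists_subset_of_mem_open hx' (g ⁻¹ᵁ U.1).2
  have hcl' : IsClosedImmersion (i' ∣_ U') := isClosedImmersion_restrict_of_isPullback hsq hU'U
  have hker' := ker_app_of_isPullback hsq hU'U U.2 hU'
  have hflat : (g.appLE U.1 U' hU'U).hom.Flat :=
    HasRingHomProperty.appLE (P := @Flat) g inferInstance U ⟨U', hU'⟩ hU'U
  refine ⟨⟨U', hU'⟩, hz'U', hcl', rs.map (g.appLE U.1 U' hU'U).hom, ?_, ?_⟩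
  · exact isKoszulRegularSeq_map_of_flat _ hflat rs hrs
  · rw [hker', hker, Ideal.map_ofList]

end Groth.Agent.H39.KoszulFlatBC
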