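import Mathlib
import Groth.Agent.H39.RelRegGeom

set_option autoImplicit false
set_option linter.style.haveILetI false
universe u

open AlgebraicGeometry CategoryTheory CategoryTheory.Limits

namespace Groth.Agent.H39.ImmCompChart

open Groth.Agent.H39.RegImmStalk3 Groth.Agent.H39.RelRegGeom

variable {X Y Z : Scheme.{u}}

/-- Restriction of "closed immersion over `U`" to a smaller open. -/
theorem isClosedImmersion_restrict_of_le (i : Y ⟶ X) {U U' : X.Opens} (h : U' ≤ U)
    [IsClosedImmersion (i ∣_ U)] : IsClosedImmersion (i ∣_ U') :=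
  isClosedImmersion_restrict_of_isPullback (IsPullback.id_horiz i) (US := U) (UT := U') h

/-- The kernel on a smaller affine open is the extended ideal. -/
theorem ker_app_of_le (i : Y ⟶ X) {U U' : X.Opens} (h : U' ≤ U) (hU : IsAffineOpen U)
    (hU' : IsAffineOpen U') [IsClosedImmersion (i ∣_ U)] :
    RingHom.ker (i.app U').hom =
      (RingHom.ker (i.app U).hom).map (X.presheaf.map (homOfLE h).op).hom := by
  have h1 := ker_app_of_isPullback (IsPullback.id_horiz i) (US := U) (UT := U') h hU hU'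
  have hid : Scheme.Hom.appLE (𝟙 X) U U' h = X.presheaf.map (homOfLE h).op := by
    simp only [Scheme.Hom.appLE, Scheme.Hom.id_app]
    rfl
  rw [hid] at h1
  exact h1

/-- Restriction maps between affine opens are flat. -/
theorem flat_res {U U' : X.Opens} (h : U' ≤ U) (hU : IsAffineOpen U) (hU' : IsAffineOpen U') :
    (X.presheaf.map (homOfLE h).op).hom.Flat := by
  have h1 : (Scheme.Hom.appLE (𝟙 X) U U' h).hom.Flat :=
    HasRingHomProperty.appLE (P := @Flat) (𝟙 X) inferInstance ⟨U, hU⟩ ⟨U', hU'⟩ h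
  have hid : Scheme.Hom.appLE (𝟙 X) U U' h = X.presheaf.map (homOfLE h).op := by
    simp only [Scheme.Hom.appLE, Scheme.Hom.id_app]
    rfl
  rw [hid] at h1
  exact h1

/-- Common chart for a composition of immersions. -/
theorem exists_chart_comp (i : Y ⟶ X) (j : Z ⟶ Y) (z : Z)
    (U : X.Opens) (hU : IsAffineOpen U) (hzU : i (j z) ∈ U) [IsClosedImmersion (i ∣_ U)]
    (V : Y.Opens) (hzV : j z ∈ V) :
    ∃ a : Γ(X, U), i (j z) ∈ X.basicOpen a ∧ i ⁻¹ᵁ (X.basicOpen a) ≤ V := by
  obtain ⟨hU', hsurj⟩ := isAffineOpen_preimage_and_surjective_of_isClosedImmersion_restrict i U hU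
  have hzU' : j z ∈ i ⁻¹ᵁ U := hzU
  obtain ⟨b, hble, hzb⟩ := hU'.exists_basicOpen_le (V := V ⊓ i ⁻¹ᵁ U) ⟨j z, ⟨hzV, hzU'⟩⟩ hzU'
  obtain ⟨a, rfl⟩ := hsurj b
  have hpre : i ⁻¹ᵁ (X.basicOpen a) = Y.basicOpen ((i.app U).hom a) := Scheme.preimage_basicOpen i a
  refine ⟨a, ?_, ?_⟩
  · change j z ∈ i ⁻¹ᵁ (X.basicOpen a)
    rw [hpre]
    exact hzb
  · rw [hpre]
    exact hble.trans inf_le_left

end Groth.Agent.H39.ImmCompChart
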