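import Mathlib
import Groth.Agent.H47.SmoothNormal
import Groth.Agent.H47.SmoothReduced
import Groth.Agent.H47.SmoothRegular
import Groth.Agent.H25.FibreEtale
import Groth.Agent.Lead.RegularFlatDescent
import Groth.Agent.Lead.RegularLocalization

/-!
# Local rings along a smooth morphism

For `f : X ⟶ Y` locally of finite presentation and smooth at `x`, the local ring `O_{X,x}` is a
localization at a prime of a smooth `O_{Y,f x}`-algebra.  Consequently the properties "regular",
"reduced", "normal domain" pass from `O_{Y,f x}` to `O_{X,x}`; they descend by faithful flatness.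
-/

set_option autoImplicit false
set_option linter.style.haveILetI false
set_option linter.unusedSectionVars false
universe u

open AlgebraicGeometry CategoryTheory

namespace Groth.Agent.H39.SmoothStalk

open Algebra in
/-- For a smooth algebra `A → B` and a prime `q` of `B` over `p`, the local ring `B_q` is a
localization at a prime of a smooth `A_p`-algebra. -/
theorem exists_smooth_localization (A B : Type u) [CommRing A] [CommRing B] [Algebra A B]
    [Algebra.Smooth A B] (p : Ideal A) (q : Ideal B) [p.IsPrime] [q.IsPrime] [q.LiesOver p] :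
    ∃ (T : Type u) (_ : CommRing T) (_ : Algebra (Localization.AtPrime p) T)
      (_ : Algebra.Smooth (Localization.AtPrime p) T) (Q : Ideal T) (_ : Q.IsPrime),
      Nonempty (Localization.AtPrime Q ≃+* Localization.AtPrime q) := by
  let Rp := Localization.AtPrime p
  let M := algebraMapSubmonoid B p.primeCompl
  let Sp := Localization M
  have hsm : Algebra.Smooth Rp Sp := by
    have : Algebra.IsPushout A Rp B Sp :=
      .symm <| Algebra.isPushout_of_isLocalization p.primeCompl _ _ _
    exact .of_equiv (Algebra.IsPushout.equiv A Rp B Sp)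
  have hdisj : Disjoint (M : Set B) (q : Set B) := by
    rw [Set.disjoint_left]
    rintro _ ⟨a, ha, rfl⟩ hmem
    apply ha
    rw [q.over_def p]
    exact hmem
  let Q : Ideal Sp := q.map (algebraMap B Sp)
  haveI hQ : Q.IsPrime := IsLocalization.isPrime_of_isPrime_disjoint M _ q ‹_› hdisj
  have hcomap : Q.comap (algebraMap B Sp) = q :=
    IsLocalization.under_map_of_isPrime_disjoint M _ ‹_› hdisj
  haveI : IsLocalization.AtPrime (Localization.AtPrime Q) (Q.comap (algebraMap B Sp)) :=
    IsLocalization.isLocalization_isLocalization_atPrime_isLocalization M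
      (Localization.AtPrime Q) Q
  haveI : IsLocalization.AtPrime (Localization.AtPrime Q) q := by
    convert this
    exact hcomap.symm
  exact ⟨Sp, inferInstance, inferInstance, hsm, Q, hQ,
    ⟨(IsLocalization.algEquiv q.primeCompl (Localization.AtPrime Q)
      (Localization.AtPrime q)).toRingEquiv⟩⟩

variable {X Y : Scheme.{u}}

/-- A point with a smooth open neighbourhood lies in the smooth locus. -/
theorem mem_smoothLocus_of_smooth_nhd (f : X ⟶ Y) [LocallyOfFinitePresentation f] (x : X)
    (hx : ∃ U : X.Opens, x ∈ U ∧ Smooth (U.ι ≫ f)) : x ∈ f.smoothLocus := by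
  obtain ⟨U, hxU, hU⟩ := hx
  have h1 : (U.ι ≫ f).smoothLocus = ⊤ := (U.ι ≫ f).smoothLocus_eq_top
  rw [← Scheme.Hom.preimage_smoothLocus_eq] at h1
  have h2 : (⟨x, hxU⟩ : U) ∈ U.ι ⁻¹ᵁ f.smoothLocus := by rw [h1]; trivial
  exact h2

/-- The stalk map is flat at points of the smooth locus. -/
theorem flat_stalkMap_of_mem_smoothLocus (f : X ⟶ Y) [LocallyOfFinitePresentation f] (x : X)
    (hx : x ∈ f.smoothLocus) : (f.stalkMap x).hom.Flat := by
  let U := f.smoothLocus
  have h1 : (U.ι ≫ f).smoothLocus = ⊤ := by
    rw [← Scheme.Hom.preimage_smoothLocus_eq]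
    rw [eq_top_iff]
    intro y _
    exact y.2
  haveI : Smooth (U.ι ≫ f) := Scheme.Hom.smoothLocus_eq_top_iff.mp h1
  exact Groth.Agent.H25.FibreEtale.flat_stalkMap_of_flat_nhd f x U hx

/-- **Ascent along smooth morphisms** for a property of (local) rings which is invariant under
ring isomorphisms and passes to localizations at primes of smooth algebras. -/
theorem stalk_ascent (Pr : ∀ (R : Type u) [CommRing R], Prop)
    (hiso : ∀ (R R' : Type u) [CommRing R] [CommRing R'], (R ≃+* R') → Pr R → Pr R')
    (hsm : ∀ (R T : Type u) [CommRing R] [CommRing T] [Algebra R T] [Algebra.Smooth R T]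
      (Q : Ideal T) [Q.IsPrime], Pr R → Pr (Localization.AtPrime Q))
    (f : X ⟶ Y) [LocallyOfFinitePresentation f] (x : X) (hx : x ∈ f.smoothLocus)
    (h : Pr (Y.presheaf.stalk (f.base x))) : Pr (X.presheaf.stalk x) := by
  obtain ⟨V, hV, W, hW, hWV, hxW, hsmooth⟩ :=
    exists_smooth_of_formallySmooth_stalk f x hx
  algebraize [(f.appLE V W hWV).hom]
  haveI : Algebra.Smooth Γ(Y, V) Γ(X, W) := hsmooth
  let q := (hW.primeIdealOf ⟨x, hxW⟩).asIdeal
  let P := (hV.primeIdealOf ⟨f x, hWV hxW⟩).asIdeal
  have hqP : q.LiesOver P :=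
    ⟨congr($(IsAffineOpen.comap_primeIdealOf_appLE V hV W hW hWV hxW).1).symm⟩
  let := X.presheaf.algebra_section_stalk ⟨x, hxW⟩
  have hst := hW.isLocalization_stalk ⟨x, hxW⟩
  let e₂ : Localization.AtPrime q ≃+* X.presheaf.stalk x :=
    (IsLocalization.algEquiv q.primeCompl (Localization.AtPrime q)
      (X.presheaf.stalk x)).toRingEquiv
  let := Y.presheaf.algebra_section_stalk (⟨f x, hWV hxW⟩ : V)
  have hstV := hV.isLocalization_stalk ⟨f x, hWV hxW⟩
  let e₁ : Y.presheaf.stalk (f x) ≃+* Localization.AtPrime P :=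
    (IsLocalization.algEquiv P.primeCompl (Y.presheaf.stalk (f x))
      (Localization.AtPrime P)).toRingEquiv
  obtain ⟨T, _, _, _, Q, _, ⟨e₃⟩⟩ := exists_smooth_localization Γ(Y, V) Γ(X, W) P q
  have h1 : Pr (Localization.AtPrime P) := hiso _ _ e₁ h
  have h2 : Pr (Localization.AtPrime Q) := hsm (Localization.AtPrime P) T Q h1
  exact hiso _ _ (e₃.trans e₂) h2

/-- a regular local ring is a regular ring -/
theorem isRegularRing_of_isRegularLocalRing (R : Type u) [CommRing R] [IsRegularLocalRing R] :
    IsRegularRing R :=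
  { isRegularLocalRing_localization := fun p _ =>
      Groth.Agent.Lead.RLR.isRegularLocalRing_localization R p }

/-- regularity ascends along a morphism at a smooth point -/
theorem isRegularLocalRing_stalk_of_mem_smoothLocus (f : X ⟶ Y) [LocallyOfFinitePresentation f]
    (x : X) (hx : x ∈ f.smoothLocus) (h : IsRegularLocalRing (Y.presheaf.stalk (f.base x))) :
    IsRegularLocalRing (X.presheaf.stalk x) := by
  refine stalk_ascent (fun R _ => IsRegularLocalRing R) ?_ ?_ f x hx h
  · intro R R' _ _ e hR
    exact IsRegularLocalRing.of_ringEquiv e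
  · intro R T _ _ _ _ Q _ hR
    haveI : IsRegularRing R := isRegularRing_of_isRegularLocalRing R
    haveI : IsRegularRing T := Groth.Agent.H47.isRegularRing_of_smooth R T
    infer_instance

/-- reducedness ascends along a morphism at a smooth point -/
theorem isReduced_stalk_of_mem_smoothLocus (f : X ⟶ Y) [LocallyOfFinitePresentation f]
    (x : X) (hx : x ∈ f.smoothLocus) (h : IsReduced (Y.presheaf.stalk (f.base x))) :
    IsReduced (X.presheaf.stalk x) := by
  refine stalk_ascent (fun R _ => IsReduced R) ?_ ?_ f x hx h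
  · intro R R' _ _ e hR
    exact isReduced_of_injective e.symm.toRingHom e.symm.injective
  · intro R T _ _ _ _ Q _ hR
    haveI : IsReduced T := Groth.Agent.H47.isReduced_of_smooth R T
    infer_instance

/-- normality (integrally closed domain) ascends along a morphism at a smooth point -/
theorem normal_stalk_of_mem_smoothLocus (f : X ⟶ Y) [LocallyOfFinitePresentation f]
    (x : X) (hx : x ∈ f.smoothLocus)
    (h : IsDomain (Y.presheaf.stalk (f.base x)) ∧
      IsIntegrallyClosed (Y.presheaf.stalk (f.base x))) :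
    IsDomain (X.presheaf.stalk x) ∧ IsIntegrallyClosed (X.presheaf.stalk x) := by
  refine stalk_ascent (fun R _ => IsDomain R ∧ IsIntegrallyClosed R) ?_ ?_ f x hx h
  · rintro R R' _ _ e ⟨h1, h2⟩
    exact ⟨e.toMulEquiv.isDomain_iff.mp h1, IsIntegrallyClosed.of_equiv e⟩
  · rintro R T _ _ _ _ Q _ ⟨h1, h2⟩
    have hR : EGA4.IsNormalRing R := Groth.Agent.H47.SN.isNormalRing_of_isIntegrallyClosed R
    have hT : EGA4.IsNormalRing T := Groth.Agent.H47.SN.isNormalRing_of_smooth R T hR
    exact hT Q

/-- the stalk map at a smooth point is faithfully flat -/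
theorem faithfullyFlat_stalkMap_of_mem_smoothLocus (f : X ⟶ Y) [LocallyOfFinitePresentation f]
    (x : X) (hx : x ∈ f.smoothLocus) :
    letI := (f.stalkMap x).hom.toAlgebra
    Module.FaithfullyFlat (Y.presheaf.stalk (f.base x)) (X.presheaf.stalk x) := by
  letI := (f.stalkMap x).hom.toAlgebra
  haveI : IsLocalHom (algebraMap (Y.presheaf.stalk (f.base x)) (X.presheaf.stalk x)) :=
    (inferInstance : IsLocalHom (f.stalkMap x).hom)
  haveI : Module.Flat (Y.presheaf.stalk (f.base x)) (X.presheaf.stalk x) :=
    flat_stalkMap_of_mem_smoothLocus f x hx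
  exact Module.FaithfullyFlat.of_flat_of_isLocalHom

/-- **Regularity** of local rings along a smooth point (locally Noetherian base). -/
theorem isRegularLocalRing_stalk_iff (f : X ⟶ Y) [IsLocallyNoetherian Y]
    [LocallyOfFinitePresentation f] (x : X) (hx : x ∈ f.smoothLocus) :
    IsRegularLocalRing (X.presheaf.stalk x) ↔ IsRegularLocalRing (Y.presheaf.stalk (f.base x)) := by
  refine ⟨fun h => ?_, isRegularLocalRing_stalk_of_mem_smoothLocus f x hx⟩
  letI := (f.stalkMap x).hom.toAlgebra
  haveI : IsLocalHom (algebraMap (Y.presheaf.stalk (f.base x)) (X.presheaf.stalk x)) :=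
    (inferInstance : IsLocalHom (f.stalkMap x).hom)
  haveI : Module.Flat (Y.presheaf.stalk (f.base x)) (X.presheaf.stalk x) :=
    flat_stalkMap_of_mem_smoothLocus f x hx
  exact Groth.Agent.Lead.RLR.isRegularLocalRing_of_flat (Y.presheaf.stalk (f.base x))
    (X.presheaf.stalk x)

/-- **Reducedness** of local rings along a smooth point. -/
theorem isReduced_stalk_iff (f : X ⟶ Y) [LocallyOfFinitePresentation f] (x : X)
    (hx : x ∈ f.smoothLocus) :
    IsReduced (X.presheaf.stalk x) ↔ IsReduced (Y.presheaf.stalk (f.base x)) := by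
  refine ⟨fun h => ?_, isReduced_stalk_of_mem_smoothLocus f x hx⟩
  letI := (f.stalkMap x).hom.toAlgebra
  haveI := faithfullyFlat_stalkMap_of_mem_smoothLocus f x hx
  exact isReduced_of_injective (algebraMap (Y.presheaf.stalk (f.base x)) (X.presheaf.stalk x))
    (FaithfulSMul.algebraMap_injective _ _)

/-- **Normality** of local rings along a smooth point. -/
theorem normal_stalk_iff (f : X ⟶ Y) [LocallyOfFinitePresentation f] (x : X)
    (hx : x ∈ f.smoothLocus) :
    (IsDomain (X.presheaf.stalk x) ∧ IsIntegrallyClosed (X.presheaf.stalk x)) ↔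
      (IsDomain (Y.presheaf.stalk (f.base x)) ∧
        IsIntegrallyClosed (Y.presheaf.stalk (f.base x))) := by
  refine ⟨fun h => ?_, normal_stalk_of_mem_smoothLocus f x hx⟩
  letI := (f.stalkMap x).hom.toAlgebra
  haveI := faithfullyFlat_stalkMap_of_mem_smoothLocus f x hx
  haveI := h.1
  haveI := h.2
  exact Groth.Agent.H20.isDomain_and_isIntegrallyClosed_of_faithfullyFlat
    (A := Y.presheaf.stalk (f.base x)) (B := X.presheaf.stalk x)

end Groth.Agent.H39.SmoothStalk
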