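import Mathlib

/-!
# Dimension inequalities and a regularity criterion

* `height_add_ringKrullDim_quotient_le`: `ht p + dim A/p ≤ dim A`.
* `spanFinrank_maximalIdeal_le_add`: `μ(m_A) ≤ μ(p) + μ(m_{A/p})`.
-/

set_option autoImplicit false
set_option linter.style.haveILetI false
universe u

namespace Groth.Agent.H39

variable {A : Type u} [CommRing A]

/-- `ht p + dim A/p ≤ dim A`. -/
theorem height_add_ringKrullDim_quotient_le (p : Ideal A) [hp : p.IsPrime] :
    (p.height : WithBot ℕ∞) + ringKrullDim (A ⧸ p) ≤ ringKrullDim A := by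
  set P : PrimeSpectrum A := ⟨p, hp⟩ with hP
  have h1 : ringKrullDim (A ⧸ p) = (Order.coheight P : ℕ∞) := by
    rw [ringKrullDim_quotient, Order.coheight_eq_krullDim_Ici]
    have : PrimeSpectrum.zeroLocus (p : Set A) = Set.Ici P := by
      ext x
      rfl
    rw [this]
  have h2 : p.height = Order.height P := PrimeSpectrum.height_eq_orderHeight P
  haveI : Nonempty (PrimeSpectrum A) := ⟨P⟩
  rw [h1, h2, ringKrullDim, Order.krullDim_eq_iSup_height_add_coheight_of_nonempty,
    ← WithBot.coe_add, WithBot.coe_le_coe]
  exact le_iSup (fun a : PrimeSpectrum A => Order.height a + Order.coheight a) P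

/-- `μ(m_A) ≤ μ(p) + μ(m_{A/p})`. -/
theorem spanFinrank_maximalIdeal_le_add [IsLocalRing A] [IsNoetherianRing A] (p : Ideal A)
    [IsLocalRing (A ⧸ p)] :
    (IsLocalRing.maximalIdeal A).spanFinrank ≤
      p.spanFinrank + (IsLocalRing.maximalIdeal (A ⧸ p)).spanFinrank := by
  classical
  obtain ⟨s, hs, hsp⟩ := Submodule.FG.exists_span_finset_card_eq_spanFinrank
    (IsNoetherian.noetherian p)
  haveI : IsNoetherianRing (A ⧸ p) := inferInstance
  obtain ⟨t, ht, htp⟩ := Submodule.FG.exists_span_finset_card_eq_spanFinrank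
    (IsNoetherian.noetherian (IsLocalRing.maximalIdeal (A ⧸ p)))
  set σ := Function.surjInv (Ideal.Quotient.mk_surjective (I := p)) with hσ
  have hσ' : ∀ y, Ideal.Quotient.mk p (σ y) = y :=
    Function.surjInv_eq (Ideal.Quotient.mk_surjective (I := p))
  set t' : Finset A := t.image σ with ht'
  have hnu : ∀ x : A, x ∈ IsLocalRing.maximalIdeal A ↔
      Ideal.Quotient.mk p x ∈ IsLocalRing.maximalIdeal (A ⧸ p) := by
    intro x
    have hloc : IsLocalHom (Ideal.Quotient.mk p) :=
      .of_surjective _ Ideal.Quotient.mk_surjective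
    rw [IsLocalRing.mem_maximalIdeal, IsLocalRing.mem_maximalIdeal, mem_nonunits_iff,
      mem_nonunits_iff, isUnit_map_iff]
  have key : IsLocalRing.maximalIdeal A = Ideal.span ((s ∪ t' : Finset A) : Set A) := by
    apply le_antisymm
    · intro x hx
      have hx' := (hnu x).mp hx
      rw [← htp] at hx'
      -- mk x is a combination of the elements of t
      have hmap : Submodule.span (A ⧸ p) (t : Set (A ⧸ p)) ≤
          Ideal.map (Ideal.Quotient.mk p) (Ideal.span (t' : Set A)) := by
        rw [Submodule.span_le]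
        intro y hy
        have : y = Ideal.Quotient.mk p (σ y) := (hσ' y).symm
        rw [this]
        apply Ideal.mem_map_of_mem
        apply Ideal.subset_span
        rw [ht']
        exact Finset.mem_coe.mpr (Finset.mem_image_of_mem σ hy)
      have hx'' := hmap hx'
      rw [Ideal.mem_map_iff_of_surjective _ Ideal.Quotient.mk_surjective] at hx''
      obtain ⟨z, hz, hzx⟩ := hx''
      have hzx' : x - z ∈ p := by
        rw [← Ideal.Quotient.eq_zero_iff_mem, map_sub, hzx, sub_self]
      rw [Finset.coe_union, Ideal.span_union]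
      have : x = (x - z) + z := by ring
      rw [this]
      refine Ideal.add_mem _ (Ideal.mem_sup_left ?_) (Ideal.mem_sup_right hz)
      show x - z ∈ Submodule.span A (s : Set A)
      rw [hsp]
      exact hzx'
    · rw [Ideal.span_le]
      intro x hx
      rw [Finset.coe_union] at hx
      rcases hx with hx | hx
      · have hxp : x ∈ p := by
          rw [← hsp]
          exact Submodule.subset_span hx
        rw [SetLike.mem_coe, hnu, Ideal.Quotient.eq_zero_iff_mem.mpr hxp]
        exact zero_mem _
      · rw [ht'] at hx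
        obtain ⟨y, hy, rfl⟩ := Finset.mem_image.mp (Finset.mem_coe.mp hx)
        rw [SetLike.mem_coe, hnu, hσ', ← htp]
        exact Submodule.subset_span hy
  rw [key]
  calc (Ideal.span ((s ∪ t' : Finset A) : Set A)).spanFinrank
      ≤ ((s ∪ t' : Finset A) : Set A).ncard :=
        Submodule.spanFinrank_span_le_ncard_of_finite (Finset.finite_toSet _)
    _ = (s ∪ t').card := Set.ncard_coe_finset _
    _ ≤ s.card + t'.card := Finset.card_union_le _ _
    _ ≤ s.card + t.card := Nat.add_le_add_left Finset.card_image_le _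
    _ = _ := by rw [hs, ht]

/-- if `p` is generated by `ht p` elements and `A/p` is regular, then `A` is regular. -/
theorem isRegularLocalRing_of_quotient_of_spanFinrank_eq_height [IsLocalRing A]
    [IsNoetherianRing A] (p : Ideal A) [p.IsPrime] [IsRegularLocalRing (A ⧸ p)]
    (hgen : (Submodule.spanFinrank p : ℕ∞) = p.height) : IsRegularLocalRing A := by
  apply IsRegularLocalRing.of_spanFinrank_maximalIdeal_le
  have h1 := spanFinrank_maximalIdeal_le_add p
  have h2 := height_add_ringKrullDim_quotient_le p
  have h3 : ((IsLocalRing.maximalIdeal (A ⧸ p)).spanFinrank : WithBot ℕ∞) =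
      ringKrullDim (A ⧸ p) := IsRegularLocalRing.spanFinrank_maximalIdeal
  rw [← h3, ← hgen] at h2
  refine le_trans ?_ h2
  have : ((IsLocalRing.maximalIdeal A).spanFinrank : WithBot ℕ∞) ≤
      ((p.spanFinrank + (IsLocalRing.maximalIdeal (A ⧸ p)).spanFinrank : ℕ) : WithBot ℕ∞) := by
    exact_mod_cast h1
  refine this.trans (le_of_eq ?_)
  push_cast
  rfl

end Groth.Agent.H39
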