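import Mathlib

set_option autoImplicit false
set_option linter.style.haveILetI false
universe u

namespace Groth.Agent.H39.KoszulExchange

variable {R : Type u} [CommRing R]

/-- "upper triangular" dual functionals: a list `fs` of elements of `K` is independent at `q`. -/
def Indep (K q : Ideal R) : List R → Prop
  | [] => True
  | f :: fs => (∃ δ : R →+ R ⧸ q, (∀ t k, k ∈ K → δ (t * k) = Ideal.Quotient.mk q t * δ k) ∧
      δ f = 1 ∧ ∀ f' ∈ fs, δ f' = 0) ∧ Indep K q fs

theorem delta_eq_zero_of_mem_span (K q : Ideal R) (δ : R →+ R ⧸ q)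
    (hδ : ∀ t k, k ∈ K → δ (t * k) = Ideal.Quotient.mk q t * δ k) (F : Set R)
    (hFK : ∀ x ∈ F, x ∈ K) (hF0 : ∀ x ∈ F, δ x = 0) (z : R) (hz : z ∈ Ideal.span F) :
    z ∈ K ∧ δ z = 0 := by
  induction hz using Submodule.span_induction with
  | mem x hx => exact ⟨hFK x hx, hF0 x hx⟩
  | zero => exact ⟨K.zero_mem, map_zero δ⟩
  | add x y _ _ hx hy => exact ⟨K.add_mem hx.1 hy.1, by rw [map_add, hx.2, hy.2, add_zero]⟩
  | smul a x _ hx =>
    refine ⟨K.mul_mem_left a hx.1, ?_⟩
    rw [smul_eq_mul, hδ a x hx.1, hx.2, mul_zero]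

theorem exchange (K q : Ideal R) [q.IsPrime] {r : ℕ} (l : Fin r → R)
    (hl : ∀ i, l i ∈ K) (g : R) (hg : g ∉ q)
    (hgen : ∀ k ∈ K, ∃ N : ℕ, g ^ N * k ∈ Ideal.span (Set.range l)) :
    ∀ fs : List R, (∀ f ∈ fs, f ∈ K) → Indep K q fs →
      ∃ (t : R) (J : Finset (Fin r)), t ∉ q ∧ J.card + fs.length = r ∧
        ∀ k ∈ K, ∃ N : ℕ, (g * t) ^ N * k ∈
          Ideal.span ({x | x ∈ fs} ∪ Set.range (fun j : J => l j)) := by
  intro fs
  induction fs with
  | nil =>
    intro _ _
    refine ⟨1, Finset.univ, ?_, by simp, ?_⟩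
    · intro h1
      exact (inferInstance : q.IsPrime).ne_top ((Ideal.eq_top_iff_one q).mpr h1)
    · intro k hk
      obtain ⟨N, hN⟩ := hgen k hk
      refine ⟨N, ?_⟩
      rw [mul_one]
      refine Ideal.span_mono ?_ hN
      rintro _ ⟨i, rfl⟩
      exact Or.inr ⟨⟨i, Finset.mem_univ i⟩, rfl⟩
  | cons f fs' ih =>
    intro hfK hind
    obtain ⟨⟨δ, hδ, hδf, hδ0⟩, hind'⟩ := hind
    obtain ⟨t, J, ht, hcard, hgenJ⟩ := ih (fun x hx => hfK x (List.mem_cons_of_mem _ hx)) hind'
    have hf : f ∈ K := hfK f List.mem_cons_self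
    set s := g * t with hs
    have hsq : s ∉ q := fun h => ((inferInstance : q.IsPrime).mem_or_mem h).elim hg ht
    obtain ⟨N, hN⟩ := hgenJ f hf
    rw [Ideal.span_union, Submodule.mem_sup] at hN
    obtain ⟨z, hz, w, hw, hzw⟩ := hN
    obtain ⟨b, hb⟩ := (Ideal.mem_span_range_iff_exists_fun).mp hw
    have hz0 := delta_eq_zero_of_mem_span K q δ hδ {x | x ∈ fs'}
      (fun x hx => hfK x (List.mem_cons_of_mem _ hx)) (fun x hx => hδ0 x hx) z hz
    -- some coefficient is not in q
    have hex : ∃ j : J, b j ∉ q := by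
      by_contra hcon
      push Not at hcon
      have h1 : δ (s ^ N * f) = Ideal.Quotient.mk q s ^ N := by
        rw [hδ _ f hf, hδf, mul_one, map_pow]
      have h2 : δ w = 0 := by
        rw [← hb, map_sum]
        apply Finset.sum_eq_zero
        intro j _
        rw [hδ _ _ (hl j), Ideal.Quotient.eq_zero_iff_mem.mpr (hcon j), zero_mul]
      have h3 : δ (s ^ N * f) = 0 := by
        rw [← hzw, map_add, hz0.2, h2, add_zero]
      rw [h1] at h3
      have h4 : Ideal.Quotient.mk q s = 0 := pow_eq_zero_iff (n := N) ?_ |>.mp h3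
      · exact hsq (Ideal.Quotient.eq_zero_iff_mem.mp h4)
      · intro hN0
        subst hN0
        rw [pow_zero] at h3
        exact one_ne_zero h3
    obtain ⟨j, hj⟩ := hex
    refine ⟨t * b j, J.erase j.1, ?_, ?_, ?_⟩
    · exact fun h => ((inferInstance : q.IsPrime).mem_or_mem h).elim ht hj
    · rw [Finset.card_erase_of_mem j.2, List.length_cons]
      have : 0 < J.card := Finset.card_pos.mpr ⟨j.1, j.2⟩
      omega
    · set I' : Ideal R := Ideal.span ({x | x ∈ f :: fs'} ∪
        Set.range (fun j' : (J.erase j.1 : Finset (Fin r)) => l j')) with hI'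
      have hF' : ∀ x ∈ fs', x ∈ I' := fun x hx =>
        Ideal.subset_span (Or.inl (List.mem_cons_of_mem _ hx))
      have hfI : f ∈ I' := Ideal.subset_span (Or.inl List.mem_cons_self)
      have hlI : ∀ j' : J, j' ≠ j → l j' ∈ I' := by
        intro j' hne
        refine Ideal.subset_span (Or.inr ⟨⟨j'.1, ?_⟩, rfl⟩)
        exact Finset.mem_erase.mpr ⟨fun h => hne (Subtype.ext h), j'.2⟩
      have hzI : z ∈ I' := by
        refine (Ideal.span_le.mpr ?_) hz
        intro x hx
        exact hF' x hx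
      have hkey : b j * l j ∈ I' := by
        have h1 : b j * l j = s ^ N * f - z - ∑ j' ∈ Finset.univ.erase j, b j' * l j' := by
          rw [← hzw, ← hb, ← Finset.add_sum_erase Finset.univ _ (Finset.mem_univ j)]
          ring
        rw [h1]
        refine I'.sub_mem (I'.sub_mem (I'.mul_mem_left _ hfI) hzI) ?_
        refine I'.sum_mem ?_
        intro j' hj'
        exact I'.mul_mem_left _ (hlI j' (Finset.ne_of_mem_erase hj'))
      have hmul : ∀ x ∈ Ideal.span ({x | x ∈ fs'} ∪ Set.range (fun j' : J => l j')),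
          b j * x ∈ I' := by
        intro x hx
        induction hx using Submodule.span_induction with
        | mem x hx =>
          rcases hx with hx | ⟨j', rfl⟩
          · exact I'.mul_mem_left _ (hF' x hx)
          · by_cases hjj : j' = j
            · subst hjj
              exact hkey
            · exact I'.mul_mem_left _ (hlI j' hjj)
        | zero => rw [mul_zero]; exact I'.zero_mem
        | add x y _ _ hx hy => rw [mul_add]; exact I'.add_mem hx hy
        | smul a x _ hx =>
          rw [smul_eq_mul, mul_left_comm]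
          exact I'.mul_mem_left _ hx
      intro k hk
      obtain ⟨M, hM⟩ := hgenJ k hk
      refine ⟨M + 1, ?_⟩
      have h2 : (g * (t * b j)) ^ (M + 1) * k = (s * b j ^ M) * (b j * (s ^ M * k)) := by
        rw [hs]
        ring
      rw [h2]
      exact I'.mul_mem_left _ (hmul _ hM)

end Groth.Agent.H39.KoszulExchange
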