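import Mathlib
import Groth.Agent.H79.KoszulNat
import Groth.Agent.H79.KoszulTor
import Groth.Prelude.Def_LCI2

set_option autoImplicit false
set_option linter.style.haveILetI false
universe u

open CategoryTheory CochainComplex HomComplex Limits Groth.Agent.H12.KoszulReg
open Groth.Agent.H79.KoszulCone Groth.Agent.H79.KoszulTor Groth.Agent.H79.KoszulNat

attribute [local instance] HasDerivedCategory.standard

namespace Groth.Agent.H39.KoszulAppend

variable {A : Type u} [CommRing A]

/-- `K ↦ cone (g • 𝟙 K)` preserves quasi-isomorphisms. -/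
theorem quasiIso_coneFunctor_map (g : A) {K L : CochainComplex (ModuleCat.{u} A) ℤ} (w : K ⟶ L)
    [QuasiIso w] : QuasiIso ((coneFunctor g).map w) := by
  have comm : (g • 𝟙 K) ≫ w = w ≫ (g • 𝟙 L) := by simp
  let T := mappingCone.triangleMap (g • 𝟙 K) (g • 𝟙 L) w w comm
  have hT1 := DerivedCategory.mappingCone_triangle_distinguished (g • 𝟙 K)
  have hT2 := DerivedCategory.mappingCone_triangle_distinguished (g • 𝟙 L)
  let T' := DerivedCategory.Q.mapTriangle.map T
  have h1 : IsIso T'.hom₁ := (inferInstance : IsIso (DerivedCategory.Q.map w))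
  have h2 : IsIso T'.hom₂ := (inferInstance : IsIso (DerivedCategory.Q.map w))
  have h3 : IsIso T'.hom₃ := Pretriangulated.isIso₃_of_isIso₁₂ T' hT1 hT2 h1 h2
  exact (DerivedCategory.isIso_Q_map_iff_quasiIso (C := ModuleCat.{u} A) _).mp h3

/-- the comparison map `K(ys ++ xs; A) → K(ys; M)` induced by `w : K(xs; A) → M[0]`. -/
noncomputable def appendMap (xs : List A) (M : ModuleCat.{u} A)
    (w : CohIII.koszulCx (ModuleCat.of A A) xs ⟶ CohIII.koszulCx M []) :
    ∀ ys : List A, CohIII.koszulCx (ModuleCat.of A A) (ys ++ xs) ⟶ CohIII.koszulCx M ys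
  | [] => w
  | y :: ys => (coneFunctor y).map (appendMap xs M w ys)

theorem quasiIso_appendMap (xs : List A) (M : ModuleCat.{u} A)
    (w : CohIII.koszulCx (ModuleCat.of A A) xs ⟶ CohIII.koszulCx M []) [QuasiIso w] :
    ∀ ys : List A, QuasiIso (appendMap xs M w ys)
  | [] => ‹QuasiIso w›
  | y :: ys => by
    haveI := quasiIso_appendMap xs M w ys
    exact quasiIso_coneFunctor_map y (appendMap xs M w ys)


section aug

variable (l : List A) (I : Ideal A) (hI : Ideal.ofList l = I)

include hI in
theorem d_comp_augLin (j : ℤ) (hj : (ComplexShape.up ℤ).Rel j 0) :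
    (CohIII.koszulCx (ModuleCat.of A A) l).d j 0 ≫
      (ModuleCat.ofHom (augLin l I) :
        (CohIII.koszulCx (ModuleCat.of A A) l).X 0 ⟶ ModuleCat.of A (A ⧸ I)) = 0 := by
  ext x
  have h := ker_augLin l I hI j hj
  have hx : ((CohIII.koszulCx (ModuleCat.of A A) l).d j 0).hom x ∈
      LinearMap.ker (augLin l I) := by
    rw [h]
    exact ⟨x, rfl⟩
  exact LinearMap.mem_ker.mp hx

/-- the augmentation `K(l; A) → (A/I)[0]` as a map of cochain complexes -/
noncomputable def aug : CohIII.koszulCx (ModuleCat.of A A) l ⟶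
    CohIII.koszulCx (ModuleCat.of A (A ⧸ I)) [] :=
  HomologicalComplex.mkHomToSingle (ModuleCat.ofHom (augLin l I)) (d_comp_augLin l I hI)

include hI in
theorem quasiIso_aug
    (hreg : ∀ i : ℤ, i ≠ 0 → IsZero ((CohIII.koszulCx (ModuleCat.of A A) l).homology i)) :
    QuasiIso (aug l I hI) where
  quasiIsoAt m := by
    by_cases hm : m = 0
    · subst hm
      have haug : (aug l I hI).f 0 = ModuleCat.ofHom (augLin l I) ≫
          (HomologicalComplex.singleObjXSelf (ComplexShape.up ℤ) 0
            (ModuleCat.of A (A ⧸ I))).inv :=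
        HomologicalComplex.mkHomToSingle_f _ _
      have hf : ∀ x, ((aug l I hI).f 0).hom x =
          (HomologicalComplex.singleObjXSelf (ComplexShape.up ℤ) 0
            (ModuleCat.of A (A ⧸ I))).inv.hom (augLin l I x) := by
        intro x
        rw [haug]
        rfl
      have hbij : Function.Bijective (HomologicalComplex.singleObjXSelf (ComplexShape.up ℤ) 0
            (ModuleCat.of A (A ⧸ I))).inv.hom :=
        ConcreteCategory.bijective_of_isIso _
      rw [quasiIsoAt_iff' _ (-1) 0 1 (by simp) (by simp),
        ShortComplex.quasiIso_iff_of_zeros' _ ?_ ?_ ?_]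
      · constructor
        · rw [ShortComplex.moduleCat_exact_iff_range_eq_ker]
          have h := ker_augLin l I hI (-1) (by simp)
          change LinearMap.range ((CohIII.koszulCx (ModuleCat.of A A) l).d (-1) 0).hom =
            LinearMap.ker ((aug l I hI).f 0).hom
          rw [← h]
          ext x
          rw [LinearMap.mem_ker, LinearMap.mem_ker, hf]
          constructor
          · intro hx
            rw [hx]
            exact map_zero _
          · intro hx
            apply hbij.1
            rw [hx]
            exact (map_zero _).symm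
        · change Epi ((aug l I hI).f 0)
          rw [ModuleCat.epi_iff_surjective]
          intro y
          obtain ⟨x', rfl⟩ := hbij.2 y
          obtain ⟨x, rfl⟩ := augLin_surjective l I x'
          exact ⟨x, hf x⟩
      · exact (Groth.Agent.H79.KoszulTop.isZero_X_of_pos (ModuleCat.of A A) l 1 one_pos).eq_of_tgt
          _ _
      · rfl
      · rfl
    · have hL : (CohIII.koszulCx (ModuleCat.of A (A ⧸ I)) []).ExactAt m :=
        HomologicalComplex.exactAt_single_obj (ComplexShape.up ℤ) 0 (ModuleCat.of A (A ⧸ I)) m hm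
      rw [quasiIsoAt_iff_exactAt' (hL := hL), HomologicalComplex.exactAt_iff_isZero_homology]
      exact hreg m hm

end aug


section main

variable {B : Type u} [CommRing B] (φ : A →+* B)

/-- `A ⧸ ker φ ≃ B` as `A`-modules, `B` regarded as an `A`-module via `φ`. -/
noncomputable def quotEquivRestrict (hφ : Function.Surjective φ) (I : Ideal A)
    (hI : RingHom.ker φ = I) :
    ModuleCat.of A (A ⧸ I) ≅ (ModuleCat.restrictScalars φ).obj (ModuleCat.of B B) := by
  let f0 : A →ₗ[A] ((ModuleCat.restrictScalars φ).obj (ModuleCat.of B B)) :=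
    { toFun := fun a => (φ a : B)
      map_add' := fun a b => map_add φ a b
      map_smul' := fun a b => by
        change φ (a * b) = φ a * φ b
        exact map_mul φ a b }
  have hle : I ≤ LinearMap.ker f0 := by
    intro a ha
    rw [← hI] at ha
    rw [LinearMap.mem_ker]
    have h0 : φ a = 0 := (RingHom.mem_ker).mp ha
    exact h0
  let f : (A ⧸ I) →ₗ[A] ((ModuleCat.restrictScalars φ).obj (ModuleCat.of B B)) :=
    Submodule.liftQ I f0 hle
  have hf : Function.Bijective f := by
    constructor
    · rw [← LinearMap.ker_eq_bot, Submodule.ker_liftQ_eq_bot']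
      apply le_antisymm hle
      intro a ha
      rw [← hI]
      rw [LinearMap.mem_ker] at ha
      have h0 : φ a = 0 := ha
      exact (RingHom.mem_ker).mpr h0
    · intro b
      obtain ⟨a, rfl⟩ := hφ b
      exact ⟨Submodule.Quotient.mk a, rfl⟩
  exact (LinearEquiv.ofBijective f hf).toModuleIso

/-- **Concatenation of Koszul-regular sequences**: if `xs` is Koszul-regular in `A`, generating the
kernel of the surjection `φ : A → B`, and the image of `ys` is Koszul-regular in `B`, then
`ys ++ xs` is Koszul-regular in `A`. -/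
theorem isKoszulRegularSeq_append (hφ : Function.Surjective φ) (xs : List A)
    (hxs : LCI.IsKoszulRegularSeq A xs) (hker : RingHom.ker φ = Ideal.ofList xs) (ys : List A)
    (hys : LCI.IsKoszulRegularSeq B (ys.map φ)) : LCI.IsKoszulRegularSeq A (ys ++ xs) := by
  intro i hi
  show IsZero ((Koszul.koszul A (ys ++ xs)).homology i)
  rw [koszul_eq]
  have hreg : ∀ j : ℤ, j ≠ 0 →
      IsZero ((CohIII.koszulCx (ModuleCat.of A A) xs).homology j) := by
    intro j hj
    have h1 : IsZero ((Koszul.koszul A xs).homology j) := hxs j hj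
    rwa [koszul_eq] at h1
  haveI := quasiIso_aug xs (Ideal.ofList xs) rfl hreg
  haveI := quasiIso_appendMap xs (ModuleCat.of A (A ⧸ Ideal.ofList xs))
    (aug xs (Ideal.ofList xs) rfl) ys
  have e := isoOfQuasiIsoAt (appendMap xs _ (aug xs (Ideal.ofList xs) rfl) ys) i
  rw [e.isZero_iff]
  have e2 := (HomologicalComplex.homologyFunctor (ModuleCat.{u} A) (ComplexShape.up ℤ) i).mapIso
    (kiso (quotEquivRestrict φ hφ (Ideal.ofList xs) hker) ys)
  have e3 : (CohIII.koszulCx (ModuleCat.of A (A ⧸ Ideal.ofList xs)) ys).homology i ≅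
      (CohIII.koszulCx ((ModuleCat.restrictScalars φ).obj (ModuleCat.of B B)) ys).homology i := e2
  rw [e3.isZero_iff, isZero_homology_restrict_iff φ (ModuleCat.of B B) ys i, ← koszul_eq]
  exact hys i hi

end main

end Groth.Agent.H39.KoszulAppend
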