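import Mathlib
import Groth.Agent.H39.KoszulAppend

set_option autoImplicit false
set_option linter.style.haveILetI false
universe u

open CategoryTheory CochainComplex HomComplex Limits Groth.Agent.H12.KoszulReg
open Groth.Agent.H79.KoszulCone Groth.Agent.H79.KoszulTor Groth.Agent.H79.KoszulNat
open Groth.Agent.H39.KoszulAppend

attribute [local instance] HasDerivedCategory.standard

namespace Groth.Agent.H39.KoszulQuot

variable {A : Type u} [CommRing A] {B : Type u} [CommRing B] (φ : A →+* B)

/-- Converse of `isKoszulRegularSeq_append`: if `xs` is Koszul-regular in `A`, generating the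
kernel of the surjection `φ : A → B`, and `ys ++ xs` is Koszul-regular in `A`, then the image of
`ys` is Koszul-regular in `B`. -/
theorem isKoszulRegularSeq_map_of_append (hφ : Function.Surjective φ) (xs : List A)
    (hxs : LCI.IsKoszulRegularSeq A xs) (hker : RingHom.ker φ = Ideal.ofList xs) (ys : List A)
    (hys : LCI.IsKoszulRegularSeq A (ys ++ xs)) : LCI.IsKoszulRegularSeq B (ys.map φ) := by
  intro i hi
  have h0 : IsZero ((Koszul.koszul A (ys ++ xs)).homology i) := hys i hi
  rw [koszul_eq] at h0
  have hreg : ∀ j : ℤ, j ≠ 0 →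
      IsZero ((CohIII.koszulCx (ModuleCat.of A A) xs).homology j) := by
    intro j hj
    have h1 : IsZero ((Koszul.koszul A xs).homology j) := hxs j hj
    rwa [koszul_eq] at h1
  haveI := quasiIso_aug xs (Ideal.ofList xs) rfl hreg
  haveI := quasiIso_appendMap xs (ModuleCat.of A (A ⧸ Ideal.ofList xs))
    (aug xs (Ideal.ofList xs) rfl) ys
  have e := isoOfQuasiIsoAt (appendMap xs _ (aug xs (Ideal.ofList xs) rfl) ys) i
  rw [e.isZero_iff] at h0
  have e2 := (HomologicalComplex.homologyFunctor (ModuleCat.{u} A) (ComplexShape.up ℤ) i).mapIso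
    (kiso (quotEquivRestrict φ hφ (Ideal.ofList xs) hker) ys)
  have e3 : (CohIII.koszulCx (ModuleCat.of A (A ⧸ Ideal.ofList xs)) ys).homology i ≅
      (CohIII.koszulCx ((ModuleCat.restrictScalars φ).obj (ModuleCat.of B B)) ys).homology i := e2
  rw [e3.isZero_iff, isZero_homology_restrict_iff φ (ModuleCat.of B B) ys i, ← koszul_eq] at h0
  exact h0

end Groth.Agent.H39.KoszulQuot
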