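import Mathlib
import Groth.Agent.H39.KoszulExchange
import Groth.Agent.H39.KoszulQuot
import Groth.Agent.H39.KoszulFlatBC
import Groth.Agent.H79.KoszulMinGen

set_option autoImplicit false
set_option linter.style.haveILetI false
universe u

open Groth.Agent.H39.KoszulExchange

namespace Groth.Agent.H39.KoszulLoc

variable {R : Type u} [CommRing R]

/-- (H1) generation up to powers of `s` gives generation in any algebra where `s` is a unit. -/
theorem map_eq_span_of_gen (K : Ideal R) (L : Set R) (hL : ∀ x ∈ L, x ∈ K) (s : R)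
    (hgen : ∀ k ∈ K, ∃ N : ℕ, s ^ N * k ∈ Ideal.span L)
    (T : Type u) [CommRing T] [Algebra R T] (hs : IsUnit (algebraMap R T s)) :
    K.map (algebraMap R T) = Ideal.span (algebraMap R T '' L) := by
  apply le_antisymm
  · rw [Ideal.map_le_iff_le_comap]
    intro k hk
    obtain ⟨N, hN⟩ := hgen k hk
    rw [Ideal.mem_comap]
    have h1 : algebraMap R T (s ^ N * k) ∈ Ideal.span (algebraMap R T '' L) := by
      rw [← Ideal.map_span]
      exact Ideal.mem_map_of_mem _ hN
    rw [map_mul, map_pow] at h1
    have hu : IsUnit (algebraMap R T s ^ N) := hs.pow N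
    exact (Ideal.unit_mul_mem_iff_mem _ hu).mp h1
  · rw [Ideal.span_le]
    rintro _ ⟨x, hx, rfl⟩
    exact Ideal.mem_map_of_mem _ (hL x hx)

/-- (H2) numerators of generators in a localization. -/
theorem exists_numerators (K : Ideal R) (g : R) (S : Type u) [CommRing S] [Algebra R S]
    [IsLocalization.Away g S] (l : List S)
    (hKl : K.map (algebraMap R S) = Ideal.span {x | x ∈ l}) :
    ∃ l₀ : Fin l.length → R, (∀ i, l₀ i ∈ K) ∧
      Ideal.span (Set.range (fun i => algebraMap R S (l₀ i))) = Ideal.span {x | x ∈ l} ∧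
      ∀ k ∈ K, ∃ N : ℕ, g ^ N * k ∈ Ideal.span (Set.range l₀) := by
  have h1 : ∀ i : Fin l.length, ∃ (k : R) (n : ℕ), k ∈ K ∧
      l.get i * algebraMap R S g ^ n = algebraMap R S k := by
    intro i
    have hmem : l.get i ∈ K.map (algebraMap R S) := by
      rw [hKl]
      exact Ideal.subset_span (List.get_mem l i)
    obtain ⟨⟨⟨k, hk⟩, ⟨m, n, rfl⟩⟩, hx⟩ :=
      (IsLocalization.mem_map_algebraMap_iff (Submonoid.powers g) S).mp hmem
    refine ⟨k, n, hk, ?_⟩
    simpa using hx
  choose l₀ n hl₀K hl₀ using h1
  have hgu : IsUnit (algebraMap R S g) := IsLocalization.Away.algebraMap_isUnit g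
  have hspan : Ideal.span (Set.range (fun i => algebraMap R S (l₀ i))) =
      Ideal.span {x | x ∈ l} := by
    apply le_antisymm
    · rw [Ideal.span_le]
      rintro _ ⟨i, rfl⟩
      show algebraMap R S (l₀ i) ∈ Ideal.span {x | x ∈ l}
      rw [← hl₀ i]
      exact Ideal.mul_mem_right _ _ (Ideal.subset_span (List.get_mem l i))
    · rw [Ideal.span_le]
      intro x hx
      obtain ⟨i, rfl⟩ := List.mem_iff_get.mp hx
      have h2 : l.get i * algebraMap R S g ^ n i ∈
          Ideal.span (Set.range (fun i => algebraMap R S (l₀ i))) := by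
        rw [hl₀ i]
        exact Ideal.subset_span ⟨i, rfl⟩
      exact (Ideal.mul_unit_mem_iff_mem _ (hgu.pow (n i))).mp h2
  refine ⟨l₀, hl₀K, hspan, ?_⟩
  intro k hk
  have h3 : algebraMap R S k ∈ Ideal.span (algebraMap R S '' (Set.range l₀)) := by
    have : algebraMap R S '' (Set.range l₀) = Set.range (fun i => algebraMap R S (l₀ i)) := by
      ext x
      constructor
      · rintro ⟨_, ⟨i, rfl⟩, rfl⟩
        exact ⟨i, rfl⟩
      · rintro ⟨i, rfl⟩
        exact ⟨_, ⟨i, rfl⟩, rfl⟩
    rw [this, hspan, ← hKl]
    exact Ideal.mem_map_of_mem _ hk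
  obtain ⟨y, hy, z, hz⟩ := (IsLocalization.mem_span_map (Submonoid.powers g)).mp h3
  have h4 : algebraMap R S (k * z) = algebraMap R S y := by
    rw [map_mul, hz, IsLocalization.mk'_spec]
  obtain ⟨c, hc⟩ := (IsLocalization.eq_iff_exists (Submonoid.powers g) S).mp h4
  obtain ⟨a, ha⟩ := c.2
  obtain ⟨b, hb⟩ := z.2
  have ha' : g ^ a = (c : R) := ha
  have hb' : g ^ b = (z : R) := hb
  refine ⟨a + b, ?_⟩
  have h5 : g ^ (a + b) * k = (c : R) * y := by
    rw [← hc, pow_add, ha', hb']
    ring
  rw [h5]
  exact Ideal.mul_mem_left _ _ hy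

/-- flatness of the canonical map between localizations `R_g → R_{g t}`. -/
theorem flat_awayToAwayRight (g t : R) (S : Type u) [CommRing S] [Algebra R S]
    [IsLocalization.Away g S] (T : Type u) [CommRing T] [Algebra R T]
    [IsLocalization.Away (g * t) T] :
    (IsLocalization.Away.awayToAwayRight (S := S) (P := T) g t).Flat := by
  set φ : S →+* T := IsLocalization.Away.awayToAwayRight (S := S) (P := T) g t with hφ
  letI : Algebra S T := φ.toAlgebra
  haveI : IsScalarTower R S T := IsScalarTower.of_algebraMap_eq (fun a =>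
    (IsLocalization.Away.awayToAwayRight_eq (S := S) (P := T) g t a).symm)
  let N : Submonoid R := (IsUnit.submonoid T).comap (algebraMap R T)
  have hgt : IsUnit (algebraMap R T (g * t)) := IsLocalization.Away.algebraMap_isUnit (g * t)
  haveI : IsLocalization N T := by
    refine IsLocalization.of_le (Submonoid.powers (g * t)) N ?_ (fun r hr => hr)
    rw [Submonoid.powers_le]
    exact hgt
  have hle : Submonoid.powers g ≤ N := by
    rw [Submonoid.powers_le]
    show IsUnit (algebraMap R T g)
    rw [map_mul] at hgt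
    exact isUnit_of_mul_isUnit_left hgt
  haveI := IsLocalization.isLocalization_of_submonoid_le S T (Submonoid.powers g) N hle
  exact IsLocalization.flat T (N.map (algebraMap R S))

/-- **Lemma A**: partial independent generators of an ideal that is locally generated by a
Koszul-regular sequence extend (on a smaller basic open) to a Koszul-regular generating
sequence. -/
theorem exists_koszul_generators (K q : Ideal R) [q.IsPrime]
    (g : R) (hg : g ∉ q) (S : Type u) [CommRing S] [Algebra R S] [IsLocalization.Away g S]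
    (l : List S) (hl : LCI.IsKoszulRegularSeq S l)
    (hKl : K.map (algebraMap R S) = Ideal.span {x | x ∈ l})
    (fs : List R) (hfs : ∀ f ∈ fs, f ∈ K) (hind : Indep K q fs) :
    ∃ (t : R) (L : List R), t ∉ q ∧ (∀ x ∈ L, x ∈ K) ∧
      ∀ (T : Type u) [CommRing T] [Algebra R T] [IsLocalization.Away (g * t) T],
        LCI.IsKoszulRegularSeq T ((L ++ fs).map (algebraMap R T)) ∧
        K.map (algebraMap R T) = Ideal.span {x | x ∈ (L ++ fs).map (algebraMap R T)} := by
  obtain ⟨l₀, hl₀K, hspan, hgen⟩ := exists_numerators K g S l hKl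
  obtain ⟨t, J, ht, hcard, hgenJ⟩ := exchange K q l₀ hl₀K g hg hgen fs hfs hind
  refine ⟨t, J.toList.map l₀, ht, ?_, ?_⟩
  · intro x hx
    obtain ⟨j, _, rfl⟩ := List.mem_map.mp hx
    exact hl₀K j
  · intro T _ _ _
    set φ : S →+* T := IsLocalization.Away.awayToAwayRight (S := S) (P := T) g t with hφ
    have hφalg : ∀ a, φ (algebraMap R S a) = algebraMap R T a := fun a =>
      IsLocalization.Away.awayToAwayRight_eq (S := S) (P := T) g t a
    have hflat : φ.Flat := flat_awayToAwayRight g t S T
    -- the numerators form a Koszul-regular sequence in `S`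
    set l' : List S := List.ofFn (fun i => algebraMap R S (l₀ i)) with hl'
    have hl'len : l'.length = l.length := List.length_ofFn
    have hl'span : Ideal.ofList l' = Ideal.ofList l := by
      show Ideal.span {x | x ∈ l'} = Ideal.span {x | x ∈ l}
      rw [← hspan]
      congr 1
      ext x
      simp only [Set.mem_ofPred_eq, hl', List.mem_ofFn, Set.mem_range]
    have hl'reg : LCI.IsKoszulRegularSeq S l' :=
      Groth.Agent.H79.KoszulMinGen.regular_of_length_eq l l' hl hl'span.symm hl'len.symm
    have hl''reg : LCI.IsKoszulRegularSeq T (l'.map φ) :=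
      Groth.Agent.H39.KoszulFlatBC.isKoszulRegularSeq_map_of_flat φ hflat l' hl'reg
    have hgt : IsUnit (algebraMap R T (g * t)) := IsLocalization.Away.algebraMap_isUnit (g * t)
    have hgu : IsUnit (algebraMap R T g) := by
      rw [map_mul] at hgt
      exact isUnit_of_mul_isUnit_left hgt
    have hK1 : K.map (algebraMap R T) = Ideal.ofList (l'.map φ) := by
      rw [map_eq_span_of_gen K (Set.range l₀) (by rintro _ ⟨i, rfl⟩; exact hl₀K i) g hgen T hgu]
      show _ = Ideal.span {x | x ∈ l'.map φ}
      congr 1
      ext x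
      simp only [Set.mem_image, Set.mem_range, exists_exists_eq_and, Set.mem_ofPred_eq, hl',
        List.mem_map, List.mem_ofFn, hφalg]
    have hK2 : K.map (algebraMap R T) =
        Ideal.span {x | x ∈ (J.toList.map l₀ ++ fs).map (algebraMap R T)} := by
      rw [map_eq_span_of_gen K ({x | x ∈ fs} ∪ Set.range (fun j : J => l₀ j)) ?_ (g * t) hgenJ T
        hgt]
      · congr 1
        ext x
        simp only [Set.mem_image, Set.mem_union, Set.mem_ofPred_eq, Set.mem_range, Subtype.exists,
          exists_prop, List.map_append, List.map_map, List.mem_append, List.mem_map,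
          Finset.mem_toList, Function.comp_apply]
        constructor
        · rintro ⟨y, (hy | ⟨j, hj, rfl⟩), rfl⟩
          · exact Or.inr ⟨y, hy, rfl⟩
          · exact Or.inl ⟨j, hj, rfl⟩
        · rintro (⟨j, hj, rfl⟩ | ⟨y, hy, rfl⟩)
          · exact ⟨_, Or.inr ⟨j, hj, rfl⟩, rfl⟩
          · exact ⟨y, Or.inl hy, rfl⟩
      · rintro x (hx | ⟨j, rfl⟩)
        · exact hfs x hx
        · exact hl₀K j
    refine ⟨?_, hK2⟩
    refine Groth.Agent.H79.KoszulMinGen.regular_of_length_eq (l'.map φ) _ hl''reg ?_ ?_
    · rw [← hK1]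
      exact hK2
    · simp only [List.length_map, List.length_append, Finset.length_toList, hl'len]
      exact hcard.symm

/-- (H5) localizing a surjection away from an element. -/
theorem away_map_surjective_ker {R' : Type u} [CommRing R'] (φ : R →+* R')
    (hφ : Function.Surjective φ) (s : R) (T : Type u) [CommRing T] [Algebra R T]
    [IsLocalization.Away s T] (T' : Type u) [CommRing T'] [Algebra R' T']
    [IsLocalization.Away (φ s) T'] :
    Function.Surjective (IsLocalization.Away.map T T' φ s) ∧
      RingHom.ker (IsLocalization.Away.map T T' φ s) = (RingHom.ker φ).map (algebraMap R T) := by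
  have hT : Submonoid.map φ (Submonoid.powers s) = Submonoid.powers (φ s) :=
    Submonoid.map_powers φ s
  haveI : IsLocalization (Submonoid.map φ (Submonoid.powers s)) T' := by
    rw [hT]
    infer_instance
  constructor
  · exact IsLocalization.map_surjective_of_surjective (M := Submonoid.powers s) (S := T)
      (Q := T') (g := φ) hφ
  · exact IsLocalization.ker_map (M := Submonoid.powers s) (S := T) T' φ hT

/-- **Quotient lemma**: if `K` is a Koszul-regular ideal of `R` containing a Koszul-regular
sequence `fs` which is independent (part of a minimal generating set of `K`) at all primes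
containing `K`, then the image of `K` in `R / (fs)` is a Koszul-regular ideal. -/
theorem isKoszulRegularIdeal_map_of_surjective (K : Ideal R) (hK : LCI.IsKoszulRegularIdeal K)
    {R' : Type u} [CommRing R'] (φ : R →+* R') (hφ : Function.Surjective φ) (fs : List R)
    (hfsreg : LCI.IsKoszulRegularSeq R fs) (hker : RingHom.ker φ = Ideal.ofList fs)
    (hfsK : ∀ f ∈ fs, f ∈ K)
    (hind : ∀ q : Ideal R, q.IsPrime → K ≤ q → Indep K q fs) :
    LCI.IsKoszulRegularIdeal (K.map φ) := by
  intro 𝔭' h𝔭'
  set q : Ideal R := 𝔭'.asIdeal.comap φ with hq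
  haveI : q.IsPrime := Ideal.comap_isPrime φ 𝔭'.asIdeal
  have hKq : K ≤ q := by
    rw [hq, ← Ideal.map_le_iff_le_comap]
    exact h𝔭'
  obtain ⟨g, hg, l, hl, hKl⟩ := hK ⟨q, inferInstance⟩ hKq
  obtain ⟨t, L, ht, hLK, hT⟩ := exists_koszul_generators K q g hg (Localization.Away g) l hl hKl
    fs hfsK (hind q inferInstance hKq)
  set s := g * t with hs
  have hsq : s ∉ q := fun h => ((inferInstance : q.IsPrime).mem_or_mem h).elim hg ht
  refine ⟨φ s, fun h => hsq h, ?_⟩
  obtain ⟨hreg, hgenT⟩ := hT (Localization.Away s)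
  set T := Localization.Away s
  set T' := Localization.Away (φ s)
  set φT : T →+* T' := IsLocalization.Away.map T T' φ s with hφT
  obtain ⟨hsurj, hkerT⟩ := away_map_surjective_ker φ hφ s T T'
  have hcomp : ∀ x, φT (algebraMap R T x) = algebraMap R' T' (φ x) := fun x =>
    IsLocalization.map_eq _ x
  have hfsT : LCI.IsKoszulRegularSeq T (fs.map (algebraMap R T)) :=
    Groth.Agent.H39.KoszulFlatBC.isKoszulRegularSeq_map_of_flat (algebraMap R T)
      (RingHom.flat_algebraMap_iff.mpr (IsLocalization.flat T (Submonoid.powers s))) fs hfsreg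
  have hkerT' : RingHom.ker φT = Ideal.ofList (fs.map (algebraMap R T)) := by
    rw [hkerT, hker, Ideal.map_ofList]
  rw [List.map_append] at hreg hgenT
  have hres := Groth.Agent.H39.KoszulQuot.isKoszulRegularSeq_map_of_append φT hsurj
    (fs.map (algebraMap R T)) hfsT hkerT' (L.map (algebraMap R T)) hreg
  refine ⟨(L.map (algebraMap R T)).map φT, hres, ?_⟩
  have h1 : (K.map φ).map (algebraMap R' T') = (K.map (algebraMap R T)).map φT := by
    rw [Ideal.map_map, Ideal.map_map]
    congr 1
    ext x
    exact (hcomp x).symm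
  rw [h1, hgenT]
  change Ideal.map φT (Ideal.ofList _) = Ideal.ofList _
  rw [Ideal.map_ofList, List.map_append]
  apply le_antisymm
  · rw [Ideal.ofList, Ideal.span_le]
    intro x hx
    rcases List.mem_append.mp hx with hx | hx
    · exact Ideal.subset_span hx
    · obtain ⟨y, hy, rfl⟩ := List.mem_map.mp hx
      have hy0 : φT y = 0 := by
        have : y ∈ RingHom.ker φT := by
          rw [hkerT']
          exact Ideal.subset_span hy
        exact (RingHom.mem_ker).mp this
      rw [hy0]
      exact Ideal.zero_mem _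
  · apply Ideal.span_mono
    intro x hx
    exact List.mem_append_left _ hx

end Groth.Agent.H39.KoszulLoc
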