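import Mathlib
import Groth.Agent.H39.KoszulLoc
import Groth.Agent.H79.KoszulPoly

set_option autoImplicit false
set_option linter.style.haveILetI false
universe u

open Groth.Agent.H39.KoszulExchange Groth.Agent.H39.KoszulLoc

namespace Groth.Agent.H39.KoszulPres

variable {R : Type u} [CommRing R]

/-- Koszul-regular sequences are preserved by bijective ring maps. -/
theorem isKoszulRegularSeq_map_of_bijective {R' : Type u} [CommRing R'] (e : R →+* R')
    (he : Function.Bijective e) (l : List R) (hl : LCI.IsKoszulRegularSeq R l) :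
    LCI.IsKoszulRegularSeq R' (l.map e) :=
  Groth.Agent.H39.KoszulFlatBC.isKoszulRegularSeq_map_of_flat e (RingHom.Flat.of_bijective he) l hl

/-- (H6) the Koszul-regular-ideal condition at `g` may be checked on any localization away
from `g`. -/
theorem exists_list_localizationAway (I : Ideal R) (g : R) (T : Type u) [CommRing T] [Algebra R T]
    [IsLocalization.Away g T] (l : List T) (hl : LCI.IsKoszulRegularSeq T l)
    (hI : I.map (algebraMap R T) = Ideal.span {x | x ∈ l}) :
    ∃ l' : List (Localization.Away g), LCI.IsKoszulRegularSeq (Localization.Away g) l' ∧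
      I.map (algebraMap R (Localization.Away g)) = Ideal.span {x | x ∈ l'} := by
  let e : T ≃ₐ[R] Localization.Away g :=
    IsLocalization.algEquiv (Submonoid.powers g) T (Localization.Away g)
  refine ⟨l.map e.toRingEquiv.toRingHom, isKoszulRegularSeq_map_of_bijective _ e.bijective l hl, ?_⟩
  have h1 : I.map (algebraMap R (Localization.Away g)) =
      (I.map (algebraMap R T)).map e.toRingEquiv.toRingHom := by
    rw [Ideal.map_map]
    congr 1
    ext x
    exact (e.commutes x).symm
  rw [h1, hI]
  exact Ideal.map_ofList _ l

/-- (H7) Koszul-regular ideals are preserved by ring isomorphisms. -/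
theorem isKoszulRegularIdeal_map_ringEquiv {R' : Type u} [CommRing R'] (e : R ≃+* R')
    (I : Ideal R) (hI : LCI.IsKoszulRegularIdeal I) :
    LCI.IsKoszulRegularIdeal (I.map e.toRingHom) := by
  intro 𝔭' h𝔭'
  set q : Ideal R := 𝔭'.asIdeal.comap e.toRingHom with hq
  haveI : q.IsPrime := Ideal.comap_isPrime e.toRingHom 𝔭'.asIdeal
  have hIq : I ≤ q := by
    rw [hq, ← Ideal.map_le_iff_le_comap]
    exact h𝔭'
  obtain ⟨g, hg, l, hl, hIl⟩ := hI ⟨q, inferInstance⟩ hIq
  refine ⟨e g, fun h => hg h, ?_⟩
  obtain ⟨hsurj, hker⟩ := away_map_surjective_ker e.toRingHom e.surjective g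
    (Localization.Away g) (Localization.Away (e.toRingHom g))
  have hinj : Function.Injective
      (IsLocalization.Away.map (Localization.Away g) (Localization.Away (e.toRingHom g))
        e.toRingHom g) := by
    rw [injective_iff_map_eq_zero]
    intro x hx
    have h0 : x ∈ RingHom.ker (IsLocalization.Away.map (Localization.Away g)
        (Localization.Away (e.toRingHom g)) e.toRingHom g) := (RingHom.mem_ker).mpr hx
    have hbot : RingHom.ker e.toRingHom = ⊥ :=
      (RingHom.injective_iff_ker_eq_bot e.toRingHom).mp e.injective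
    rw [hker, hbot, Ideal.map_bot] at h0
    exact h0
  refine ⟨l.map (IsLocalization.Away.map (Localization.Away g)
    (Localization.Away (e.toRingHom g)) e.toRingHom g),
    isKoszulRegularSeq_map_of_bijective _ ⟨hinj, hsurj⟩ l hl, ?_⟩
  have hcomp : ∀ x, (IsLocalization.Away.map (Localization.Away g)
      (Localization.Away (e.toRingHom g)) e.toRingHom g) (algebraMap R (Localization.Away g) x) =
      algebraMap R' (Localization.Away (e.toRingHom g)) (e.toRingHom x) := fun x =>
    IsLocalization.map_eq _ x
  have h1 : (I.map e.toRingHom).map (algebraMap R' (Localization.Away (e.toRingHom g))) =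
      (I.map (algebraMap R (Localization.Away g))).map (IsLocalization.Away.map
        (Localization.Away g) (Localization.Away (e.toRingHom g)) e.toRingHom g) := by
    rw [Ideal.map_map, Ideal.map_map]
    congr 1
    ext x
    exact (hcomp x).symm
  change (I.map e.toRingHom).map (algebraMap R' (Localization.Away (e.toRingHom g))) = _
  rw [h1, hIl]
  exact Ideal.map_ofList _ l

section Poly

variable (m : ℕ) (f : Fin m → R)

open MvPolynomial

/-- the translation automorphism `X_j ↦ X_j - C (f j)` of the polynomial ring. -/
noncomputable def translate : MvPolynomial (Fin m) R ≃ₐ[R] MvPolynomial (Fin m) R :=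
  AlgEquiv.ofAlgHom (aeval (fun j => X j - C (f j))) (aeval (fun j => X j + C (f j)))
    (by ext j; simp) (by ext j; simp)

theorem translate_X (j : Fin m) : translate m f (X j) = X j - C (f j) := by
  simp [translate]

/-- the list `X_j - C (f j)`. -/
noncomputable def xsList : List (MvPolynomial (Fin m) R) :=
  List.ofFn (fun j : Fin m => (X j - C (f j) : MvPolynomial (Fin m) R))

theorem isKoszulRegularSeq_xsList : LCI.IsKoszulRegularSeq (MvPolynomial (Fin m) R) (xsList m f) := by
  have h1 := Groth.Agent.H79.KoszulPoly.isWeaklyRegular_pow_X (A := R) m 1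
  have h2 : ((List.ofFn (fun j : Fin m => (X j : MvPolynomial (Fin m) R))).map (· ^ 1)) =
      List.ofFn (fun j : Fin m => (X j : MvPolynomial (Fin m) R)) := by
    simp [Function.comp_def]
  rw [h2] at h1
  have h3 : LCI.IsKoszulRegularSeq (MvPolynomial (Fin m) R)
      (List.ofFn (fun j : Fin m => (X j : MvPolynomial (Fin m) R))) := fun i hi =>
    Groth.Agent.H79.KoszulCone.isZero_homology_of_isWeaklyRegular _ h1 i hi
  have h4 := isKoszulRegularSeq_map_of_bijective (translate m f).toRingEquiv.toRingHom
    (translate m f).bijective _ h3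
  have h5 : (List.ofFn (fun j : Fin m => (X j : MvPolynomial (Fin m) R))).map
      (translate m f).toRingEquiv.toRingHom = xsList m f := by
    rw [List.map_ofFn]
    unfold xsList
    congr 1
    ext1 j
    exact translate_X m f j
  rw [h5] at h4
  exact h4

theorem sub_C_aeval_mem (p : MvPolynomial (Fin m) R) :
    p - C (aeval f p) ∈ Ideal.ofList (xsList m f) := by
  induction p using MvPolynomial.induction_on with
  | C a =>
    simp
  | add p q hp hq =>
    have : p + q - C (aeval f (p + q)) = (p - C (aeval f p)) + (q - C (aeval f q)) := by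
      rw [map_add, map_add]
      ring
    rw [this]
    exact Ideal.add_mem _ hp hq
  | mul_X p j hp =>
    have : p * X j - C (aeval f (p * X j)) =
        (p - C (aeval f p)) * X j + C (aeval f p) * (X j - C (f j)) := by
      rw [map_mul, aeval_X, map_mul]
      ring
    rw [this]
    refine Ideal.add_mem _ (Ideal.mul_mem_right _ _ hp) (Ideal.mul_mem_left _ _ ?_)
    exact Ideal.subset_span (by simp [xsList])

theorem ker_aeval_eq :
    RingHom.ker (aeval f : MvPolynomial (Fin m) R →ₐ[R] R).toRingHom = Ideal.ofList (xsList m f) := by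
  apply le_antisymm
  · intro p hp
    have h0 : aeval f p = 0 := (RingHom.mem_ker).mp hp
    have := sub_C_aeval_mem m f p
    rwa [h0, map_zero, sub_zero] at this
  · rw [Ideal.ofList, Ideal.span_le]
    intro x hx
    obtain ⟨j, rfl⟩ := (List.mem_ofFn' _ _).mp hx
    rw [SetLike.mem_coe, RingHom.mem_ker]
    simp

theorem aeval_surjective : Function.Surjective (aeval f : MvPolynomial (Fin m) R →ₐ[R] R).toRingHom :=
  fun a => ⟨C a, by simp⟩

theorem isKoszulRegularSeq_map_C_append (l : List R) (hl : LCI.IsKoszulRegularSeq R l) :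
    LCI.IsKoszulRegularSeq (MvPolynomial (Fin m) R)
      (l.map (C : R →+* MvPolynomial (Fin m) R) ++ xsList m f) := by
  refine Groth.Agent.H39.KoszulAppend.isKoszulRegularSeq_append
    (aeval f : MvPolynomial (Fin m) R →ₐ[R] R).toRingHom (aeval_surjective m f) (xsList m f)
    (isKoszulRegularSeq_xsList m f) (ker_aeval_eq m f) _ ?_
  have : (l.map (C : R →+* MvPolynomial (Fin m) R)).map
      (aeval f : MvPolynomial (Fin m) R →ₐ[R] R).toRingHom = l := by
    rw [List.map_map]
    conv_rhs => rw [← List.map_id l]
    congr 1
    ext a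
    simp
  rw [this]
  exact hl

attribute [local instance] MvPolynomial.algebraMvPolynomial

/-- **Polynomial extension of a Koszul-regular ideal**: if `K ⊂ R` is a Koszul-regular ideal then
so is `K·R[X] + (X_j - f_j)`. -/
theorem isKoszulRegularIdeal_mvPolynomial (K : Ideal R) (hK : LCI.IsKoszulRegularIdeal K) :
    LCI.IsKoszulRegularIdeal
      (K.map (C : R →+* MvPolynomial (Fin m) R) ⊔ Ideal.ofList (xsList m f)) := by
  intro 𝔭 h𝔭
  set q : Ideal R := 𝔭.asIdeal.comap (C : R →+* MvPolynomial (Fin m) R) with hq
  haveI : q.IsPrime := Ideal.comap_isPrime _ 𝔭.asIdeal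
  have hKq : K ≤ q := by
    rw [hq, ← Ideal.map_le_iff_le_comap]
    exact le_trans le_sup_left h𝔭
  obtain ⟨g, hg, l, hl, hKl⟩ := hK ⟨q, inferInstance⟩ hKq
  refine ⟨C g, fun h => hg h, ?_⟩
  haveI : IsLocalization.Away (C g : MvPolynomial (Fin m) R)
      (MvPolynomial (Fin m) (Localization.Away g)) := by
    have := MvPolynomial.isLocalization (σ := Fin m) (Submonoid.powers g) (Localization.Away g)
    rwa [Submonoid.map_powers] at this
  refine exists_list_localizationAway _ (C g) (MvPolynomial (Fin m) (Localization.Away g))
    (l.map (C : Localization.Away g →+* MvPolynomial (Fin m) (Localization.Away g)) ++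
      xsList m (fun j => algebraMap R (Localization.Away g) (f j)))
    (isKoszulRegularSeq_map_C_append m _ l hl) ?_
  change _ = Ideal.ofList _
  rw [Ideal.ofList_append, Ideal.map_sup, ← Ideal.map_ofList, Ideal.map_ofList _ (xsList m f),
    Ideal.map_map]
  congr 1
  · have hl' : Ideal.ofList l = K.map (algebraMap R (Localization.Away g)) := hKl.symm
    rw [hl', Ideal.map_map]
    congr 1
    ext a
    simp
  · congr 1
    unfold xsList
    rw [List.map_ofFn]
    congr 1
    ext1 j
    simp

end Poly

end Groth.Agent.H39.KoszulPres
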