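import Mathlib
import Groth.Agent.H39.KoszulPres

set_option autoImplicit false
set_option linter.style.haveILetI false
universe u

open Groth.Agent.H39.KoszulExchange Groth.Agent.H39.KoszulLoc Groth.Agent.H39.KoszulPres

namespace Groth.Agent.H39.KoszulPresMain

variable {R : Type u} [CommRing R]

/-- A Kronecker-dual family of semilinear functionals gives independence. -/
theorem indep_ofFn (K q : Ideal R) : ∀ (n : ℕ) (F : Fin n → R) (δ : Fin n → (R →+ R ⧸ q)),
    (∀ i t k, k ∈ K → δ i (t * k) = Ideal.Quotient.mk q t * δ i k) →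
    (∀ i j, δ i (F j) = if i = j then 1 else 0) → Indep K q (List.ofFn F)
  | 0, _, _, _, _ => by
    rw [List.ofFn_zero]
    trivial
  | (n + 1), F, δ, hδ, hkron => by
    rw [List.ofFn_succ]
    refine ⟨⟨δ 0, hδ 0, ?_, ?_⟩, ?_⟩
    · rw [hkron 0 0, if_pos rfl]
    · intro f' hf'
      obtain ⟨j, rfl⟩ := (List.mem_ofFn' _ _).mp hf'
      rw [hkron 0 j.succ, if_neg (Fin.succ_ne_zero j).symm]
    · refine indep_ofFn K q n (fun i => F i.succ) (fun i => δ i.succ) (fun i => hδ i.succ) ?_
      intro i j
      rw [hkron i.succ j.succ]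
      simp only [Fin.succ_inj]

open MvPolynomial

/-- independence of `X_i - C (g i)` in any ideal contained in the prime `q`. -/
theorem indep_xsList (n : ℕ) (g : Fin n → R) (K q : Ideal (MvPolynomial (Fin n) R)) [q.IsPrime]
    (hKq : K ≤ q) : Indep K q (xsList n g) := by
  refine indep_ofFn K q n _
    (fun i => (Ideal.Quotient.mk q : MvPolynomial (Fin n) R →+* _).toAddMonoidHom.comp
      ((pderiv i : Derivation R (MvPolynomial (Fin n) R) (MvPolynomial (Fin n) R)) :
        MvPolynomial (Fin n) R →ₗ[R] MvPolynomial (Fin n) R).toAddMonoidHom) ?_ ?_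
  · intro i t k hk
    simp only [AddMonoidHom.coe_comp, RingHom.toAddMonoidHom_eq_coe, AddMonoidHom.coe_coe,
      LinearMap.toAddMonoidHom_coe, Function.comp_apply, Derivation.coeFn_coe,
      Derivation.leibniz, smul_eq_mul, map_add, map_mul]
    rw [Ideal.Quotient.eq_zero_iff_mem.mpr (hKq hk), zero_mul, add_zero]
  · intro i j
    simp only [AddMonoidHom.coe_comp, RingHom.toAddMonoidHom_eq_coe, AddMonoidHom.coe_coe,
      LinearMap.toAddMonoidHom_coe, Function.comp_apply, Derivation.coeFn_coe, map_sub,
      pderiv_X, pderiv_C, Pi.single_apply]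
    by_cases hij : i = j
    · subst hij
      simp
    · rw [if_neg hij, if_neg (fun h => hij h.symm), map_zero, sub_zero]

/-- kernel of a composite `α ∘ ψ` where `ψ` has a ring-theoretic section `c`. -/
theorem ker_comp_of_section {T P B : Type u} [CommRing T] [CommRing P] [CommRing B]
    (ψ : T →+* P) (c : P →+* T) (hc : ∀ p, ψ (c p) = p) (α : P →+* B) :
    RingHom.ker (α.comp ψ) = (RingHom.ker α).map c ⊔ RingHom.ker ψ := by
  apply le_antisymm
  · intro x hx
    have h0 : α (ψ x) = 0 := (RingHom.mem_ker).mp hx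
    have h1 : x = c (ψ x) + (x - c (ψ x)) := by ring
    rw [h1]
    refine Ideal.add_mem _ (Ideal.mem_sup_left (Ideal.mem_map_of_mem c ?_))
      (Ideal.mem_sup_right ?_)
    · exact (RingHom.mem_ker).mpr h0
    · rw [RingHom.mem_ker, map_sub, hc, sub_self]
  · refine sup_le ?_ ?_
    · rw [Ideal.map_le_iff_le_comap]
      intro k hk
      have h0 : α k = 0 := (RingHom.mem_ker).mp hk
      rw [Ideal.mem_comap, RingHom.mem_ker, RingHom.comp_apply, hc, h0]
    · intro x hx
      have h0 : ψ x = 0 := (RingHom.mem_ker).mp hx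
      rw [RingHom.mem_ker, RingHom.comp_apply, h0, map_zero]

/-- **S9269**: Koszul-regularity of the kernel of a presentation is independent of the
presentation. -/
theorem isKoszulRegularIdeal_ker_of_other_presentation (A B : Type u) [CommRing A] [CommRing B]
    [Algebra A B] (n m : ℕ) (α : MvPolynomial (Fin n) A →ₐ[A] B) (hα : Function.Surjective α)
    (β : MvPolynomial (Fin m) A →ₐ[A] B) (hβ : Function.Surjective β)
    (h : LCI.IsKoszulRegularIdeal (RingHom.ker α.toRingHom)) :
    LCI.IsKoszulRegularIdeal (RingHom.ker β.toRingHom) := by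
  choose f hf using fun j : Fin m => hα (β (X j))
  choose g hg using fun i : Fin n => hβ (α (X i))
  -- step (i): the kernel of `P[y] → B`
  have hK' := isKoszulRegularIdeal_mvPolynomial m f (RingHom.ker α.toRingHom) h
  -- transport to `Q[x]`
  let e : MvPolynomial (Fin m) (MvPolynomial (Fin n) A) ≃ₐ[A]
      MvPolynomial (Fin n) (MvPolynomial (Fin m) A) := commAlgEquiv A (Fin m) (Fin n)
  have hK'' := isKoszulRegularIdeal_map_ringEquiv e.toRingEquiv _ hK'
  set φ₂ : MvPolynomial (Fin n) (MvPolynomial (Fin m) A) →+* MvPolynomial (Fin m) A :=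
    (aeval g : MvPolynomial (Fin n) (MvPolynomial (Fin m) A) →ₐ[MvPolynomial (Fin m) A]
      MvPolynomial (Fin m) A).toRingHom with hφ₂
  have hφ₂surj : Function.Surjective φ₂ := aeval_surjective n g
  set ψ : MvPolynomial (Fin m) (MvPolynomial (Fin n) A) →+* MvPolynomial (Fin n) A :=
    (aeval f : MvPolynomial (Fin m) (MvPolynomial (Fin n) A) →ₐ[MvPolynomial (Fin n) A]
      MvPolynomial (Fin n) A).toRingHom with hψ
  -- the two maps to `B` agree
  have hγ : (β.toRingHom.comp φ₂).comp e.toRingEquiv.toRingHom = α.toRingHom.comp ψ := by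
    apply MvPolynomial.ringHom_ext
    · intro p
      have h1 : ∀ p : MvPolynomial (Fin n) A,
          β (aeval g (MvPolynomial.map (C : A →+* MvPolynomial (Fin m) A) p)) = α p := by
        intro p
        induction p using MvPolynomial.induction_on with
        | C a => simp
        | add p q hp hq => simp only [map_add, hp, hq]
        | mul_X p i hp =>
          simp only [map_mul, hp, map_X, aeval_X, hg]
      simpa [hφ₂, hψ, e] using h1 p
    · intro j
      simp [hφ₂, hψ, e, hf]
  have hker1 : RingHom.ker (α.toRingHom.comp ψ) =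
      (RingHom.ker α.toRingHom).map (C : MvPolynomial (Fin n) A →+* _) ⊔
        Ideal.ofList (xsList m f) := by
    rw [ker_comp_of_section ψ C (fun p => by simp [hψ]) α.toRingHom, hψ, ker_aeval_eq]
  have hK''eq : Ideal.map e.toRingEquiv.toRingHom
      ((RingHom.ker α.toRingHom).map (C : MvPolynomial (Fin n) A →+* _) ⊔
        Ideal.ofList (xsList m f)) = RingHom.ker (β.toRingHom.comp φ₂) := by
    rw [← hker1, ← hγ, ← RingHom.comap_ker]
    exact Ideal.map_comap_of_surjective _ e.surjective _
  rw [hK''eq] at hK''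
  have hfinal : RingHom.ker β.toRingHom = (RingHom.ker (β.toRingHom.comp φ₂)).map φ₂ := by
    rw [← RingHom.comap_ker]
    exact (Ideal.map_comap_of_surjective φ₂ hφ₂surj _).symm
  rw [hfinal]
  refine isKoszulRegularIdeal_map_of_surjective _ hK'' φ₂ hφ₂surj (xsList n g)
    (isKoszulRegularSeq_xsList n g) (ker_aeval_eq n g) ?_ ?_
  · intro x hx
    have hx' : x ∈ RingHom.ker φ₂ := by
      rw [hφ₂, ker_aeval_eq]
      exact Ideal.subset_span hx
    have h0 : φ₂ x = 0 := (RingHom.mem_ker).mp hx'
    rw [RingHom.mem_ker, RingHom.comp_apply, h0, map_zero]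
  · intro q hq hKq
    haveI := hq
    exact indep_xsList n g _ q hKq

end Groth.Agent.H39.KoszulPresMain
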