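import Mathlib
import Groth.Agent.H47.RegSmoothField
import Groth.Agent.H13.PerfectReduced

set_option autoImplicit false
set_option linter.style.haveILetI false
universe u
open TensorProduct CategoryTheory AlgebraicGeometry Set TopologicalSpace Topology
open scoped Set.Notation

namespace Groth.Agent.H39.GenericSmooth

attribute [local instance] Algebra.TensorProduct.rightAlgebra in
/-- `A` a domain with perfect fraction field `K`, `B` a finite type `A`-algebra, `q` a prime of
`B` over the zero ideal of `A` such that `B_q` is regular. Then `B` is smooth over `A` at `q`. -/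
theorem isSmoothAt_of_isRegularLocalRing_of_under_eq_bot (A B : Type u) [CommRing A] [CommRing B]
    [IsDomain A] [Algebra A B] [Algebra.FiniteType A B]
    (K : Type u) [Field K] [Algebra A K] [IsFractionRing A K] [PerfectField K]
    (q : Ideal B) [q.IsPrime] (hq : q.under A = ⊥)
    [IsRegularLocalRing (Localization.AtPrime q)] : Algebra.IsSmoothAt A q := by
  let BK := K ⊗[A] B
  let M : Submonoid B := Algebra.algebraMapSubmonoid B (nonZeroDivisors A)
  have hloc : IsLocalization M BK := inferInstance
  have hdisj : Disjoint (M : Set B) (q : Set B) := by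
    rw [Set.disjoint_left]
    rintro _ ⟨a, ha, rfl⟩ hmem
    have : a ∈ q.under A := hmem
    rw [hq, Ideal.mem_bot] at this
    exact (nonZeroDivisors.ne_zero ha) this
  let qK : Ideal BK := q.map (algebraMap B BK)
  have hqK : qK.IsPrime := IsLocalization.isPrime_of_isPrime_disjoint M _ q ‹_› hdisj
  have hcomap : qK.comap (algebraMap B BK) = q :=
    IsLocalization.under_map_of_isPrime_disjoint M _ ‹_› hdisj
  let T := Localization.AtPrime qK
  have hT : IsLocalization.AtPrime T (qK.comap (algebraMap B BK)) :=
    IsLocalization.isLocalization_isLocalization_atPrime_isLocalization M T qK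
  have hT' : IsLocalization.AtPrime T q := by
    convert hT
    exact hcomap.symm
  let e : T ≃ₐ[B] Localization.AtPrime q := IsLocalization.algEquiv q.primeCompl _ _
  have : IsRegularLocalRing T := IsRegularLocalRing.of_ringEquiv e.symm.toRingEquiv
  have : Algebra.IsGeometricallyReduced K qK.ResidueField := by
    have : IsReduced (K ⊗[K] qK.ResidueField) :=
      isReduced_of_injective (Algebra.TensorProduct.lid K qK.ResidueField).toAlgHom
        (Algebra.TensorProduct.lid K qK.ResidueField).injective
    exact Groth.Agent.H13.isGeometricallyReduced_of_isReduced_tensorProduct_perfectField K K _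
  have hsm : Algebra.FormallySmooth K T :=
    Groth.Agent.H47.RSF.isSmoothAt_of_isRegularLocalRing K BK qK
  have : Algebra.FormallySmooth A K := Algebra.FormallySmooth.of_isLocalization (nonZeroDivisors A)
  have : Algebra.FormallySmooth A T := Algebra.FormallySmooth.comp A K T
  refine (Algebra.FormallySmooth.iff_of_equiv (A := T) ?_).mp this
  exact (IsLocalization.algEquiv q.primeCompl _ _).restrictScalars A

/-- A point of the generic fibre of a morphism locally of finite presentation to an integral
scheme with perfect function field, at which the source is regular, is a smooth point. -/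
theorem mem_smoothLocus_of_map_eq_genericPoint {X Y : Scheme.{u}} [IsIntegral Y]
    (f : X ⟶ Y) [LocallyOfFinitePresentation f] [PerfectField Y.functionField]
    (x : X) (hx : f x = genericPoint Y) [IsRegularLocalRing (X.presheaf.stalk x)] :
    x ∈ f.smoothLocus := by
  obtain ⟨_, ⟨V, hV, rfl⟩, hxV, -⟩ :=
    Y.isBasis_affineOpens.exists_subset_of_mem_open (Set.mem_univ (f x)) isOpen_univ
  obtain ⟨_, ⟨W, hW, rfl⟩, hxW, hWV⟩ :=
    X.isBasis_affineOpens.exists_subset_of_mem_open (show x ∈ f ⁻¹ᵁ V from hxV)
      (V.2.preimage f.continuous)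
  have hfp := f.finitePresentation_appLE hV hW hWV
  algebraize [(f.appLE V W hWV).hom]
  rw [Scheme.Hom.mem_smoothLocus, formallySmooth_stalkMap_iff V hV W hW hWV hxW]
  let q := (hW.primeIdealOf ⟨x, hxW⟩).asIdeal
  let p := (hV.primeIdealOf ⟨f x, hWV hxW⟩).asIdeal
  have hqp : q.under Γ(Y, V) = p :=
    congr($(IsAffineOpen.comap_primeIdealOf_appLE V hV W hW hWV hxW).1)
  have hne : Nonempty V := ⟨⟨f x, hWV hxW⟩⟩
  have hp : p = ⊥ := by
    have h1 := hV.primeIdealOf_genericPoint
    have h2 : hV.primeIdealOf ⟨f x, hWV hxW⟩ = hV.primeIdealOf ⟨genericPoint Y,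
        ((genericPoint_spec Y).mem_open_set_iff V.isOpen).mpr (by simpa using hne)⟩ := by
      congr 1
      exact Subtype.ext hx
    change (hV.primeIdealOf ⟨f x, hWV hxW⟩).asIdeal = ⊥
    rw [h2, h1, genericPoint_eq_bot_of_affine]
    rfl
  have : IsFractionRing Γ(Y, V) Y.functionField :=
    functionField_isFractionRing_of_isAffineOpen Y V hV
  let := X.presheaf.algebra_section_stalk ⟨x, hxW⟩
  have hst := hW.isLocalization_stalk ⟨x, hxW⟩
  have : IsRegularLocalRing (Localization.AtPrime q) :=
    IsRegularLocalRing.of_ringEquiv
      (IsLocalization.algEquiv q.primeCompl (X.presheaf.stalk x) (Localization.AtPrime q)).toRingEquiv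
  have : Algebra.FiniteType Γ(Y, V) Γ(X, W) := inferInstance
  exact isSmoothAt_of_isRegularLocalRing_of_under_eq_bot Γ(Y, V) Γ(X, W) Y.functionField q
    (hqp.trans hp)


/-- In a space with a generic point `g`, a constructible set either contains an open
neighbourhood of `g` or is disjoint from one. -/
theorem mem_interior_or_of_isConstructible {S : Type*} [TopologicalSpace S] {g : S}
    (hg : IsGenericPoint g (univ : Set S)) {C : Set S} (hC : IsConstructible C) :
    g ∈ interior C ∨ g ∈ interior Cᶜ := by
  induction hC using IsConstructible.empty_union_induction with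
  | open_retrocompact U hU _ =>
    by_cases hgU : g ∈ U
    · exact Or.inl (by rwa [hU.interior_eq])
    · right
      have : U = ∅ := by
        by_contra hne
        exact hgU ((hg.mem_open_set_iff hU).mpr (by simpa [Set.nonempty_iff_ne_empty] using hne))
      simp [this]
  | union s _ t _ hs ht =>
    rcases hs with hs | hs
    · exact Or.inl (interior_mono subset_union_left hs)
    rcases ht with ht | ht
    · exact Or.inl (interior_mono subset_union_right ht)
    · right
      rw [compl_union, interior_inter]
      exact ⟨hs, ht⟩
  | compl s _ hs =>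
    rcases hs with hs | hs
    · right; rwa [compl_compl]
    · left; exact hs

/-- In an irreducible space with generic point `g`, a locally constructible set not containing
`g` misses a nonempty open set. -/
theorem exists_isOpen_disjoint_of_isLocallyConstructible {S : Type*} [TopologicalSpace S] {g : S}
    (hg : IsGenericPoint g (univ : Set S)) {T : Set S} (hT : IsLocallyConstructible T)
    (hgT : g ∉ T) : ∃ O : Set S, IsOpen O ∧ g ∈ O ∧ Disjoint O T := by
  obtain ⟨U, hgU, hU, hUT⟩ := hT g
  have hgU' : g ∈ U := mem_of_mem_nhds hgU
  have hg' : IsGenericPoint (⟨g, hgU'⟩ : U) (univ : Set U) := by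
    rw [isGenericPoint_def, Set.eq_univ_iff_forall]
    intro y
    rw [← specializes_iff_mem_closure, subtype_specializes_iff]
    exact hg.specializes (Set.mem_univ _)
  rcases mem_interior_or_of_isConstructible hg' hUT with h | h
  · exact absurd (interior_subset h) (by simpa using hgT)
  · refine ⟨((↑) : U → S) '' interior (U ↓∩ T)ᶜ, hU.isOpenMap_subtype_val _ isOpen_interior,
      ⟨_, h, rfl⟩, ?_⟩
    rw [Set.disjoint_left]
    rintro _ ⟨y, hy, rfl⟩ hyT
    exact interior_subset hy hyT


/-- Generic smoothness: a dominant quasi-compact morphism locally of finite presentation from a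
regular integral scheme to an integral scheme with perfect function field is smooth over a dense
open of the target. -/
theorem exists_dense_open_smooth_restrict (X Y : Scheme.{u}) [IsIntegral Y]
    [IsLocallyNoetherian X] (hreg : ∀ x : X, IsRegularLocalRing (X.presheaf.stalk x))
    (f : X ⟶ Y) [LocallyOfFinitePresentation f] [QuasiCompact f]
    [PerfectField Y.functionField] :
    ∃ V : Y.Opens, Dense (V : Set Y) ∧ Smooth (f ∣_ V) := by
  -- the non-smooth locus
  let Z : Set X := (f.smoothLocus : Set X)ᶜ
  -- the smooth locus is locally constructible, as `X` is locally Noetherian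
  have hZ : IsLocallyConstructible Z := by
    intro x
    obtain ⟨_, ⟨U, hU, rfl⟩, hxU, -⟩ :=
      X.isBasis_affineOpens.exists_subset_of_mem_open (Set.mem_univ x) isOpen_univ
    refine ⟨U, U.2.mem_nhds hxU, U.2, ?_⟩
    have : IsNoetherianRing Γ(X, U) := IsLocallyNoetherian.component_noetherian ⟨U, hU⟩
    have : NoetherianSpace (U : Set X) := noetherianSpace_of_isAffineOpen U hU
    have hopen : IsOpen ((U : Set X) ↓∩ (f.smoothLocus : Set X)) :=
      f.smoothLocus.2.preimage continuous_subtype_val
    have hretro : IsRetrocompact ((U : Set X) ↓∩ (f.smoothLocus : Set X)) :=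
      fun K _ _ => TopologicalSpace.NoetherianSpace.isCompact _
    have := (hretro.isConstructible hopen).compl
    exact this
  have hT : IsLocallyConstructible (f '' Z) := f.isLocallyConstructible_image hZ
  have hη : genericPoint Y ∉ f '' Z := by
    rintro ⟨x, hxZ, hx⟩
    have := hreg x
    exact hxZ (mem_smoothLocus_of_map_eq_genericPoint f x hx)
  obtain ⟨O, hO, hηO, hdisj⟩ :=
    exists_isOpen_disjoint_of_isLocallyConstructible
      (genericPoint_spec Y) hT hη
  refine ⟨⟨O, hO⟩, hO.dense ⟨_, hηO⟩, ?_⟩
  rw [← Scheme.Hom.smoothLocus_eq_top_iff, ← top_le_iff]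
  rintro x -
  rw [Scheme.Hom.mem_smoothLocus]
  refine (RingHom.FormallySmooth.respectsIso.arrow_mk_iso_iff
    (morphismRestrictStalkMap f ⟨O, hO⟩ x)).mpr ?_
  rw [← Scheme.Hom.mem_smoothLocus]
  by_contra hx
  exact Set.disjoint_left.mp hdisj x.2 ⟨x.1, hx, rfl⟩


end Groth.Agent.H39.GenericSmooth
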