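import Mathlib
import Groth.Agent.S2082
import Groth.Agent.H26.CMFlat
import Groth.Agent.H56.AusBuchUFD
import Groth.Agent.Lead.RegularLocal

set_option autoImplicit false
set_option linter.style.haveILetI false
set_option linter.unusedSectionVars false
universe u

open IsLocalRing

namespace Groth.Agent.H39.FiniteGoingDown

/-- height can only drop along a quotient map, for primes containing the kernel -/
theorem height_map_mk_le {T : Type u} [CommRing T] (P₀ Q : Ideal T) [Q.IsPrime] (h : P₀ ≤ Q) :
    (Q.map (Ideal.Quotient.mk P₀)).height ≤ Q.height := by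
  haveI hQ' : (Q.map (Ideal.Quotient.mk P₀)).IsPrime :=
    Ideal.map_isPrime_of_surjective Ideal.Quotient.mk_surjective (by rwa [Ideal.mk_ker])
  have hcomap : (Q.map (Ideal.Quotient.mk P₀)).comap (Ideal.Quotient.mk P₀) = Q := by
    rw [Ideal.comap_map_of_surjective _ Ideal.Quotient.mk_surjective, ← RingHom.ker_eq_comap_bot,
      Ideal.mk_ker, sup_eq_left.mpr h]
  let x : PrimeSpectrum (T ⧸ P₀) := ⟨Q.map (Ideal.Quotient.mk P₀), hQ'⟩
  have h1 := Order.height_le_height_apply_of_strictMono
    (PrimeSpectrum.comap (Ideal.Quotient.mk P₀))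
    (RingHom.strictMono_comap_of_surjective Ideal.Quotient.mk_surjective) x
  rw [← PrimeSpectrum.height_eq_orderHeight, ← PrimeSpectrum.height_eq_orderHeight] at h1
  have h2 : ((PrimeSpectrum.comap (Ideal.Quotient.mk P₀)) x).asIdeal = Q := hcomap
  rw [h2] at h1
  exact h1

/-- Core: going down for a localized integral extension over a normal local base. -/
theorem height_le_height_of_integral (R S A B : Type u) [CommRing R] [CommRing S] [CommRing A]
    [CommRing B] [Algebra R S] [Algebra.IsIntegral R S] [IsNoetherianRing R] [IsNoetherianRing S]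
    (p : Ideal R) [p.IsPrime] (q : Ideal S) [q.IsPrime] [q.LiesOver p]
    [Algebra R A] [IsLocalization.AtPrime A p] [Algebra S B] [IsLocalization.AtPrime B q]
    [Algebra A B] [Algebra R B] [IsScalarTower R A B] [IsScalarTower R S B]
    [IsDomain A] [IsIntegrallyClosed A] [IsDomain B]
    (hinj : Function.Injective (algebraMap A B)) : p.height ≤ q.height := by
  let M := p.primeCompl
  let N := Algebra.algebraMapSubmonoid S M
  let T := Localization N
  let φAT : A →+* T := IsLocalization.map T (algebraMap R S)
    (show M ≤ (Algebra.algebraMapSubmonoid S M).comap _ from M.le_comap_map)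
  letI : Algebra A T := φAT.toAlgebra
  haveI hRAT : IsScalarTower R A T := by
    refine IsScalarTower.of_algebraMap_eq' ?_
    ext r
    change algebraMap R T r = φAT (algebraMap R A r)
    rw [IsLocalization.map_eq, IsScalarTower.algebraMap_apply R S T]
  haveI : Algebra.IsIntegral A T := ⟨fun x => isIntegral_localization (M := M) (Rₘ := A) (Sₘ := T) x⟩
  -- the map T → B
  have hqp : ∀ r : R, r ∉ p → algebraMap R S r ∉ q := by
    intro r hr hmem
    apply hr
    rw [q.over_def p]
    exact hmem
  have hu' : ∀ n : N, IsUnit (algebraMap S B n) := by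
    rintro ⟨_, r, hr, rfl⟩
    exact IsLocalization.map_units B (⟨algebraMap R S r, hqp r hr⟩ : q.primeCompl)
  let φTB : T →+* B := IsLocalization.lift hu'
  letI : Algebra T B := φTB.toAlgebra
  haveI hSTB : IsScalarTower S T B := by
    refine IsScalarTower.of_algebraMap_eq' ?_
    ext s
    change algebraMap S B s = φTB (algebraMap S T s)
    rw [IsLocalization.lift_eq]
  haveI hATB : IsScalarTower A T B := by
    refine IsScalarTower.of_algebraMap_eq' ?_
    apply IsLocalization.ringHom_ext M
    ext r
    simp only [RingHom.comp_apply]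
    rw [← IsScalarTower.algebraMap_apply R A B, ← IsScalarTower.algebraMap_apply R A T,
      IsScalarTower.algebraMap_apply R S B, IsScalarTower.algebraMap_apply R S T,
      ← IsScalarTower.algebraMap_apply S T B]
  haveI : IsNoetherianRing T := IsLocalization.isNoetherianRing N T inferInstance
  haveI : IsNoetherianRing A := IsLocalization.isNoetherianRing M A inferInstance
  -- the kernel of T → B
  let P₀ : Ideal T := RingHom.ker (algebraMap T B)
  haveI hP₀ : P₀.IsPrime := RingHom.ker_isPrime _
  -- the prime Q of T
  have hdisj : Disjoint (N : Set S) (q : Set S) := by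
    rw [Set.disjoint_left]
    rintro _ ⟨r, hr, rfl⟩ hmem
    exact hqp r hr hmem
  let Q : Ideal T := q.map (algebraMap S T)
  haveI hQ : Q.IsPrime := IsLocalization.isPrime_of_isPrime_disjoint N _ q ‹_› hdisj
  have hQcomap : Q.comap (algebraMap S T) = q :=
    IsLocalization.under_map_of_isPrime_disjoint N _ ‹_› hdisj
  have hQh : Q.height = q.height := IsLocalization.height_map_of_disjoint N q hdisj
  have hP₀Q : P₀ ≤ Q := by
    intro t ht
    obtain ⟨⟨s, n⟩, hsn⟩ := IsLocalization.surj N t
    have h0 : algebraMap S B s = 0 := by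
      have : algebraMap T B (t * algebraMap S T n) = 0 := by
        rw [map_mul, (RingHom.mem_ker).mp ht, zero_mul]
      rw [hsn, ← IsScalarTower.algebraMap_apply S T B] at this
      exact this
    obtain ⟨u, hu⟩ := (IsLocalization.map_eq_zero_iff q.primeCompl B s).mp h0
    have hsq : s ∈ q := by
      have : (u : S) * s ∈ q := by rw [hu]; exact q.zero_mem
      exact (‹q.IsPrime›.mem_or_mem this).resolve_left u.2
    have hsQ : algebraMap S T s ∈ Q := Ideal.mem_map_of_mem _ hsq
    rw [← hsn] at hsQ
    exact (hQ.mem_or_mem hsQ).resolve_right (fun hn => hQ.ne_top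
      (Ideal.eq_top_of_isUnit_mem _ hn (IsLocalization.map_units T n)))
  -- the quotient domain T' = T / P₀
  let T' := T ⧸ P₀
  haveI : IsDomain T' := Ideal.Quotient.isDomain P₀
  have hinj' : Function.Injective (algebraMap A T') := by
    rw [injective_iff_map_eq_zero]
    intro a ha
    apply hinj
    rw [map_zero, IsScalarTower.algebraMap_apply A T B]
    have : algebraMap A T a ∈ P₀ := by
      rw [IsScalarTower.algebraMap_apply A T T'] at ha
      exact Ideal.Quotient.eq_zero_iff_mem.mp ha
    exact this
  haveI : FaithfulSMul A T' := (faithfulSMul_iff_algebraMap_injective A T').mpr hinj'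
  haveI : Algebra.IsIntegral A T' :=
    Algebra.IsIntegral.of_surjective (IsScalarTower.toAlgHom A T T') Ideal.Quotient.mk_surjective
  let Q' : Ideal T' := Q.map (Ideal.Quotient.mk P₀)
  haveI hQ' : Q'.IsPrime :=
    Ideal.map_isPrime_of_surjective Ideal.Quotient.mk_surjective (by rwa [Ideal.mk_ker])
  have hQ'comap : Q'.comap (Ideal.Quotient.mk P₀) = Q := by
    rw [Ideal.comap_map_of_surjective _ Ideal.Quotient.mk_surjective, ← RingHom.ker_eq_comap_bot,
      Ideal.mk_ker, sup_eq_left.mpr hP₀Q]
  -- Q lies over the maximal ideal of A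
  haveI : IsLocalRing A := IsLocalization.AtPrime.isLocalRing A p
  have hQA : Q.comap (algebraMap A T) = maximalIdeal A := by
    have h1 : (Q.comap (algebraMap A T)).comap (algebraMap R A) = p := by
      rw [Ideal.comap_comap, ← IsScalarTower.algebraMap_eq R A T, IsScalarTower.algebraMap_eq R S T,
        ← Ideal.comap_comap, hQcomap, ← Ideal.under_def, ← q.over_def p]
    have h2 : (maximalIdeal A).under R = p :=
      IsLocalization.AtPrime.under_maximalIdeal A p
    rw [← IsLocalization.map_under M A (Q.comap (algebraMap A T)),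
      ← IsLocalization.map_under M A (maximalIdeal A), h2, Ideal.under_def, h1]
  haveI : Q'.LiesOver (maximalIdeal A) := by
    refine ⟨?_⟩
    rw [Ideal.under_def, IsScalarTower.algebraMap_eq A T T', ← Ideal.comap_comap]
    change _ = Ideal.comap (algebraMap A T) (Ideal.comap (Ideal.Quotient.mk P₀) Q')
    rw [hQ'comap, hQA]
  have hgd := Ideal.height_eq_height_add_of_liesOver_of_hasGoingDown (maximalIdeal A) Q'
  have h3 : (maximalIdeal A).height ≤ Q'.height := by
    rw [hgd]
    exact le_self_add
  have h4 : Q'.height ≤ Q.height := height_map_mk_le P₀ Q hP₀Q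
  have h5 : (maximalIdeal A).height = p.height := by
    have := IsLocalization.AtPrime.ringKrullDim_eq_height p A
    rw [← IsLocalRing.maximalIdeal_height_eq_ringKrullDim] at this
    exact WithBot.coe_injective this
  rw [← h5, ← hQh]
  exact h3.trans h4

section
variable (R S A B : Type u) [CommRing R] [CommRing S] [CommRing A]
    [CommRing B] [Algebra R S] [Algebra.IsIntegral R S]
    (p : Ideal R) [p.IsPrime] (q : Ideal S) [q.IsPrime] [q.LiesOver p]
    [Algebra R A] [IsLocalization.AtPrime A p] [Algebra S B] [IsLocalization.AtPrime B q]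
    [Algebra A B] [Algebra R B] [IsScalarTower R A B] [IsScalarTower R S B]
    [IsLocalRing A] [IsLocalRing B]

include R S p q in
theorem comap_maximalIdeal_eq : (maximalIdeal B).comap (algebraMap A B) = maximalIdeal A := by
  have h1 : ((maximalIdeal B).comap (algebraMap A B)).under R = p := by
    rw [Ideal.under_def, Ideal.comap_comap, ← IsScalarTower.algebraMap_eq R A B,
      IsScalarTower.algebraMap_eq R S B, ← Ideal.comap_comap, ← Ideal.under_def (A := S),
      IsLocalization.AtPrime.under_maximalIdeal B q, ← Ideal.under_def, ← q.over_def p]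
  have h2 : (maximalIdeal A).under R = p := IsLocalization.AtPrime.under_maximalIdeal A p
  rw [← IsLocalization.map_under p.primeCompl A ((maximalIdeal B).comap (algebraMap A B)),
    ← IsLocalization.map_under p.primeCompl A (maximalIdeal A), h1, h2]

include R S p q in
theorem isLocalHom_algebraMap : IsLocalHom (algebraMap A B) :=
  ((IsLocalRing.local_hom_TFAE (algebraMap A B)).out 0 4).mpr
    (comap_maximalIdeal_eq R S A B p q)

include R S p q in
theorem eq_maximalIdeal_of_map_le (𝔓 : Ideal B) [𝔓.IsPrime]
    (h𝔓 : (maximalIdeal A).map (algebraMap A B) ≤ 𝔓) : 𝔓 = maximalIdeal B := by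
  let 𝔮' : Ideal S := 𝔓.under S
  haveI : 𝔮'.IsPrime := Ideal.comap_isPrime _ _
  have hle : 𝔮' ≤ q := by
    rw [← IsLocalization.AtPrime.under_maximalIdeal B q]
    exact Ideal.comap_mono (IsLocalRing.le_maximalIdeal (Ideal.IsPrime.ne_top ‹_›))
  have hp : p ≤ 𝔮'.comap (algebraMap R S) := by
    intro r hr
    change algebraMap S B (algebraMap R S r) ∈ 𝔓
    rw [← IsScalarTower.algebraMap_apply R S B, IsScalarTower.algebraMap_apply R A B]
    apply h𝔓
    apply Ideal.mem_map_of_mem
    exact (IsLocalization.AtPrime.to_map_mem_maximal_iff A p r).mpr hr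
  have heq : 𝔮' = q := by
    by_contra hne
    have hlt : 𝔮' < q := lt_of_le_of_ne hle hne
    have := Ideal.IsIntegral.comap_lt_comap (R := R) hlt
    rw [← Ideal.under_def (A := R) (B := S) q, ← q.over_def p] at this
    exact absurd hp (not_le_of_gt this)
  rw [← IsLocalization.map_under q.primeCompl B 𝔓, ← IsLocalization.AtPrime.map_eq_maximalIdeal q B]
  change Ideal.map (algebraMap S B) 𝔮' = _
  rw [heq]

include R S p q in
theorem ringKrullDim_fibre_eq_zero :
    ringKrullDim (B ⧸ (maximalIdeal A).map (algebraMap A B)) = 0 := by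
  haveI := isLocalHom_algebraMap R S A B p q
  let I := (maximalIdeal A).map (algebraMap A B)
  have hI : I ≤ maximalIdeal B :=
    ((IsLocalRing.local_hom_TFAE (algebraMap A B)).out 0 2).mp ‹_›
  haveI : Nontrivial (B ⧸ I) :=
    Ideal.Quotient.nontrivial_iff.mpr (fun h => (Ideal.IsPrime.ne_top inferInstance :
      maximalIdeal B ≠ ⊤) (top_le_iff.mp (h ▸ hI)))
  haveI : Ring.KrullDimLE 0 (B ⧸ I) := by
    refine Ring.KrullDimLE.mk₀ ?_
    intro 𝔓' h𝔓'
    let 𝔓 := 𝔓'.comap (Ideal.Quotient.mk I)
    haveI : 𝔓.IsPrime := Ideal.comap_isPrime _ _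
    have hle : I ≤ 𝔓 := by
      intro b hb
      change Ideal.Quotient.mk I b ∈ 𝔓'
      rw [Ideal.Quotient.eq_zero_iff_mem.mpr hb]
      exact 𝔓'.zero_mem
    have heq : 𝔓 = maximalIdeal B := eq_maximalIdeal_of_map_le R S A B p q 𝔓 hle
    have : 𝔓' = (maximalIdeal B).map (Ideal.Quotient.mk I) := by
      rw [← heq, Ideal.map_comap_of_surjective _ Ideal.Quotient.mk_surjective]
    rw [this]
    exact Ideal.IsMaximal.map_of_surjective_of_ker_le Ideal.Quotient.mk_surjective
      (by rwa [Ideal.mk_ker])
  exact le_antisymm (Ring.krullDimLE_iff.mp ‹_›) ringKrullDim_nonneg_of_nontrivial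

end

/-- Miracle flatness for a localized finite extension of regular rings, given injectivity. -/
theorem flat_of_integral_regular (R S A B : Type u) [CommRing R] [CommRing S] [CommRing A]
    [CommRing B] [Algebra R S] [Algebra.IsIntegral R S] [IsNoetherianRing R] [IsNoetherianRing S]
    (p : Ideal R) [p.IsPrime] (q : Ideal S) [q.IsPrime] [q.LiesOver p]
    [Algebra R A] [IsLocalization.AtPrime A p] [Algebra S B] [IsLocalization.AtPrime B q]
    [Algebra A B] [Algebra R B] [IsScalarTower R A B] [IsScalarTower R S B]
    [IsRegularLocalRing A] [IsRegularLocalRing B]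
    (hinj : Function.Injective (algebraMap A B)) : Module.Flat A B := by
  haveI : IsDomain A := Groth.Agent.Lead.RLR.isDomain A
  haveI : IsDomain B := Groth.Agent.Lead.RLR.isDomain B
  haveI : UniqueFactorizationMonoid A := Groth.Agent.H56.AusBuchUFD.uniqueFactorizationMonoid A
  haveI : IsIntegrallyClosed A := inferInstance
  haveI : LocCoh.IsCohenMacaulayLocalRing B :=
    Groth.Agent.H26.CMFlat.isCohenMacaulayLocalRing_of_isRegularLocalRing B
  haveI := isLocalHom_algebraMap R S A B p q
  have h1 : p.height ≤ q.height := height_le_height_of_integral R S A B p q hinj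
  have h0 := ringKrullDim_fibre_eq_zero R S A B p q
  haveI : (maximalIdeal B).LiesOver (maximalIdeal A) :=
    ⟨(comap_maximalIdeal_eq R S A B p q).symm⟩
  have h2 := Ideal.height_le_height_add_of_liesOver (maximalIdeal A) (maximalIdeal B)
  have hI : (maximalIdeal A).map (algebraMap A B) ≤ maximalIdeal B :=
    ((IsLocalRing.local_hom_TFAE (algebraMap A B)).out 0 2).mp ‹_›
  haveI hmax : ((maximalIdeal B).map (Ideal.Quotient.mk
      ((maximalIdeal A).map (algebraMap A B)))).IsMaximal :=
    Ideal.IsMaximal.map_of_surjective_of_ker_le Ideal.Quotient.mk_surjective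
      (by rwa [Ideal.mk_ker])
  have h3 : ((maximalIdeal B).map (Ideal.Quotient.mk
      ((maximalIdeal A).map (algebraMap A B)))).height = 0 := by
    have := Ideal.height_le_ringKrullDim_of_isPrime (I := (maximalIdeal B).map (Ideal.Quotient.mk
      ((maximalIdeal A).map (algebraMap A B))))
    rw [h0] at this
    have h4 : ((maximalIdeal B).map (Ideal.Quotient.mk
      ((maximalIdeal A).map (algebraMap A B)))).height ≤ 0 := by exact_mod_cast this
    exact le_antisymm h4 zero_le
  rw [h3, add_zero] at h2
  apply Groth.Agent.S2082.result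
  rw [h0, add_zero]
  apply le_antisymm
  · rw [← IsLocalRing.maximalIdeal_height_eq_ringKrullDim,
      ← IsLocalRing.maximalIdeal_height_eq_ringKrullDim]
    exact_mod_cast h2
  · rw [IsLocalization.AtPrime.ringKrullDim_eq_height p A,
      IsLocalization.AtPrime.ringKrullDim_eq_height q B]
    exact_mod_cast h1

end Groth.Agent.H39.FiniteGoingDown
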