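import Mathlib.RingTheory.AdicCompletion.Basic
import Mathlib.RingTheory.Ideal.Operations
import Mathlib.RingTheory.Finiteness.Basic
import Mathlib.LinearAlgebra.Finsupp.LinearCombination
import Mathlib.Algebra.Module.Projective

set_option autoImplicit false
universe u v

namespace Groth.Agent.H39

/-- every element of a surjective tower extends to a compatible family -/
theorem exists_compat : ∀ (n : ℕ) {M : ℕ → Type v} (f : ∀ n, M (n + 1) → M n)
    (_ : ∀ n, Function.Surjective (f n)) (y : M n),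
    ∃ z : ∀ m, M m, (∀ m, f m (z (m + 1)) = z m) ∧ z n = y := by
  intro n
  induction n with
  | zero =>
    intro M f hf y
    refine ⟨fun m => Nat.rec (motive := M) y (fun k zk => Function.surjInv (hf k) zk) m, ?_, rfl⟩
    intro m
    exact Function.surjInv_eq (hf m) _
  | succ n ih =>
    intro M f hf y
    obtain ⟨z', hz', hy⟩ := ih (M := fun k => M (k + 1)) (fun k => f (k + 1))
      (fun k => hf (k + 1)) y
    refine ⟨fun m => match m with
      | 0 => f 0 (z' 0)
      | (m + 1) => z' m, ?_, hy⟩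
    intro m
    cases m with
    | zero => rfl
    | succ m => exact hz' m

/-- dependent choice along the naturals with a relation between successive terms -/
theorem exists_seq_of_step {α : Type*} (P : ℕ → α → Prop) (R : ℕ → α → α → Prop) (a0 : α)
    (h0 : P 0 a0) (step : ∀ k a, P k a → ∃ a', P (k + 1) a' ∧ R k a a') :
    ∃ t : ℕ → α, t 0 = a0 ∧ ∀ k, P k (t k) ∧ R k (t k) (t (k + 1)) := by
  classical
  let t' : ∀ k, {a // P k a} := fun k =>
    Nat.rec (motive := fun k => {a // P k a}) ⟨a0, h0⟩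
      (fun k a => ⟨Classical.choose (step k a.1 a.2), (Classical.choose_spec (step k a.1 a.2)).1⟩) k
  refine ⟨fun k => (t' k).1, rfl, fun k => ⟨(t' k).2, ?_⟩⟩
  exact (Classical.choose_spec (step k (t' k).1 (t' k).2)).2

section tower

variable {A : Type u} [CommRing A] (I : Ideal A)
  {M : ℕ → Type v} [∀ n, AddCommGroup (M n)] [∀ n, Module A (M n)]
  (f : ∀ n, M (n + 1) →ₗ[A] M n)
  {L : Type v} [AddCommGroup L] [Module A L] (π : ∀ n, L →ₗ[A] M n)

include f in
theorem tower_pi_surj (hf : ∀ n, Function.Surjective (f n))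
    (hlift : ∀ y : (∀ n, M n), (∀ n, f n (y (n + 1)) = y n) → ∃ x : L, ∀ n, π n x = y n)
    (n : ℕ) : Function.Surjective (π n) := by
  intro y
  obtain ⟨z, hz, hy⟩ := exists_compat n (fun n => f n) hf y
  obtain ⟨x, hx⟩ := hlift z hz
  exact ⟨x, by rw [hx, hy]⟩

include f in
theorem tower_pi_eq_zero_of_le (hπ : ∀ n, f n ∘ₗ π (n + 1) = π n) {j n : ℕ} (hjn : j ≤ n)
    (x : L) (hx : π n x = 0) : π j x = 0 := by
  induction n, hjn using Nat.le_induction with
  | base => exact hx
  | succ n _ ih =>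
    apply ih
    rw [← hπ n, LinearMap.comp_apply, hx, map_zero]

theorem tower_smul_eq_zero (hk : ∀ n, I ^ (n + 1) • (⊤ : Submodule A (M n)) = ⊥) {n m : ℕ}
    (hnm : n + 1 ≤ m) {a : A} (ha : a ∈ I ^ m) (y : M n) : a • y = 0 := by
  have h1 : a ∈ I ^ (n + 1) := Ideal.pow_le_pow_right hnm ha
  have h2 : a • y ∈ I ^ (n + 1) • (⊤ : Submodule A (M n)) :=
    Submodule.smul_mem_smul h1 Submodule.mem_top
  rw [hk n] at h2
  exact (Submodule.mem_bot A).1 h2

theorem tower_pi_smul_top_eq_zero (hk : ∀ n, I ^ (n + 1) • (⊤ : Submodule A (M n)) = ⊥) {n m : ℕ}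
    (hnm : n + 1 ≤ m) (x : L) (hx : x ∈ I ^ m • (⊤ : Submodule A L)) : π n x = 0 := by
  refine Submodule.smul_induction_on hx ?_ ?_
  · intro a ha y _
    rw [map_smul]
    exact tower_smul_eq_zero I hk hnm ha _
  · intro y z hy hz
    rw [map_add, hy, hz, add_zero]

include f in
/-- Nakayama along the tower -/
theorem tower_map_eq_top (hk : ∀ n, I ^ (n + 1) • (⊤ : Submodule A (M n)) = ⊥)
    (hker : ∀ n, LinearMap.ker (f n) = I ^ (n + 1) • (⊤ : Submodule A (M (n + 1))))
    (hπ : ∀ n, f n ∘ₗ π (n + 1) = π n) (N : Submodule A L)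
    (h0 : Submodule.map (π 0) N = ⊤) (n : ℕ) : Submodule.map (π n) N = ⊤ := by
  induction n with
  | zero => exact h0
  | succ n ih =>
    set N' := Submodule.map (π (n + 1)) N with hN'
    have h1 : Submodule.map (f n) N' = ⊤ := by
      rw [hN', ← Submodule.map_comp, hπ n, ih]
    have h2 : (⊤ : Submodule A (M (n + 1))) ≤ N' ⊔ I ^ (n + 1) • ⊤ := by
      intro y _
      have : f n y ∈ Submodule.map (f n) N' := by rw [h1]; exact Submodule.mem_top
      obtain ⟨y', hy', hyy⟩ := this
      have h3 : y - y' ∈ LinearMap.ker (f n) := by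
        rw [LinearMap.mem_ker, map_sub, hyy, sub_self]
      rw [hker n] at h3
      have : y = y' + (y - y') := by abel
      rw [this]
      exact Submodule.add_mem _ (Submodule.mem_sup_left hy') (Submodule.mem_sup_right h3)
    have h4 : I ^ (n + 1) • (⊤ : Submodule A (M (n + 1))) ≤ N' := by
      calc I ^ (n + 1) • (⊤ : Submodule A (M (n + 1)))
          ≤ I ^ (n + 1) • (N' ⊔ I ^ (n + 1) • ⊤) := Submodule.smul_mono le_rfl h2
        _ = I ^ (n + 1) • N' ⊔ I ^ (n + 1) • I ^ (n + 1) • ⊤ := Submodule.smul_sup _ _ _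
        _ ≤ N' ⊔ ⊥ := by
          apply sup_le_sup Submodule.smul_le_right
          rw [← Submodule.mul_smul, ← pow_add, ← hk (n + 1)]
          exact Submodule.smul_mono_left (Ideal.pow_le_pow_right (by omega))
        _ = N' := sup_bot_eq _
    exact top_le_iff.1 (h2.trans (sup_le le_rfl h4))

end tower

section main

variable {A : Type u} [CommRing A] (I : Ideal A)
  {M : ℕ → Type v} [∀ n, AddCommGroup (M n)] [∀ n, Module A (M n)]
  (f : ∀ n, M (n + 1) →ₗ[A] M n)
  {L : Type v} [AddCommGroup L] [Module A L] (π : ∀ n, L →ₗ[A] M n)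
  {r : ℕ} (x : Fin r → L)

include f in
theorem tower_step
    (hker : ∀ n, LinearMap.ker (f n) = I ^ (n + 1) • (⊤ : Submodule A (M (n + 1))))
    (hπ : ∀ n, f n ∘ₗ π (n + 1) = π n)
    (hx : ∀ n, Submodule.map (π n) (Submodule.span A (Set.range x)) = ⊤)
    (m : ℕ) (x' : L) (hx' : ∀ j < m, π j x' = 0) :
    ∃ b : Fin r → A, (∀ i, b i ∈ I ^ m) ∧ π m (x' - Fintype.linearCombination A x b) = 0 := by
  have h1 : π m x' ∈ I ^ m • (⊤ : Submodule A (M m)) := by
    cases m with
    | zero => simp
    | succ m' =>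
      rw [← hker m', LinearMap.mem_ker, ← LinearMap.comp_apply, hπ m']
      exact hx' m' (Nat.lt_succ_self m')
  rw [← hx m, Submodule.map_span, ← Set.range_comp,
    Submodule.mem_ideal_smul_span_iff_exists_sum] at h1
  obtain ⟨a, ha, hsum⟩ := h1
  refine ⟨fun i => a i, ha, ?_⟩
  rw [map_sub, Fintype.linearCombination_apply, map_sum, ← hsum, Finsupp.sum_fintype]
  · simp
  · intro i
    simp

include f in
theorem tower_claim [IsAdicComplete I A]
    (hk : ∀ n, I ^ (n + 1) • (⊤ : Submodule A (M n)) = ⊥)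
    (hker : ∀ n, LinearMap.ker (f n) = I ^ (n + 1) • (⊤ : Submodule A (M (n + 1))))
    (hπ : ∀ n, f n ∘ₗ π (n + 1) = π n)
    (hinj : ∀ x : L, (∀ n, π n x = 0) → x = 0)
    (hx : ∀ n, Submodule.map (π n) (Submodule.span A (Set.range x)) = ⊤)
    (n : ℕ) (x₀ : L) (hx₀ : ∀ j < n, π j x₀ = 0) :
    ∃ a : Fin r → A, (∀ i, a i ∈ I ^ n) ∧ Fintype.linearCombination A x a = x₀ := by
  classical
  obtain ⟨t, ht0, ht⟩ := exists_seq_of_step
    (P := fun k (s : Fin r → A) => (∀ i, s i ∈ I ^ n) ∧
      ∀ j < n + k, π j (x₀ - Fintype.linearCombination A x s) = 0)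
    (R := fun k s s' => ∀ i, s' i - s i ∈ I ^ (n + k)) (0 : Fin r → A)
    ⟨fun i => by simp, fun j hj => by simpa using hx₀ j hj⟩
    (by
      intro k s ⟨hs1, hs2⟩
      obtain ⟨b, hb1, hb2⟩ := tower_step I f π x hker hπ hx (n + k)
        (x₀ - Fintype.linearCombination A x s) hs2
      refine ⟨s + b, ⟨fun i => ?_, fun j hj => ?_⟩, fun i => ?_⟩
      · exact Ideal.add_mem _ (hs1 i) (Ideal.pow_le_pow_right (Nat.le_add_right n k) (hb1 i))
      · apply tower_pi_eq_zero_of_le f π hπ (Nat.lt_succ_iff.1 hj)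
        rw [map_add, ← sub_sub]
        exact hb2
      · simpa using hb1 i)
  have hmono : ∀ i k k', k ≤ k' → t k' i - t k i ∈ I ^ (n + k) := by
    intro i k k' hkk'
    induction k', hkk' using Nat.le_induction with
    | base => simp
    | succ k' hk' ih =>
      have : t (k' + 1) i - t k i = (t (k' + 1) i - t k' i) + (t k' i - t k i) := by ring
      rw [this]
      exact Ideal.add_mem _ (Ideal.pow_le_pow_right (by omega) ((ht k').2 i)) ih
  have hlim : ∀ i, ∃ a : A, ∀ k, t k i - a ∈ I ^ k := by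
    intro i
    obtain ⟨a, ha⟩ := IsPrecomplete.prec (I := I) (M := A) inferInstance (f := fun k => t k i)
      (by
        intro m m' hmm'
        rw [SModEq.sub_mem, smul_eq_mul, Ideal.mul_top]
        have := hmono i m m' hmm'
        rw [← neg_sub] at this
        exact Ideal.pow_le_pow_right (Nat.le_add_left m n) ((Ideal.neg_mem_iff _).1 this))
    refine ⟨a, fun k => ?_⟩
    have := ha k
    rwa [SModEq.sub_mem, smul_eq_mul, Ideal.mul_top] at this
  choose a ha using hlim
  have ha' : ∀ i k, t k i - a i ∈ I ^ (n + k) := by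
    intro i k
    have h1 := hmono i k (n + k) (Nat.le_add_left k n)
    have h2 := ha i (n + k)
    have : t k i - a i = -(t (n + k) i - t k i) + (t (n + k) i - a i) := by ring
    rw [this]
    exact Ideal.add_mem _ ((Ideal.neg_mem_iff _).2 h1) h2
  refine ⟨a, fun i => ?_, ?_⟩
  · have := ha' i 0
    rw [ht0] at this
    simpa using this
  · symm
    rw [← sub_eq_zero]
    apply hinj
    intro j
    have h1 := (ht (j + 1)).1.2 j (by omega)
    have h2 : π j (Fintype.linearCombination A x (t (j + 1) - a)) = 0 := by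
      rw [Fintype.linearCombination_apply, map_sum]
      apply Finset.sum_eq_zero
      intro i _
      rw [map_smul]
      exact tower_smul_eq_zero I hk (by omega) (ha' i (j + 1)) _
    have : x₀ - Fintype.linearCombination A x a =
        (x₀ - Fintype.linearCombination A x (t (j + 1))) +
          Fintype.linearCombination A x (t (j + 1) - a) := by
      rw [map_sub]; abel
    rw [this, map_add, h1, h2, add_zero]

end main

end Groth.Agent.H39
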