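import Groth.Agent.H12.DRank
import Groth.Agent.H12.KeyFree

/-!
# Locally constant Betti numbers over a reduced ring force projective cohomology

Built on helper12's `fibDim` library (`Groth.Agent.H12`): base change invariance of the fibre
dimension, "locally constant fibre dimension + reduced ⇒ projective", and a splitting lemma
for the middle homology of `X₁ → X₂ → X₃` when both cokernels are projective.
-/

set_option autoImplicit false
set_option linter.style.haveILetI false
universe u

open TensorProduct Topology CategoryTheory

namespace Groth.Agent.H39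

open Groth.Agent.H12

section fib

variable {A : Type u} [CommRing A]

/-- base change invariance of the fibre dimension. -/
theorem fibDim_baseChange {A' : Type u} [CommRing A'] [Algebra A A'] (N : Type u) [AddCommGroup N]
    [Module A N] (x' : PrimeSpectrum A') :
    fibDim (A' ⊗[A] N) x' = fibDim N (PrimeSpectrum.comap (algebraMap A A') x') := by
  set x : PrimeSpectrum A := PrimeSpectrum.comap (algebraMap A A') x' with hx
  set K := x.asIdeal.ResidueField with hK
  set K' := x'.asIdeal.ResidueField with hK'
  let ρ : K →+* K' := Ideal.ResidueField.map x.asIdeal x'.asIdeal (algebraMap A A') rfl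
  letI : Algebra K K' := ρ.toAlgebra
  haveI : IsScalarTower A K K' := IsScalarTower.of_algebraMap_eq (fun r => by
    show algebraMap A K' r = ρ (algebraMap A K r)
    rw [Ideal.ResidueField.map_algebraMap]
    exact IsScalarTower.algebraMap_apply A A' K' r)
  let e1 : K' ⊗[A'] (A' ⊗[A] N) ≃ₗ[K'] K' ⊗[A] N :=
    AlgebraTensorModule.cancelBaseChange A A' K' K' N
  let e2 : K' ⊗[K] (K ⊗[A] N) ≃ₗ[K'] K' ⊗[A] N :=
    AlgebraTensorModule.cancelBaseChange A K K' K' N
  show Module.finrank K' (K' ⊗[A'] (A' ⊗[A] N)) = Module.finrank K (K ⊗[A] N)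
  rw [e1.finrank_eq, ← e2.finrank_eq, Module.finrank_baseChange]

/-- over a reduced ring, a finitely presented module with locally constant fibre dimension is
projective. -/
theorem projective_of_eventually_fibDim_eq [IsReduced A] (N : Type u) [AddCommGroup N]
    [Module A N] [Module.FinitePresentation A N]
    (h : ∀ x₀ : PrimeSpectrum A, ∀ᶠ x in 𝓝 x₀, fibDim N x = fibDim N x₀) :
    Module.Projective A N := by
  rw [← Module.freeLocus_eq_univ_iff]
  refine Set.eq_univ_of_forall fun x => ?_
  set A' := Localization.AtPrime x.asIdeal with hA'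
  rw [Module.mem_freeLocus_of_isLocalization x A' (A' ⊗[A] N) (TensorProduct.mk A A' N 1)]
  apply free_of_fibDim_eq_minimal
  intro q _
  rw [fibDim_baseChange, fibDim_baseChange]
  have hcl : PrimeSpectrum.comap (algebraMap A A') (IsLocalRing.closedPoint A') = x := by
    ext1
    exact IsLocalization.AtPrime.under_maximalIdeal A' x.asIdeal
  have hspec := (IsLocalRing.specializes_closedPoint q).map
    (PrimeSpectrum.continuous_comap (algebraMap A A'))
  rw [hcl] at hspec ⊢
  obtain ⟨U, hU, hUo, hxU⟩ := eventually_nhds_iff.mp (h x)
  exact hU _ (hspec.mem_open hUo hxU)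

end fib

section split

variable {A : Type u} [CommRing A] {X₁ X₂ X₃ : Type u} [AddCommGroup X₁] [Module A X₁]
  [AddCommGroup X₂] [Module A X₂] [AddCommGroup X₃] [Module A X₃]

/-- if both cokernels of `X₁ → X₂ → X₃` are projective (and `X₃` is projective, `X₂` finite), the
middle homology is a retract of the first cokernel, hence finite projective. -/
theorem homology_finite_projective_of_cokers (f : X₁ →ₗ[A] X₂) (g : X₂ →ₗ[A] X₃)
    (t : X₁ →ₗ[A] LinearMap.ker g) (ht : ∀ a, (t a : X₂) = f a)
    [Module.Finite A X₂] [Module.Projective A X₃]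
    [Module.Projective A (X₂ ⧸ LinearMap.range f)]
    [Module.Projective A (X₃ ⧸ LinearMap.range g)] :
    Module.Finite A (LinearMap.ker g ⧸ LinearMap.range t) ∧
      Module.Projective A (LinearMap.ker g ⧸ LinearMap.range t) := by
  have hgf : ∀ a, g (f a) = 0 := fun a => by
    rw [← ht a]; exact (t a).2
  -- the range of `g` is a retract of `X₃`
  obtain ⟨s, hs⟩ := Module.projective_lifting_property (LinearMap.range g).mkQ
    (LinearMap.id (R := A) (M := X₃ ⧸ LinearMap.range g)) (Submodule.mkQ_surjective _)
  have hs' : ∀ w, (LinearMap.range g).mkQ (s w) = w := fun w => LinearMap.congr_fun hs w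
  let tt : X₃ →ₗ[A] LinearMap.range g :=
    (LinearMap.id - s ∘ₗ (LinearMap.range g).mkQ).codRestrict (LinearMap.range g) (fun y => by
      refine (Submodule.Quotient.mk_eq_zero (LinearMap.range g)).mp ?_
      show (LinearMap.range g).mkQ
        ((LinearMap.id (R := A) (M := X₃) - s ∘ₗ (LinearMap.range g).mkQ) y) = 0
      simp only [LinearMap.sub_apply, LinearMap.id_coe, id_eq, LinearMap.coe_comp,
        Function.comp_apply, map_sub]
      rw [hs', sub_self])
  have htt : tt ∘ₗ (LinearMap.range g).subtype = LinearMap.id := by
    ext ⟨y, hy⟩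
    have h0 : (LinearMap.range g).mkQ y = 0 := by
      rw [← LinearMap.mem_ker, Submodule.ker_mkQ]; exact hy
    simp only [LinearMap.coe_comp, Submodule.coe_subtype, Function.comp_apply,
      LinearMap.id_coe, id_eq, tt, LinearMap.codRestrict_apply, LinearMap.sub_apply,
      h0, map_zero, sub_zero]
  haveI : Module.Projective A (LinearMap.range g) :=
    Module.Projective.of_split (LinearMap.range g).subtype tt htt
  -- hence `g` has a section over its range
  obtain ⟨σ, hσ⟩ := Module.projective_lifting_property g.rangeRestrict
    (LinearMap.id (R := A) (M := LinearMap.range g)) g.surjective_rangeRestrict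
  have hσ' : ∀ w, g.rangeRestrict (σ w) = w := fun w => LinearMap.congr_fun hσ w
  have hσ'' : ∀ w, g (σ w) = (w : X₃) := fun w => congrArg Subtype.val (hσ' w)
  -- the retraction of `X₂` onto `ker g`
  let r : X₂ →ₗ[A] LinearMap.ker g :=
    (LinearMap.id - σ ∘ₗ g.rangeRestrict).codRestrict (LinearMap.ker g) (fun y => by
      rw [LinearMap.mem_ker]
      simp only [LinearMap.sub_apply, LinearMap.id_coe, id_eq, LinearMap.coe_comp,
        Function.comp_apply, map_sub]
      rw [hσ'']
      simp)
  have hr : ∀ z : LinearMap.ker g, r z = z := by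
    intro z
    apply Subtype.ext
    have hz : g.rangeRestrict (z : X₂) = 0 := by
      apply Subtype.ext
      exact z.2
    simp only [r, LinearMap.codRestrict_apply, LinearMap.sub_apply, LinearMap.id_coe, id_eq,
      LinearMap.coe_comp, Function.comp_apply, hz, map_zero, sub_zero]
  have hrf : ∀ a, r (f a) = t a := by
    intro a
    have := hr (t a)
    rw [ht a] at this
    exact this
  -- the two maps
  let ρ : (X₂ ⧸ LinearMap.range f) →ₗ[A] (LinearMap.ker g ⧸ LinearMap.range t) :=
    (LinearMap.range f).liftQ ((LinearMap.range t).mkQ ∘ₗ r) (by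
      rintro _ ⟨a, rfl⟩
      rw [LinearMap.mem_ker, LinearMap.comp_apply, hrf, Submodule.mkQ_apply,
        Submodule.Quotient.mk_eq_zero]
      exact ⟨a, rfl⟩)
  let ι : (LinearMap.ker g ⧸ LinearMap.range t) →ₗ[A] (X₂ ⧸ LinearMap.range f) :=
    (LinearMap.range t).liftQ ((LinearMap.range f).mkQ ∘ₗ (LinearMap.ker g).subtype) (by
      rintro _ ⟨a, rfl⟩
      rw [LinearMap.mem_ker, LinearMap.comp_apply, Submodule.subtype_apply, ht,
        Submodule.mkQ_apply, Submodule.Quotient.mk_eq_zero]
      exact ⟨a, rfl⟩)
  have hρι : ρ ∘ₗ ι = LinearMap.id := by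
    apply Submodule.linearMap_qext
    ext z
    simp only [LinearMap.coe_comp, Function.comp_apply, Submodule.mkQ_apply, LinearMap.id_coe,
      id_eq, ρ, ι, Submodule.liftQ_apply, Submodule.subtype_apply]
    rw [hr z]
  have hsurj : Function.Surjective ρ := fun w => ⟨ι w, LinearMap.congr_fun hρι w⟩
  exact ⟨Module.Finite.of_surjective ρ hsurj, Module.Projective.of_split ι ρ hρι⟩

end split

section main

open CategoryTheory.Limits

/-- **Locally constant Betti numbers over a reduced ring**: the cohomology is finite projective. -/
theorem homology_finite_projective_of_betti_locallyConstant (R : Type u) [CommRing R] [IsReduced R]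
    (P : CochainComplex (ModuleCat.{u} R) ℤ)
    (hP : ∀ j : ℤ, Module.Finite R (P.X j) ∧ Module.Free R (P.X j)) (i : ℤ)
    (hconst : IsLocallyConstant fun p : PrimeSpectrum R =>
      Module.finrank p.asIdeal.ResidueField
        ((((ModuleCat.extendScalars (algebraMap R p.asIdeal.ResidueField)).mapHomologicalComplex
          (ComplexShape.up ℤ)).obj P).homology i)) :
    Module.Finite R (P.homology i) ∧ Module.Projective R (P.homology i) := by
  have hfin : ∀ j, Module.Finite R (P.X j) := fun j => (hP j).1
  have hfree : ∀ j, Module.Free R (P.X j) := fun j => (hP j).2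
  set n := (ComplexShape.up ℤ).next i with hn
  haveI := hfin n
  haveI := hfree n
  haveI := hfin i
  haveI := hfree i
  set W' := P.X n ⧸ LinearMap.range (TCx.d₀ P i) with hW'
  set β : PrimeSpectrum R → ℕ := fun p : PrimeSpectrum R =>
      Module.finrank p.asIdeal.ResidueField
        ((((ModuleCat.extendScalars (algebraMap R p.asIdeal.ResidueField)).mapHomologicalComplex
          (ComplexShape.up ℤ)).obj P).homology i) with hβ
  have key : ∀ x : PrimeSpectrum R,
      β x + fibDim (P.X n) x = fibDim (TCx.W P i) x + fibDim W' x := fun x =>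
    DRank.finrank_homology_add x.asIdeal.ResidueField P i hfin
  have hnX : ∀ x : PrimeSpectrum R, fibDim (P.X n) x = Module.finrank R (P.X n) := by
    intro x
    haveI : Nontrivial R := (PrimeSpectrum.nonempty_iff_nontrivial).mp ⟨x⟩
    exact Module.finrank_baseChange
  have hev : ∀ x₀ : PrimeSpectrum R, ∀ᶠ x in 𝓝 x₀,
      fibDim (TCx.W P i) x = fibDim (TCx.W P i) x₀ ∧ fibDim W' x = fibDim W' x₀ := by
    intro x₀
    filter_upwards [hconst.eventually_eq x₀, eventually_fibDim_le (TCx.W P i) x₀,
      eventually_fibDim_le W' x₀] with x h1 h2 h3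
    have k1 := key x
    have k2 := key x₀
    have k3 := hnX x
    have k4 := hnX x₀
    omega
  haveI fpW : Module.FinitePresentation R (TCx.W P i) := by
    have : Module.FinitePresentation R (P.X i) := Module.finitePresentation_of_projective R _
    apply Module.finitePresentation_of_surjective (LinearMap.range (TCx.d₁ P i)).mkQ
      (Submodule.mkQ_surjective _)
    rw [Submodule.ker_mkQ, LinearMap.range_eq_map]
    haveI := hfin ((ComplexShape.up ℤ).prev i)
    exact Module.Finite.fg_top.map _
  haveI fpW' : Module.FinitePresentation R W' := by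
    have : Module.FinitePresentation R (P.X n) := Module.finitePresentation_of_projective R _
    apply Module.finitePresentation_of_surjective (LinearMap.range (TCx.d₀ P i)).mkQ
      (Submodule.mkQ_surjective _)
    rw [Submodule.ker_mkQ, LinearMap.range_eq_map]
    exact Module.Finite.fg_top.map _
  haveI pW : Module.Projective R (TCx.W P i) :=
    projective_of_eventually_fibDim_eq _ (fun x₀ => (hev x₀).mono fun x h => h.1)
  haveI pW' : Module.Projective R W' :=
    projective_of_eventually_fibDim_eq _ (fun x₀ => (hev x₀).mono fun x h => h.2)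
  set S := P.sc i with hS
  have e : P.homology i ≅ S.moduleCatLeftHomologyData.H := S.moduleCatHomologyIso
  haveI : Module.Finite R S.X₂ := hfin i
  haveI : Module.Projective R S.X₃ := by
    show Module.Projective R (P.X n)
    infer_instance
  haveI : Module.Projective R (S.X₂ ⧸ LinearMap.range S.f.hom) := pW
  haveI : Module.Projective R (S.X₃ ⧸ LinearMap.range S.g.hom) := pW'
  obtain ⟨h1, h2⟩ := homology_finite_projective_of_cokers S.f.hom S.g.hom S.moduleCatToCycles
    (fun a => rfl)
  haveI : Module.Finite R S.moduleCatLeftHomologyData.H := h1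
  haveI : Module.Projective R S.moduleCatLeftHomologyData.H := h2
  exact ⟨Module.Finite.equiv e.toLinearEquiv.symm, Module.Projective.of_equiv e.toLinearEquiv.symm⟩

end main

end Groth.Agent.H39
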