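import Mathlib
import Groth.Agent.H82.Compact
import Groth.Agent.S7881

/-!
# Right adjoints preserving coproducts and compact generators

Built on helper82's `FinFactor` library and on S7881 (isomorphisms are detected by generators).
-/

set_option autoImplicit false
set_option linter.style.haveILetI false
universe v u u'

open CategoryTheory CategoryTheory.Limits

namespace Groth.Agent.H39

open Groth.Agent.H82

section adj

variable {C : Type u} {D : Type u'} [Category.{v} C] [Category.{v} D] [Preadditive C]
  [Preadditive D] [HasCoproducts.{v} C] [HasCoproducts.{v} D]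
  {L : C ⥤ D} {G : D ⥤ C} (adj : L ⊣ G) [L.Additive]

include adj in
/-- if `K` and `L K` are compact, then `Hom(K, -)` turns the coproduct comparison map of the right
adjoint into a bijection. -/
theorem comp_sigmaComparison_bijective {K : C} (hK : CohDer.IsCompactObject K)
    (hLK : CohDer.IsCompactObject (L.obj K)) {κ : Type v} (Y : κ → D) :
    Function.Bijective
      (fun g : K ⟶ ∐ (fun k => G.obj (Y k)) => g ≫ sigmaComparison G Y) := by
  classical
  haveI := adj.right_adjoint_additive
  let Φ : DirectSum κ (fun k => L.obj K ⟶ Y k) →+ DirectSum κ (fun k => K ⟶ G.obj (Y k)) :=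
    DirectSum.map (fun k => (adj.homAddEquiv K (Y k)).toAddMonoidHom)
  let Ψ : DirectSum κ (fun k => K ⟶ G.obj (Y k)) →+ DirectSum κ (fun k => L.obj K ⟶ Y k) :=
    DirectSum.map (fun k => (adj.homAddEquiv K (Y k)).symm.toAddMonoidHom)
  have hΦΨ : ∀ y, Φ (Ψ y) = y := by
    intro y
    ext k
    simp [Φ, Ψ, DirectSum.map_apply]
  have key : ∀ x, adj.homEquiv K (∐ Y) (CohDer.homSumToHomCoprod (L.obj K) Y x) =
      CohDer.homSumToHomCoprod K (fun k => G.obj (Y k)) (Φ x) ≫ sigmaComparison G Y := by
    intro x
    induction x using DirectSum.induction_on with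
    | zero => simp
    | of k g =>
      rw [homSum_of, DirectSum.map_of, homSum_of, Adjunction.homEquiv_naturality_right,
        Category.assoc, ι_comp_sigmaComparison]
      rfl
    | add x y hx hy =>
      rw [map_add, adj.homAddEquiv_add, hx, hy, map_add, map_add, Preadditive.add_comp]
  constructor
  · intro g g' hgg'
    obtain ⟨y, rfl⟩ := (hK κ _).2 g
    obtain ⟨y', rfl⟩ := (hK κ _).2 g'
    have h1 := key (Ψ y)
    have h2 := key (Ψ y')
    rw [hΦΨ] at h1 h2
    have h3 : CohDer.homSumToHomCoprod (L.obj K) Y (Ψ y) =
        CohDer.homSumToHomCoprod (L.obj K) Y (Ψ y') :=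
      (adj.homEquiv _ _).injective (h1.trans (hgg'.trans h2.symm))
    have h4 := congrArg Φ ((hLK κ Y).1 h3)
    rw [hΦΨ, hΦΨ] at h4
    rw [h4]
  · intro h
    obtain ⟨x, hx⟩ := (hLK κ Y).2 ((adj.homEquiv K (∐ Y)).symm h)
    refine ⟨CohDer.homSumToHomCoprod K (fun k => G.obj (Y k)) (Φ x), ?_⟩
    show _ ≫ _ = h
    rw [← key x, hx, Equiv.apply_symm_apply]

end adj

section main

open CohDer

theorem preservesCoproducts_rightAdjoint_iff
    {D : Type u} [Category.{v} D] [Preadditive D] [HasZeroObject D] [HasShift D ℤ]
    [∀ n : ℤ, (shiftFunctor D n).Additive] [Pretriangulated D] [HasCoproducts.{v} D]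
    {E : Type u'} [Category.{v} E] [Preadditive E] [HasZeroObject E] [HasShift E ℤ]
    [∀ n : ℤ, (shiftFunctor E n).Additive] [Pretriangulated E] [HasCoproducts.{v} E]
    {ι : Type v} (S : ι → D) (hSc : ∀ i, CohDer.IsCompactObject (S i)) (hSg : CohDer.Generates S)
    (F : D ⥤ E) [F.CommShift ℤ] [F.IsTriangulated]
    (G : E ⥤ D) (adj : F ⊣ G) :
    (∀ (κ : Type v), PreservesColimitsOfShape (Discrete κ) G) ↔
      ∀ i, CohDer.IsCompactObject (F.obj (S i)) := by
  haveI := adj.right_adjoint_additive
  constructor
  · intro hG i
    exact isCompact_of_finFactor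
      (FinFactor.map_leftAdjoint adj (finFactor_of_isCompact (hSc i)))
  · intro hF κ
    have hiso : ∀ Y : κ → E, IsIso (sigmaComparison G Y) := by
      intro Y
      rw [Groth.Agent.S7881.result S hSg]
      intro i n
      set K := (shiftFunctor D (-n)).obj (S i) with hKdef
      have hK : IsCompactObject K :=
        isCompact_of_finFactor ((finFactor_of_isCompact (hSc i)).shift (-n))
      have hFK : IsCompactObject (F.obj K) :=
        isCompact_of_finFactor (FinFactor.of_iso ((F.commShiftIso (-n)).app (S i)).symm
          ((finFactor_of_isCompact (hF i)).shift (-n)))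
      have hbij := comp_sigmaComparison_bijective adj hK hFK Y
      let adjS := (shiftEquiv D n).symm.toAdjunction
      have hfun : (fun g : S i ⟶ (shiftFunctor D n).obj (∐ fun k => G.obj (Y k)) =>
            g ≫ (shiftFunctor D n).map (sigmaComparison G Y)) =
          (adjS.homEquiv (S i) _) ∘ (fun g => g ≫ sigmaComparison G Y) ∘
            (adjS.homEquiv (S i) _).symm := by
        funext g
        simp only [Function.comp_apply]
        rw [Adjunction.homEquiv_naturality_right, Equiv.apply_symm_apply]
        rfl
      rw [hfun]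
      exact (Equiv.bijective _).comp (hbij.comp (Equiv.bijective _))
    constructor
    intro K
    haveI := hiso (K.obj ∘ Discrete.mk)
    haveI : PreservesColimit (Discrete.functor (K.obj ∘ Discrete.mk)) G :=
      PreservesCoproduct.of_iso_comparison G _
    exact preservesColimit_of_iso_diagram G (Discrete.natIsoFunctor (F := K)).symm

end main

end Groth.Agent.H39
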