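import Mathlib

/-!
# Étale at a prime from flatness of the local homomorphism + unramifiedness

`isEtaleAt_of_flat_local`: if `A → B` is of finite presentation, `q` a prime of `B` over `p`,
`B` is unramified over `A` at `q` and `A_p → B_q` is flat, then `B` is étale over `A` at `q`.
(The proof follows Mathlib's `Algebra.IsSmoothAt.of_formallySmooth_fiber`, but only uses
flatness of the *local* homomorphism.)
-/

set_option autoImplicit false
set_option linter.style.haveILetI false
universe u
open TensorProduct IsLocalRing

namespace Groth.Agent.H39.EtaleCM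

local notation "𝓀[" R "]" => ResidueField R

open Algebra in
theorem isEtaleAt_of_flat_local (A B : Type u) [CommRing A] [CommRing B]
    [Algebra A B] [Algebra.FinitePresentation A B]
    (p : Ideal A) (q : Ideal B) [p.IsPrime] [q.IsPrime] [q.LiesOver p]
    [Algebra.IsUnramifiedAt A q]
    (hflat : letI := Localization.AtPrime.algebraOfLiesOver p q
      Module.Flat (Localization.AtPrime p) (Localization.AtPrime q)) :
    Algebra.IsEtaleAt A q := by
  let Rp := Localization.AtPrime p
  let Sp := Localization (algebraMapSubmonoid B p.primeCompl)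
  let Sq := Localization.AtPrime q
  let := Localization.AtPrime.algebraOfLiesOver p q
  let f : Sp →ₐ[B] Sq := IsLocalization.liftAlgHom (M := algebraMapSubmonoid B p.primeCompl)
        (f := Algebra.ofId _ _) (by
      rintro ⟨_, x, hx, rfl⟩
      simpa using! IsLocalization.map_units (M := q.primeCompl) Sq ⟨algebraMap _ _ x,
        by simp_all [q.over_def p]⟩)
  algebraize [f.toRingHom]
  have : IsScalarTower A Sp Sq := .to₁₃₄ _ B _ _
  have : IsScalarTower Rp Sp Sq := .of_algebraMap_eq' <| by
    apply IsLocalization.ringHom_ext p.primeCompl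
    simp only [RingHom.comp_assoc, ← IsScalarTower.algebraMap_eq]
  have : IsLocalization (algebraMapSubmonoid Sp q.primeCompl) Sq :=
    .isLocalization_of_submonoid_le _ _ (algebraMapSubmonoid B p.primeCompl) _
    (by rintro _ ⟨x, hx, rfl⟩; simp_all [q.over_def p])
  have : FinitePresentation Rp Sp := by
    have : Algebra.IsPushout A Rp B Sp :=
      .symm <| Algebra.isPushout_of_isLocalization p.primeCompl _ _ _
    exact .equiv (Algebra.IsPushout.equiv A Rp B Sp)
  have hflat' : Module.Flat Rp Sq := hflat
  have hloc : IsLocalHom (algebraMap Rp Sq) :=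
    Localization.isLocalHom_localRingHom _ _ _ Ideal.LiesOver.over
  have hunr : FormallyUnramified Rp Sq := .of_restrictScalars A _ _
  have hess : EssFiniteType Rp Sq := .of_comp A _ _
  have : FormallySmooth 𝓀[Rp] (𝓀[Rp] ⊗[Rp] Sq) := by
    have : FormallyUnramified 𝓀[Rp] (𝓀[Rp] ⊗[Rp] Sq) := inferInstance
    have : EssFiniteType 𝓀[Rp] (𝓀[Rp] ⊗[Rp] Sq) := inferInstance
    have := FormallyEtale.of_formallyUnramified_of_field 𝓀[Rp] (𝓀[Rp] ⊗[Rp] Sq)
    infer_instance
  have := FormallySmooth.of_formallySmooth_residueField_tensor
    (R := Rp) (S := Sq) (P := Sp) (algebraMapSubmonoid _ q.primeCompl)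
  have : FormallySmooth A Sq := .comp A Rp Sq
  exact FormallyEtale.of_formallyUnramified_and_formallySmooth

/-- If `A → B` is essentially of finite type and unramified at `q`, the closed fibre of
`A_p → B_q` is a field; in particular it has Krull dimension zero. -/
theorem ringKrullDim_fibre_eq_zero (A B : Type u) [CommRing A] [CommRing B]
    [Algebra A B] [Algebra.FiniteType A B]
    (p : Ideal A) (q : Ideal B) [p.IsPrime] [q.IsPrime] [q.LiesOver p]
    [Algebra.IsUnramifiedAt A q] :
    letI := Localization.AtPrime.algebraOfLiesOver p q
    ringKrullDim (Localization.AtPrime q ⧸ (maximalIdeal (Localization.AtPrime p)).map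
      (algebraMap (Localization.AtPrime p) (Localization.AtPrime q))) = 0 := by
  let Rp := Localization.AtPrime p
  let Sq := Localization.AtPrime q
  let := Localization.AtPrime.algebraOfLiesOver p q
  have hloc : IsLocalHom (algebraMap Rp Sq) :=
    Localization.isLocalHom_localRingHom _ _ _ Ideal.LiesOver.over
  have hunr : Algebra.FormallyUnramified Rp Sq := .of_restrictScalars A _ _
  have hess : Algebra.EssFiniteType Rp Sq := .of_comp A _ _
  exact ringKrullDim_eq_zero_of_isField
    (Algebra.FormallyUnramified.isField_quotient_map_maximalIdeal (R := Rp) (S := Sq))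

end Groth.Agent.H39.EtaleCM
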