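import Mathlib
import Groth.Prelude.Def_Dix
import Groth.Agent.H39.EtTorsion

set_option autoImplicit false
universe w v u
open CategoryTheory CategoryTheory.Limits AlgebraicGeometry Opposite

namespace Groth.Agent.H39.ExtTorsion2

variable {C : Type u} [Category.{v} C] [Abelian C] [HasExt.{w} C]

/-- If `p • 𝟙 F` is an epimorphism and `Ext^q(Z, G) = 0` for `q > n` whenever `G` is killed by `p`,
then `Ext^q(Z, F)` has no `p`-torsion for `q > n`. -/
theorem eq_zero_of_nsmul_eq_zero_of_epi (Z F : C) (p n : ℕ) [Epi (p • 𝟙 F)]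
    (H : ∀ G : C, p • 𝟙 G = 0 → ∀ q : ℕ, n < q → ∀ x : Abelian.Ext Z G q, x = 0)
    (q : ℕ) (hq : n < q) (x : Abelian.Ext Z F q) (hx : p • x = 0) : x = 0 := by
  let φ : F ⟶ F := p • 𝟙 F
  let S1 : ShortComplex C := ShortComplex.mk (kernel.ι φ) φ (kernel.condition φ)
  have hS1 : S1.ShortExact :=
    { exact := ShortComplex.exact_kernel φ
      mono_f := inferInstanceAs (Mono (kernel.ι φ))
      epi_g := inferInstanceAs (Epi (p • 𝟙 F)) }
  have hK : p • 𝟙 (kernel φ) = 0 := by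
    rw [← cancel_mono (kernel.ι φ), zero_comp, Preadditive.nsmul_comp, Category.id_comp]
    have h2 : kernel.ι φ ≫ φ = p • kernel.ι φ := by
      simp only [φ, Preadditive.comp_nsmul, Category.comp_id]
    rw [← h2, kernel.condition]
  have hy : x.comp (Abelian.Ext.mk₀ φ) (add_zero q) = 0 := by
    rw [Groth.Agent.H39.ExtTorsion.comp_mk₀_nsmul_id, hx]
  obtain ⟨v', hv⟩ := Abelian.Ext.covariant_sequence_exact₂ Z hS1 x hy
  have hv0 : v' = 0 := H _ hK _ hq v'
  rw [← hv, hv0, Abelian.Ext.zero_comp]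

theorem eq_zero_of_pow_nsmul_eq_zero_of_epi (Z F : C) (p n : ℕ) [Epi (p • 𝟙 F)]
    (H : ∀ G : C, p • 𝟙 G = 0 → ∀ q : ℕ, n < q → ∀ x : Abelian.Ext Z G q, x = 0)
    (q : ℕ) (hq : n < q) (x : Abelian.Ext Z F q) (hx : ∃ m : ℕ, p ^ m • x = 0) : x = 0 := by
  obtain ⟨m, hm⟩ := hx
  induction m with
  | zero => simpa using hm
  | succ k ih =>
    apply ih
    apply eq_zero_of_nsmul_eq_zero_of_epi Z F p n H q hq
    rw [← mul_nsmul', ← pow_succ']
    exact hm

theorem isPrimaryTorsion_of_nsmul_id_eq_zero {X : Scheme.{u}} (G : EtCoh.Ab X) (p : ℕ)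
    (h : p • 𝟙 G = 0) : Dix.IsPrimaryTorsion p G := by
  intro U s x
  refine ⟨U, 𝟙 U, ⟨x, rfl⟩, 1, ?_⟩
  have h1 := Groth.Agent.H39.EtTorsion.nsmul_id_app G p U s
  rw [h] at h1
  have h2 : G.obj.map (𝟙 U).op s = s := by
    simp
  rw [h2, pow_one, ← h1]
  rfl

theorem isUnit_natCast_of_invertibleOn (X : Scheme.{u}) (n : ℕ) (h : Dix.InvertibleOn X n) :
    IsUnit (n : Γ(X, ⊤)) := by
  apply X.toRingedSpace.isUnit_of_isUnit_germ ⊤
  intro x hx
  have h1 : x ∈ X.basicOpen (n : Γ(X, ⊤)) := by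
    rw [← Scheme.evaluation_ne_zero_iff_mem_basicOpen X (U := ⊤) x (Set.mem_univ x), map_natCast]
    exact h x
  exact (X.mem_basicOpen_top _ x).mp h1

end Groth.Agent.H39.ExtTorsion2
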