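import Mathlib
import Groth.Agent.H48.DimIneqSch
import Groth.Agent.H39.FiniteGoingDown

set_option autoImplicit false
set_option linter.style.haveILetI false
universe u

open AlgebraicGeometry CategoryTheory

namespace Groth.Agent.H39.FiniteRegularFlat

/-- In a T0 space, the generic point of an irreducible component has no proper generization. -/
theorem eq_of_specializes_of_closure_mem_irreducibleComponents {T : Type*} [TopologicalSpace T]
    [T0Space T] {ξ ξ' : T} (h : closure {ξ} ∈ irreducibleComponents T) (hs : ξ' ⤳ ξ) : ξ' = ξ := by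
  have h1 : closure {ξ} ≤ closure {ξ'} := by
    rw [specializes_iff_closure_subset] at hs
    exact hs
  have h2 : IsIrreducible (closure {ξ'}) := isIrreducible_singleton.closure
  have h3 : closure {ξ'} ≤ closure {ξ} := h.2 h2 h1
  have h4 : ξ ⤳ ξ' := by
    rw [specializes_iff_closure_subset]
    exact h3
  exact (hs.antisymm h4).eq

variable {X Y : Scheme.{u}}

theorem stalkMap_injective_of_dominant (f : X ⟶ Y) (x : X)
    [IsDomain (X.presheaf.stalk x)] [IsDomain (Y.presheaf.stalk (f x))]
    (hdom : ∀ Z ∈ irreducibleComponents (X : Type u),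
      closure (f.base '' Z) ∈ irreducibleComponents (Y : Type u)) :
    Function.Injective (f.stalkMap x).hom := by
  let A := Y.presheaf.stalk (f x)
  let B := X.presheaf.stalk x
  let φ : A →+* B := (f.stalkMap x).hom
  rw [injective_iff_map_eq_zero]
  intro a ha
  -- the generic point of an irreducible component through x
  obtain ⟨ξ, hξ, hξx⟩ := Groth.Agent.H48.DimIneqSch.exists_generic_specializes x
  -- ξ is the image of the zero ideal of B
  have hr : ξ ∈ Set.range (X.fromSpecStalk x) := by
    rw [Scheme.range_fromSpecStalk]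
    exact hξx
  obtain ⟨𝔮, h𝔮⟩ := hr
  let botB : Spec B := ⟨⊥, Ideal.isPrime_bot⟩
  have h1 : botB ⤳ 𝔮 := by
    refine (PrimeSpectrum.le_iff_specializes (R := B) botB 𝔮).mp ?_
    exact (bot_le : (⊥ : Ideal B) ≤ 𝔮.asIdeal)
  have h2 : X.fromSpecStalk x botB ⤳ ξ := by
    rw [← h𝔮]
    exact h1.map (X.fromSpecStalk x).continuous
  have h3 : X.fromSpecStalk x botB = ξ :=
    eq_of_specializes_of_closure_mem_irreducibleComponents hξ h2
  -- f ξ is a maximal point of Y
  have h4 : closure {f ξ} ∈ irreducibleComponents (Y : Type u) := by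
    have := hdom _ hξ
    have heq : closure (f.base '' closure {ξ}) = closure {f ξ} := by
      apply subset_antisymm
      · apply closure_minimal _ isClosed_closure
        refine (image_closure_subset_closure_image f.continuous).trans ?_
        rw [Set.image_singleton]
      · apply closure_mono
        rw [Set.singleton_subset_iff]
        exact ⟨ξ, subset_closure rfl, rfl⟩
    rwa [heq] at this
  -- the kernel of φ, as a point of Spec A
  let kerA : Spec A := ⟨RingHom.ker φ, RingHom.ker_isPrime φ⟩
  let botA : Spec A := ⟨⊥, Ideal.isPrime_bot⟩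
  have h5 : Y.fromSpecStalk (f x) kerA = f ξ := by
    have := congr($(Scheme.SpecMap_stalkMap_fromSpecStalk (f := f) (x := x)) botB)
    rw [Scheme.Hom.comp_apply, Scheme.Hom.comp_apply, h3] at this
    rw [← this]
    congr 1
  have h6 : Y.fromSpecStalk (f x) botA ⤳ Y.fromSpecStalk (f x) kerA := by
    have : botA ⤳ kerA := by
      refine (PrimeSpectrum.le_iff_specializes (R := A) botA kerA).mp ?_
      exact (bot_le : (⊥ : Ideal A) ≤ kerA.asIdeal)
    exact this.map (Y.fromSpecStalk (f x)).continuous
  rw [h5] at h6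
  have h7 : Y.fromSpecStalk (f x) botA = f ξ :=
    eq_of_specializes_of_closure_mem_irreducibleComponents h4 h6
  have h8 : botA = kerA := by
    apply (Y.fromSpecStalk (f x)).isEmbedding.injective
    rw [h7, h5]
  have h9 : RingHom.ker φ = ⊥ := by
    have := congr($(h8).asIdeal)
    exact this.symm
  have : a ∈ RingHom.ker φ := ha
  rw [h9] at this
  exact this

/-- A finite morphism of regular (locally Noetherian) schemes under which every irreducible
component dominates an irreducible component is flat. -/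
theorem flat_of_finite_regular (f : X ⟶ Y) [IsFinite f]
    [IsLocallyNoetherian X] [IsLocallyNoetherian Y]
    (hX : ∀ x : X, IsRegularLocalRing (X.presheaf.stalk x))
    (hY : ∀ y : Y, IsRegularLocalRing (Y.presheaf.stalk y))
    (hdom : ∀ Z ∈ irreducibleComponents (X : Type u),
      closure (f.base '' Z) ∈ irreducibleComponents (Y : Type u)) :
    Flat f := by
  refine Flat.of_stalkMap f (fun x => ?_)
  obtain ⟨_, ⟨V, hV : IsAffineOpen V, rfl⟩, hxV, -⟩ :=
    Y.isBasis_affineOpens.exists_subset_of_mem_open (Set.mem_univ (f x)) isOpen_univ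
  have hU : IsAffineOpen (f ⁻¹ᵁ V) := hV.preimage f
  have hxU : x ∈ f ⁻¹ᵁ V := hxV
  haveI : IsNoetherianRing Γ(Y, V) := IsLocallyNoetherian.component_noetherian ⟨V, hV⟩
  haveI : IsNoetherianRing Γ(X, f ⁻¹ᵁ V) := IsLocallyNoetherian.component_noetherian ⟨_, hU⟩
  have hfin : (f.app V).hom.Finite := IsFinite.finite_app f V hV
  algebraize [(f.app V).hom]
  haveI : Algebra.IsIntegral Γ(Y, V) Γ(X, f ⁻¹ᵁ V) := Algebra.IsIntegral.of_finite _ _
  let q := (hU.primeIdealOf ⟨x, hxU⟩).asIdeal
  let p := (hV.primeIdealOf ⟨f x, hxV⟩).asIdeal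
  haveI hqp : q.LiesOver p := by
    have := IsAffineOpen.comap_primeIdealOf_appLE V hV (f ⁻¹ᵁ V) hU le_rfl hxU
    refine ⟨?_⟩
    have h2 := congr($(this).1).symm
    rw [Scheme.Hom.appLE_eq_app] at h2
    exact h2
  letI := X.presheaf.algebra_section_stalk ⟨x, hxU⟩
  haveI := hU.isLocalization_stalk ⟨x, hxU⟩
  letI := Y.presheaf.algebra_section_stalk (⟨f x, hxV⟩ : V)
  haveI := hV.isLocalization_stalk ⟨f x, hxV⟩
  letI : Algebra (Y.presheaf.stalk (f x)) (X.presheaf.stalk x) := (f.stalkMap x).hom.toAlgebra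
  letI : Algebra Γ(Y, V) (X.presheaf.stalk x) :=
    ((f.stalkMap x).hom.comp (algebraMap Γ(Y, V) (Y.presheaf.stalk (f x)))).toAlgebra
  haveI : IsScalarTower Γ(Y, V) (Y.presheaf.stalk (f x)) (X.presheaf.stalk x) :=
    IsScalarTower.of_algebraMap_eq' rfl
  haveI : IsScalarTower Γ(Y, V) Γ(X, f ⁻¹ᵁ V) (X.presheaf.stalk x) := by
    refine IsScalarTower.of_algebraMap_eq' ?_
    have := Scheme.Hom.germ_stalkMap f V x hxV
    exact congr($(this).hom)
  haveI := hX x
  haveI := hY (f x)
  haveI : IsDomain (X.presheaf.stalk x) := Groth.Agent.Lead.RLR.isDomain _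
  haveI : IsDomain (Y.presheaf.stalk (f x)) := Groth.Agent.Lead.RLR.isDomain _
  have hinj : Function.Injective (algebraMap (Y.presheaf.stalk (f x)) (X.presheaf.stalk x)) :=
    stalkMap_injective_of_dominant f x hdom
  have := Groth.Agent.H39.FiniteGoingDown.flat_of_integral_regular Γ(Y, V) Γ(X, f ⁻¹ᵁ V)
    (Y.presheaf.stalk (f x)) (X.presheaf.stalk x) p q hinj
  exact this

end Groth.Agent.H39.FiniteRegularFlat
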