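import Mathlib.Topology.Sheaves.Sheaf
import Mathlib.Algebra.Category.Grp.Basic
import Mathlib.Topology.Sheaves.SheafCondition.UniqueGluing
import Mathlib.Algebra.Category.Grp.Limits
import Mathlib.Order.Zorn

set_option autoImplicit false
universe u

namespace Groth.Agent.H39

open CategoryTheory TopologicalSpace Opposite TopCat

variable {X : TopCat.{u}}

/-- restriction of sections of a presheaf of groups -/
noncomputable def gres (P : TopCat.Presheaf GrpCat.{u} X) {U V : Opens X} (h : V ≤ U) :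
    P.obj (op U) →* P.obj (op V) := (P.map (homOfLE h).op).hom

lemma gres_gres (P : TopCat.Presheaf GrpCat.{u} X) {U V W : Opens X} (h1 : V ≤ U) (h2 : W ≤ V)
    (s : P.obj (op U)) : gres P h2 (gres P h1 s) = gres P (h2.trans h1) s := by
  unfold gres
  rw [← GrpCat.comp_apply, ← P.map_comp]
  rfl

lemma gres_self (P : TopCat.Presheaf GrpCat.{u} X) {U : Opens X} (s : P.obj (op U)) :
    gres P (le_refl U) s = s := by
  unfold gres
  have : (homOfLE (le_refl U)).op = 𝟙 (op U) := rfl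
  rw [this, P.map_id]
  rfl

lemma gres_nat {P Q : TopCat.Presheaf GrpCat.{u} X} (β : P ⟶ Q) {U V : Opens X} (h : V ≤ U)
    (s : P.obj (op U)) :
    (β.app (op V)).hom (gres P h s) = gres Q h ((β.app (op U)).hom s) := by
  unfold gres
  have := ConcreteCategory.congr_hom (β.naturality (homOfLE h).op) s
  simp

lemma gglue (P : TopCat.Presheaf GrpCat.{u} X) (hP : P.IsSheaf) {ι : Type u} (U : ι → Opens X)
    (V : Opens X) (hUV : ∀ i, U i ≤ V) (hcover : V ≤ iSup U) (sf : ∀ i, P.obj (op (U i)))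
    (hcompat : ∀ i j, gres P (inf_le_left : U i ⊓ U j ≤ U i) (sf i) =
      gres P (inf_le_right : U i ⊓ U j ≤ U j) (sf j)) :
    ∃ s : P.obj (op V), ∀ i, gres P (hUV i) s = sf i := by
  obtain ⟨s, hs, -⟩ := TopCat.Sheaf.existsUnique_gluing' (⟨P, hP⟩ : TopCat.Sheaf GrpCat.{u} X)
    U V (fun i => homOfLE (hUV i)) hcover sf (fun i j => hcompat i j)
  exact ⟨s, hs⟩

lemma gext (P : TopCat.Presheaf GrpCat.{u} X) (hP : P.IsSheaf) {ι : Type u} (U : ι → Opens X)
    (V : Opens X) (hUV : ∀ i, U i ≤ V) (hcover : V ≤ iSup U) (s t : P.obj (op V))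
    (h : ∀ i, gres P (hUV i) s = gres P (hUV i) t) : s = t :=
  TopCat.Sheaf.eq_of_locally_eq' (⟨P, hP⟩ : TopCat.Sheaf GrpCat.{u} X)
    U V (fun i => homOfLE (hUV i)) hcover s t h

end Groth.Agent.H39

namespace Groth.Agent.H39

open CategoryTheory TopologicalSpace Opposite TopCat

variable {X : TopCat.{u}}

lemma gglue₂ (P : TopCat.Presheaf GrpCat.{u} X) (hP : P.IsSheaf) (U₁ U₂ : Opens X)
    (s₁ : P.obj (op U₁)) (s₂ : P.obj (op U₂))
    (hcompat : gres P (inf_le_left : U₁ ⊓ U₂ ≤ U₁) s₁ = gres P (inf_le_right : U₁ ⊓ U₂ ≤ U₂) s₂) :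
    ∃ s : P.obj (op (U₁ ⊔ U₂)), gres P (le_sup_left : U₁ ≤ U₁ ⊔ U₂) s = s₁ ∧
      gres P (le_sup_right : U₂ ≤ U₁ ⊔ U₂) s = s₂ := by
  let U : ULift.{u} Bool → Opens X := fun i => cond i.down U₁ U₂
  let sf : ∀ i, P.obj (op (U i)) := fun i =>
    match i with
    | ⟨true⟩ => s₁
    | ⟨false⟩ => s₂
  have hUV : ∀ i, U i ≤ U₁ ⊔ U₂ := by
    rintro ⟨_ | _⟩
    · exact le_sup_right
    · exact le_sup_left
  have hcover : U₁ ⊔ U₂ ≤ iSup U := by
    apply sup_le
    · exact le_iSup U ⟨true⟩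
    · exact le_iSup U ⟨false⟩
  have key : ∀ (W : Opens X) (h1 : W ≤ U₁) (h2 : W ≤ U₂), gres P h1 s₁ = gres P h2 s₂ := by
    intro W h1 h2
    have := congrArg (gres P (le_inf h1 h2)) hcompat
    rwa [gres_gres, gres_gres] at this
  obtain ⟨s, hs⟩ := gglue P hP U (U₁ ⊔ U₂) hUV hcover sf (by
    rintro ⟨_ | _⟩ ⟨_ | _⟩
    · rfl
    · exact (key _ inf_le_right inf_le_left).symm
    · exact key _ inf_le_left inf_le_right
    · rfl)
  exact ⟨s, hs ⟨true⟩, hs ⟨false⟩⟩

section main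

variable (G H : TopCat.Presheaf GrpCat.{u} X)

/-- a partial lift of the section `s` -/
structure PSec (β : G ⟶ H) (U : Opens X) (s : H.obj (op U)) where
  V : Opens X
  hV : V ≤ U
  g : G.obj (op V)
  hg : (β.app (op V)).hom g = gres H hV s

variable {G H}

def PSec.le {β : G ⟶ H} {U : Opens X} {s : H.obj (op U)} (p q : PSec G H β U s) : Prop :=
  ∃ h : p.V ≤ q.V, gres G h q.g = p.g

lemma PSec.le_trans {β : G ⟶ H} {U : Opens X} {s : H.obj (op U)} {p q r : PSec G H β U s}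
    (h1 : p.le q) (h2 : q.le r) : p.le r := by
  obtain ⟨a, ha⟩ := h1
  obtain ⟨b, hb⟩ := h2
  refine ⟨a.trans b, ?_⟩
  rw [← gres_gres G b a, hb, ha]

lemma PSec.exists_ub (hG : G.IsSheaf) (hH : H.IsSheaf) {β : G ⟶ H} {U : Opens X}
    {s : H.obj (op U)} (c : Set (PSec G H β U s)) (hc : IsChain PSec.le c) :
    ∃ ub : PSec G H β U s, ∀ a ∈ c, a.le ub := by
  classical
  let Uc : ↥c → Opens X := fun i => i.1.V
  let V : Opens X := iSup Uc
  have hUV : ∀ i, Uc i ≤ V := fun i => le_iSup Uc i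
  have hVU : V ≤ U := iSup_le fun i => i.1.hV
  -- compatibility
  have hle : ∀ i j : ↥c, i.1.le j.1 →
      gres G (inf_le_left : Uc i ⊓ Uc j ≤ Uc i) i.1.g =
        gres G (inf_le_right : Uc i ⊓ Uc j ≤ Uc j) j.1.g := by
    rintro i j ⟨h, hh⟩
    rw [← hh, gres_gres]
  have hcompat : ∀ i j : ↥c, gres G (inf_le_left : Uc i ⊓ Uc j ≤ Uc i) i.1.g =
        gres G (inf_le_right : Uc i ⊓ Uc j ≤ Uc j) j.1.g := by
    intro i j
    by_cases hij : i.1 = j.1
    · have : i = j := Subtype.ext hij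
      subst this
      rfl
    · rcases hc i.2 j.2 hij with h | h
      · exact hle i j h
      · have h' := hle j i h
        have := congrArg (gres G (le_inf inf_le_right inf_le_left : Uc i ⊓ Uc j ≤ Uc j ⊓ Uc i)) h'
        rw [gres_gres, gres_gres] at this
        exact this.symm
  obtain ⟨g, hg⟩ := gglue G hG Uc V hUV le_rfl (fun i => i.1.g) hcompat
  refine ⟨⟨V, hVU, g, ?_⟩, ?_⟩
  · apply gext H hH Uc V hUV le_rfl
    intro i
    rw [← gres_nat, hg i, i.1.hg, gres_gres]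
  · intro a ha
    exact ⟨hUV ⟨a, ha⟩, hg ⟨a, ha⟩⟩

end main

theorem flasque_surj (F G H : TopCat.Presheaf GrpCat.{u} X)
    (hG : G.IsSheaf) (hH : H.IsSheaf) (α : F ⟶ G) (β : G ⟶ H)
    (hex : ∀ (U : Opens X) (g : G.obj (op U)),
      (β.app (op U)).hom g = 1 ↔ g ∈ Set.range (α.app (op U)).hom)
    (hβ : ∀ (U : Opens X) (s : H.obj (op U)) (x : X), x ∈ U →
      ∃ (V : Opens X) (hV : V ≤ U), x ∈ V ∧ ∃ g : G.obj (op V),
        (β.app (op V)).hom g = (H.map (homOfLE hV).op).hom s)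
    (hfl : ∀ (U V : Opens X) (hUV : V ≤ U), Function.Surjective (F.map (homOfLE hUV).op).hom)
    (U : Opens X) : Function.Surjective (β.app (op U)).hom := by
  intro s
  obtain ⟨m, hm⟩ := exists_maximal_of_chains_bounded (α := PSec G H β U s) (r := PSec.le)
    (fun c hc => PSec.exists_ub hG hH c hc) (fun h1 h2 => PSec.le_trans h1 h2)
  obtain ⟨V, hV, g, hg⟩ := m
  have hVU : V = U := by
    apply le_antisymm hV
    intro x hx
    obtain ⟨W, hW, hxW, g', hg'⟩ := hβ U s x hx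
    change (β.app (op W)).hom g' = gres H hW s at hg'
    -- correction on the overlap
    set Z : Opens X := V ⊓ W with hZ
    have hZV : Z ≤ V := inf_le_left
    have hZW : Z ≤ W := inf_le_right
    have h1 : (β.app (op Z)).hom ((gres G hZW g')⁻¹ * gres G hZV g) = 1 := by
      rw [map_mul, map_inv, gres_nat, gres_nat, hg, hg', gres_gres, gres_gres]
      exact inv_mul_cancel _
    obtain ⟨f, hf⟩ := (hex Z _).1 h1
    obtain ⟨f', hf'⟩ := hfl W Z hZW f
    change gres F hZW f' = f at hf'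
    set g'' : G.obj (op W) := g' * (α.app (op W)).hom f' with hg''
    have h2 : (β.app (op W)).hom g'' = gres H hW s := by
      rw [hg'', map_mul, hg']
      have : (β.app (op W)).hom ((α.app (op W)).hom f') = 1 := (hex W _).2 ⟨f', rfl⟩
      rw [this, mul_one]
    have h3 : gres G hZV g = gres G hZW g'' := by
      rw [hg'', map_mul, ← gres_nat, hf', hf]
      simp
    obtain ⟨gg, hgg1, hgg2⟩ := gglue₂ G hG V W g g'' h3
    let m' : PSec G H β U s := ⟨V ⊔ W, sup_le hV hW, gg, by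
      apply gext H hH (fun i : ULift.{u} Bool => cond i.down V W) (V ⊔ W)
        (by rintro ⟨_ | _⟩; exacts [le_sup_right, le_sup_left])
        (by
          apply sup_le
          · exact le_iSup (fun i : ULift.{u} Bool => cond i.down V W) ⟨true⟩
          · exact le_iSup (fun i : ULift.{u} Bool => cond i.down V W) ⟨false⟩)
      rintro ⟨_ | _⟩
      · change gres H (le_sup_right : W ≤ V ⊔ W) _ = gres H (le_sup_right : W ≤ V ⊔ W) _
        rw [← gres_nat, hgg2, h2, gres_gres]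
      · change gres H (le_sup_left : V ≤ V ⊔ W) _ = gres H (le_sup_left : V ≤ V ⊔ W) _
        rw [← gres_nat, hgg1, hg, gres_gres]⟩
    have hle : PSec.le ⟨V, hV, g, hg⟩ m' := ⟨le_sup_left, hgg1⟩
    obtain ⟨h, -⟩ := hm m' hle
    exact h (Or.inr hxW : x ∈ V ⊔ W)
  subst hVU
  exact ⟨g, by rw [hg, gres_self]⟩

end Groth.Agent.H39
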