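import Mathlib
import Groth.Prelude.Def_RegImm
import Groth.Agent.S15821

set_option autoImplicit false
set_option linter.style.haveILetI false
universe u

open AlgebraicGeometry CategoryTheory RingTheory.Sequence

namespace Groth.Agent.H39.RegImmKoszul

variable {X Z W : Scheme.{u}}

theorem isRegularImmersion_iso_comp (k : RegImm.Kind) (e : W ⟶ Z) [IsIso e] (i : Z ⟶ X)
    (hi : RegImm.IsRegularImmersion k i) : RegImm.IsRegularImmersion k (e ≫ i) := by
  haveI := hi.1
  refine ⟨inferInstance, fun w => ?_⟩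
  obtain ⟨U, hzU, hcl, rs, hrs, hker⟩ := hi.2 (e w)
  haveI := hcl
  refine ⟨U, hzU, ?_, rs, hrs, ?_⟩
  · have h := morphismRestrict_comp e i U.1
    have h2 : IsClosedImmersion (e ∣_ (i ⁻¹ᵁ U.1) ≫ i ∣_ U.1) := inferInstance
    rw [h]
    exact h2
  · rw [← hker]
    exact RingHom.ker_comp_of_injective (i.app U.1).hom (f := (e.app (i ⁻¹ᵁ U.1)).hom)
      (ConcreteCategory.bijective_of_isIso _).1

theorem isRegularImmersion_koszul_of_regular (i : Z ⟶ X)
    (hi : RegImm.IsRegularImmersion .regular i) : RegImm.IsRegularImmersion .koszul i := by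
  refine ⟨hi.1, fun z => ?_⟩
  obtain ⟨U, hzU, hcl, rs, hrs, hker⟩ := hi.2 z
  exact ⟨U, hzU, hcl, rs, (Groth.Agent.S15821.result _ rs hrs.toIsWeaklyRegular).1, hker⟩

theorem isKoszulAt_of_regularImmersion (i : Z ⟶ X) (k : RegImm.Kind)
    (hk : k = RegImm.Kind.regular ∨ k = RegImm.Kind.koszul) (hi : RegImm.IsRegularImmersion k i)
    (z : Z) : Synt.IsKoszulAt i z := by
  have hK : RegImm.IsRegularImmersion .koszul i := by
    rcases hk with rfl | rfl
    · exact isRegularImmersion_koszul_of_regular i hi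
    · exact hi
  haveI := hi.1
  haveI : IsIso (⊤ : Z.Opens).ι := inferInstanceAs (IsIso (Scheme.topIso Z).hom)
  refine ⟨⊤, X, (⊤ : Z.Opens).ι ≫ i, 𝟙 X, trivial, inferInstance,
    isRegularImmersion_iso_comp .koszul _ i hK, inferInstance, by simp⟩

end Groth.Agent.H39.RegImmKoszul
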