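import Mathlib
import Groth.Agent.H39.ImmCompChart
import Groth.Agent.H39.KoszulAppend
import Groth.Agent.H39.KoszulFlatBC

set_option autoImplicit false
set_option linter.style.haveILetI false
universe u

open AlgebraicGeometry CategoryTheory CategoryTheory.Limits

namespace Groth.Agent.H39.KoszulImmComp

open Groth.Agent.H39.RegImmStalk3 Groth.Agent.H39.ImmCompChart Groth.Agent.H39.KoszulAppend
  Groth.Agent.H39.KoszulFlatBC

variable {X Y Z : Scheme.{u}}

/-- Kernel of a composite of surjections with kernels generated by lists. -/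
theorem ker_comp_eq_ofList {A B C : Type*} [CommRing A] [CommRing B] [CommRing C]
    (φ : A →+* B) (hφ : Function.Surjective φ) (ψ : B →+* C) (xs ys : List A)
    (hker : RingHom.ker φ = Ideal.ofList xs) (hker' : RingHom.ker ψ = Ideal.ofList (ys.map φ)) :
    RingHom.ker (ψ.comp φ) = Ideal.ofList (ys ++ xs) := by
  rw [← RingHom.comap_ker, hker', ← Ideal.map_ofList, Ideal.comap_map_of_surjective φ hφ,
    ← RingHom.ker_eq_comap_bot, hker, Ideal.ofList_append]

/-- Core local statement for the composition of Koszul-regular immersions. -/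
theorem exists_koszul_chart_comp (i : Y ⟶ X) (j : Z ⟶ Y) (z : Z)
    (U : X.affineOpens) (hzU : i (j z) ∈ U.1) (hclU : IsClosedImmersion (i ∣_ U.1))
    (rs₁ : List Γ(X, U.1)) (hrs₁ : LCI.IsKoszulRegularSeq Γ(X, U.1) rs₁)
    (hker₁ : RingHom.ker (i.app U.1).hom = Ideal.ofList rs₁)
    (V : Y.affineOpens) (hzV : j z ∈ V.1) (hclV : IsClosedImmersion (j ∣_ V.1))
    (rs₂ : List Γ(Y, V.1)) (hrs₂ : LCI.IsKoszulRegularSeq Γ(Y, V.1) rs₂)
    (hker₂ : RingHom.ker (j.app V.1).hom = Ideal.ofList rs₂) :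
    ∃ U' : X.affineOpens, (j ≫ i) z ∈ U'.1 ∧ IsClosedImmersion ((j ≫ i) ∣_ U'.1) ∧
      ∃ rs : List Γ(X, U'.1), rs.length = rs₂.length + rs₁.length ∧
        LCI.IsKoszulRegularSeq Γ(X, U'.1) rs ∧
        RingHom.ker ((j ≫ i).app U'.1).hom = Ideal.ofList rs := by
  haveI := hclU
  haveI := hclV
  obtain ⟨a, hza, hle⟩ := exists_chart_comp i j z U.1 U.2 hzU V.1 hzV
  set U' : X.Opens := X.basicOpen a with hU'def
  have hU' : IsAffineOpen U' := U.2.basicOpen a
  have hU'U : U' ≤ U.1 := X.basicOpen_le a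
  haveI hcl' : IsClosedImmersion (i ∣_ U') := isClosedImmersion_restrict_of_le i hU'U
  have hk₁ := ker_app_of_le i hU'U U.2 hU'
  rw [hker₁, Ideal.map_ofList] at hk₁
  obtain ⟨hW, hsurj⟩ := isAffineOpen_preimage_and_surjective_of_isClosedImmersion_restrict i U' hU'
  set W : Y.Opens := i ⁻¹ᵁ U' with hWdef
  haveI hclW : IsClosedImmersion (j ∣_ W) := isClosedImmersion_restrict_of_le j hle
  have hk₂ := ker_app_of_le j hle V.2 hW
  rw [hker₂, Ideal.map_ofList] at hk₂
  -- Koszul-regularity of the restricted sequences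
  have hrs₁' := isKoszulRegularSeq_map_of_flat _ (flat_res hU'U U.2 hU') rs₁ hrs₁
  have hrs₂' := isKoszulRegularSeq_map_of_flat _ (flat_res hle V.2 hW) rs₂ hrs₂
  -- lifts
  set φ := (i.app U').hom with hφdef
  let ys : List Γ(X, U') := (rs₂.map (Y.presheaf.map (homOfLE hle).op).hom).map
    (Function.surjInv hsurj)
  have hys : ys.map φ = rs₂.map (Y.presheaf.map (homOfLE hle).op).hom := by
    simp only [ys, List.map_map]
    conv_rhs => rw [← List.map_id (rs₂.map _)]
    rw [List.map_map]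
    apply List.map_congr_left
    intro b _
    exact Function.surjInv_eq hsurj _
  have hcomp : (j ≫ i).app U' = i.app U' ≫ j.app W := Scheme.Hom.comp_app j i U'
  refine ⟨⟨U', hU'⟩, hza, ?_, ys ++ rs₁.map (X.presheaf.map (homOfLE hU'U).op).hom, ?_, ?_, ?_⟩
  · change IsClosedImmersion ((j ≫ i) ∣_ U')
    rw [morphismRestrict_comp]
    haveI h1 : IsClosedImmersion (j ∣_ i ⁻¹ᵁ U') := hclW
    haveI h2 : IsClosedImmersion (i ∣_ U') := hcl'
    exact MorphismProperty.comp_mem _ _ _ h1 h2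
  · simp [ys]
  · refine isKoszulRegularSeq_append φ hsurj _ hrs₁' hk₁ ys ?_
    rw [hys]
    exact hrs₂'
  · have h1 : ((j ≫ i).app U').hom = (j.app W).hom.comp φ := by
      rw [hcomp]
      rfl
    rw [h1]
    exact ker_comp_eq_ofList φ hsurj (j.app W).hom _ ys hk₁ (by rw [hys]; exact hk₂)


/-- **S8654**: composition of Koszul-regular immersions. -/
theorem koszulRegularImmersion_comp (i : Y ⟶ X) (j : Z ⟶ Y)
    (hi : RegImm.IsRegularImmersion .koszul i) (hj : RegImm.IsRegularImmersion .koszul j) :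
    RegImm.IsRegularImmersion .koszul (j ≫ i) := by
  obtain ⟨himm, hreg⟩ := hi
  obtain ⟨himm', hreg'⟩ := hj
  haveI := himm
  haveI := himm'
  refine ⟨inferInstance, fun z => ?_⟩
  obtain ⟨U, hzU, hclU, rs₁, hrs₁, hker₁⟩ := hreg (j z)
  obtain ⟨V, hzV, hclV, rs₂, hrs₂, hker₂⟩ := hreg' z
  obtain ⟨U', hz, hcl, rs, -, hrs, hker⟩ := exists_koszul_chart_comp i j z U hzU hclU rs₁ hrs₁
    hker₁ V hzV hclV rs₂ hrs₂ hker₂
  exact ⟨U', hz, hcl, rs, hrs, hker⟩

/-- **S8655**: composition of Koszul-regular immersions of constant codimension. -/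
theorem koszulRegularImmersionOfCodim_comp (n m : ℕ) (i : Y ⟶ X) (j : Z ⟶ Y)
    (hi : RegImm.IsRegularImmersionOfCodim .koszul n i)
    (hj : RegImm.IsRegularImmersionOfCodim .koszul m j) :
    RegImm.IsRegularImmersionOfCodim .koszul (m + n) (j ≫ i) := by
  obtain ⟨himm, hreg⟩ := hi
  obtain ⟨himm', hreg'⟩ := hj
  haveI := himm
  haveI := himm'
  refine ⟨inferInstance, fun z => ?_⟩
  obtain ⟨U, hzU, hclU, rs₁, hlen₁, hrs₁, hker₁⟩ := hreg (j z)
  obtain ⟨V, hzV, hclV, rs₂, hlen₂, hrs₂, hker₂⟩ := hreg' z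
  obtain ⟨U', hz, hcl, rs, hlen, hrs, hker⟩ := exists_koszul_chart_comp i j z U hzU hclU rs₁ hrs₁
    hker₁ V hzV hclV rs₂ hrs₂ hker₂
  exact ⟨U', hz, hcl, rs, by rw [hlen, hlen₁, hlen₂], hrs, hker⟩

end Groth.Agent.H39.KoszulImmComp
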