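import Mathlib
import Groth.Agent.H39.KoszulPresMain

set_option autoImplicit false
set_option linter.style.haveILetI false
universe u

open Groth.Agent.H39.KoszulExchange Groth.Agent.H39.KoszulLoc Groth.Agent.H39.KoszulPres
open Groth.Agent.H39.KoszulPresMain

namespace Groth.Agent.H39.KoszulLCILocal

variable {P : Type u} [CommRing P]

/-- a singleton list of a non-zero-divisor is Koszul-regular. -/
theorem isKoszulRegularSeq_singleton (f : P) (hf : IsSMulRegular P f) :
    LCI.IsKoszulRegularSeq P [f] := fun i hi =>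
  Groth.Agent.H79.KoszulCone.isZero_homology_of_isWeaklyRegular [f]
    ((RingTheory.Sequence.isWeaklyRegular_cons_iff P f []).mpr ⟨hf, .nil _ _⟩) i hi

/-- (H8) Koszul-regularity of an ideal may be checked on a basic open. -/
theorem koszul_at_of_map_away (I : Ideal P) (G : P)
    (hIG : LCI.IsKoszulRegularIdeal (I.map (algebraMap P (Localization.Away G))))
    (𝔭 : PrimeSpectrum P) (h𝔭 : I ≤ 𝔭.asIdeal) (hG : G ∉ 𝔭.asIdeal) :
    ∃ g : P, g ∉ 𝔭.asIdeal ∧ ∃ l : List (Localization.Away g),
      LCI.IsKoszulRegularSeq (Localization.Away g) l ∧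
      I.map (algebraMap P (Localization.Away g)) = Ideal.span {x | x ∈ l} := by
  have hdisj : Disjoint (Submonoid.powers G : Set P) (𝔭.asIdeal : Set P) :=
    (Ideal.disjoint_powers_iff_notMem_of_isPrime _).mpr hG
  haveI h𝔭G : (𝔭.asIdeal.map (algebraMap P (Localization.Away G))).IsPrime :=
    IsLocalization.isPrime_of_isPrime_disjoint (Submonoid.powers G) _ _ 𝔭.isPrime hdisj
  obtain ⟨g', hg', l, hl, hIl⟩ := hIG ⟨_, h𝔭G⟩ (Ideal.map_mono h𝔭)
  obtain ⟨⟨a, ⟨_, k, rfl⟩⟩, hak⟩ := IsLocalization.surj (Submonoid.powers G) g'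
  have hak' : g' * algebraMap P (Localization.Away G) (G ^ k) =
      algebraMap P (Localization.Away G) a := hak
  have hu : IsUnit (algebraMap P (Localization.Away G) (G ^ k)) := by
    rw [map_pow]
    exact (IsLocalization.Away.algebraMap_isUnit G).pow k
  have ha : a ∉ 𝔭.asIdeal := by
    intro ha
    have h1 : algebraMap P (Localization.Away G) a ∈
        𝔭.asIdeal.map (algebraMap P (Localization.Away G)) := Ideal.mem_map_of_mem _ ha
    rw [← hak'] at h1
    rcases h𝔭G.mem_or_mem h1 with h2 | h2
    · exact hg' h2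
    · exact h𝔭G.ne_top (Ideal.eq_top_of_isUnit_mem _ h2 hu)
  have hassoc : Associated (algebraMap P (Localization.Away G) a) g' := by
    refine Associated.symm ?_
    exact ⟨hu.unit, by rw [IsUnit.unit_spec]; exact hak'⟩
  haveI : IsLocalization.Away (G * a) (Localization.Away g') :=
    IsLocalization.Away.mul_of_associated (S := Localization.Away G) G a g' hassoc
  refine ⟨G * a, fun h => (𝔭.isPrime.mem_or_mem h).elim hG ha, ?_⟩
  refine exists_list_localizationAway I (G * a) (Localization.Away g') l hl ?_
  rw [IsScalarTower.algebraMap_eq P (Localization.Away G) (Localization.Away g'), ← Ideal.map_map]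
  exact hIl

open MvPolynomial

theorem isSMulRegular_CX_sub_one (G : P) :
    IsSMulRegular (MvPolynomial Unit P) (C G * X () - 1 : MvPolynomial Unit P) := by
  intro a b hab
  simp only [smul_eq_mul] at hab
  have hu : IsUnit ((C G * X () - 1 : MvPolynomial Unit P) : MvPowerSeries Unit P) := by
    rw [MvPowerSeries.isUnit_iff_constantCoeff]
    have : MvPowerSeries.constantCoeff ((C G * X () - 1 : MvPolynomial Unit P) :
        MvPowerSeries Unit P) = -1 := by
      rw [← MvPowerSeries.coeff_zero_eq_constantCoeff_apply, MvPolynomial.coeff_coe]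
      simp
    rw [this]
    exact isUnit_one.neg
  apply MvPolynomial.coe_injective
  have h2 := congrArg (fun x : MvPolynomial Unit P => (x : MvPowerSeries Unit P)) hab
  simp only [MvPolynomial.coe_mul] at h2
  exact hu.mul_left_cancel h2

/-- the presentation `P[Y] → P_G`, `Y ↦ 1/G`. -/
noncomputable def awayPres (G : P) : MvPolynomial Unit P →ₐ[P] Localization.Away G :=
  aeval (fun _ => IsLocalization.Away.invSelf G)

theorem awayPres_surjective (G : P) : Function.Surjective (awayPres G) := by
  intro y
  obtain ⟨x, rfl⟩ := (IsLocalization.Away.mvPolynomialQuotientEquiv (Localization.Away G)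
    G).surjective y
  obtain ⟨p, rfl⟩ := Ideal.Quotient.mk_surjective x
  exact ⟨p, rfl⟩

theorem ker_awayPres (G : P) :
    RingHom.ker (awayPres G).toRingHom = Ideal.ofList [(C G * X () - 1 : MvPolynomial Unit P)] := by
  rw [Ideal.ofList_singleton]
  ext p
  rw [RingHom.mem_ker]
  have h1 : (awayPres G).toRingHom p = IsLocalization.Away.mvPolynomialQuotientEquiv
      (Localization.Away G) G (Ideal.Quotient.mk _ p) := rfl
  rw [h1, EmbeddingLike.map_eq_zero_iff, Ideal.Quotient.eq_zero_iff_mem]

theorem indep_CX_sub_one (G : P) (K q : Ideal (MvPolynomial Unit P)) [q.IsPrime] (hKq : K ≤ q)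
    (hf : (C G * X () - 1 : MvPolynomial Unit P) ∈ K) :
    Indep K q [(C G * X () - 1 : MvPolynomial Unit P)] := by
  refine ⟨⟨(AddMonoidHom.mulLeft (Ideal.Quotient.mk q (X ()))).comp
    ((Ideal.Quotient.mk q : MvPolynomial Unit P →+* _).toAddMonoidHom.comp
      ((pderiv () : Derivation P (MvPolynomial Unit P) (MvPolynomial Unit P)) :
        MvPolynomial Unit P →ₗ[P] MvPolynomial Unit P).toAddMonoidHom), ?_, ?_, ?_⟩, trivial⟩
  · intro t k hk
    simp only [AddMonoidHom.coe_comp, AddMonoidHom.coe_mulLeft, RingHom.toAddMonoidHom_eq_coe,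
      AddMonoidHom.coe_coe, LinearMap.toAddMonoidHom_coe, Function.comp_apply,
      Derivation.coeFn_coe, Derivation.leibniz, smul_eq_mul, map_add, map_mul]
    rw [Ideal.Quotient.eq_zero_iff_mem.mpr (hKq hk), zero_mul, add_zero]
    ring
  · have hd : pderiv () (C G * X () - 1 : MvPolynomial Unit P) = C G := by
      simp [Derivation.leibniz]
    simp only [AddMonoidHom.coe_comp, AddMonoidHom.coe_mulLeft, RingHom.toAddMonoidHom_eq_coe,
      AddMonoidHom.coe_coe, LinearMap.toAddMonoidHom_coe, Function.comp_apply,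
      Derivation.coeFn_coe]
    rw [hd, ← map_mul, ← sub_eq_zero, ← map_one (Ideal.Quotient.mk q), ← map_sub,
      Ideal.Quotient.eq_zero_iff_mem]
    have : (X () * C G - 1 : MvPolynomial Unit P) = C G * X () - 1 := by ring
    rw [this]
    exact hKq hf
  · intro f' hf'
    simp at hf'

/-- an isomorphism `R[X_0..X_n] ≃ R[X_1..X_n][Y]`. -/
noncomputable def polyIso (R : Type u) [CommRing R] (n : ℕ) :
    MvPolynomial (Fin (1 + n)) R ≃ₐ[R] MvPolynomial Unit (MvPolynomial (Fin n) R) :=
  (renameEquiv R (Fintype.equivFinOfCardEq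
    (by simp : Fintype.card (Unit ⊕ Fin n) = 1 + n)).symm).trans (sumAlgEquiv R Unit (Fin n))

/-- key step of **S9253**: if `S[1/π(G)]` is lci over `R` then the kernel of the presentation `π`
is Koszul-regular on `D(G)`. -/
theorem isKoszulRegularIdeal_map_away_of_isLCI (R S : Type u) [CommRing R] [CommRing S]
    [Algebra R S] (n : ℕ) (π : MvPolynomial (Fin n) R →ₐ[R] S) (hπ : Function.Surjective π)
    (G : MvPolynomial (Fin n) R) (hG : LCI.IsLCI R (Localization.Away (π G))) :
    LCI.IsKoszulRegularIdeal
      ((RingHom.ker π.toRingHom).map (algebraMap _ (Localization.Away G))) := by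
  obtain ⟨_, n', α, hα, hKα⟩ := hG
  -- the localized presentation
  obtain ⟨hπGsurj, hπGker⟩ := away_map_surjective_ker π.toRingHom hπ G (Localization.Away G)
    (Localization.Away (π.toRingHom G))
  set πG : Localization.Away G →+* Localization.Away (π G) :=
    IsLocalization.Away.map (Localization.Away G) (Localization.Away (π.toRingHom G))
      π.toRingHom G with hπG
  set φ : MvPolynomial Unit (MvPolynomial (Fin n) R) →+* Localization.Away G :=
    (awayPres G).toRingHom with hφ
  have hφsurj : Function.Surjective φ := awayPres_surjective G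
  -- the `R`-algebra presentation of `S[1/π G]`
  let ψₐ : MvPolynomial Unit (MvPolynomial (Fin n) R) →ₐ[R] Localization.Away (π G) :=
    (IsLocalization.Away.mapₐ (Localization.Away G) (Localization.Away (π G)) π G).comp
      ((awayPres G).restrictScalars R)
  have hψₐ : ψₐ.toRingHom = πG.comp φ := RingHom.ext fun x => rfl
  let β : MvPolynomial (Fin (1 + n)) R →ₐ[R] Localization.Away (π G) :=
    ψₐ.comp (polyIso R n).toAlgHom
  have hβsurj : Function.Surjective β := by
    have h1 : Function.Surjective ψₐ := by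
      have : (ψₐ : _ → _) = πG ∘ φ := by
        ext x
        exact congrArg (fun f : _ →+* _ => f x) hψₐ
      rw [this]
      exact hπGsurj.comp hφsurj
    exact h1.comp (polyIso R n).surjective
  have hKβ := isKoszulRegularIdeal_ker_of_other_presentation R (Localization.Away (π G)) n'
    (1 + n) α hα β hβsurj hKα
  -- transport to `P[Y]`
  have hKψ : LCI.IsKoszulRegularIdeal (RingHom.ker (πG.comp φ)) := by
    have h1 := isKoszulRegularIdeal_map_ringEquiv (polyIso R n).toRingEquiv _ hKβ
    have h2 : Ideal.map (polyIso R n).toRingEquiv.toRingHom (RingHom.ker β.toRingHom) =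
        RingHom.ker (πG.comp φ) := by
      have h3 : RingHom.ker β.toRingHom =
          (RingHom.ker (πG.comp φ)).comap (polyIso R n).toRingEquiv.toRingHom := by
        rw [RingHom.comap_ker, ← hψₐ]
        rfl
      rw [h3]
      exact Ideal.map_comap_of_surjective _ (polyIso R n).surjective _
    rwa [h2] at h1
  -- the quotient lemma
  have hfinal : (RingHom.ker π.toRingHom).map (algebraMap _ (Localization.Away G)) =
      (RingHom.ker (πG.comp φ)).map φ := by
    rw [← RingHom.comap_ker, Ideal.map_comap_of_surjective φ hφsurj, hπG, hπGker]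
  rw [hfinal]
  refine isKoszulRegularIdeal_map_of_surjective _ hKψ φ hφsurj
    [(C G * X () - 1 : MvPolynomial Unit (MvPolynomial (Fin n) R))]
    (isKoszulRegularSeq_singleton _ (isSMulRegular_CX_sub_one G)) (ker_awayPres G) ?_ ?_
  · intro x hx
    have hx' : x ∈ RingHom.ker φ := by
      rw [hφ, ker_awayPres]
      exact Ideal.subset_span hx
    have h0 : φ x = 0 := (RingHom.mem_ker).mp hx'
    rw [RingHom.mem_ker, RingHom.comp_apply, h0, map_zero]
  · intro q hq hKq
    haveI := hq
    refine indep_CX_sub_one G _ q hKq ?_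
    have hx' : (C G * X () - 1 : MvPolynomial Unit (MvPolynomial (Fin n) R)) ∈ RingHom.ker φ := by
      rw [hφ, ker_awayPres]
      exact Ideal.subset_span (List.mem_singleton.mpr rfl)
    have h0 : φ (C G * X () - 1) = 0 := (RingHom.mem_ker).mp hx'
    rw [RingHom.mem_ker, RingHom.comp_apply, h0, map_zero]

/-- **S9253**: being a local complete intersection algebra is local on the source. -/
theorem isLCI_of_localizations_span_eq_top (R S : Type u) [CommRing R] [CommRing S] [Algebra R S]
    (m : ℕ) (g : Fin m → S) (hg : Ideal.span (Set.range g) = ⊤)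
    (h : ∀ j, LCI.IsLCI R (Localization.Away (g j))) : LCI.IsLCI R S := by
  have hft : Algebra.FiniteType R S := by
    rw [← RingHom.finiteType_algebraMap]
    refine RingHom.finiteType_ofLocalizationSpanTarget (algebraMap R S) (Set.range g) hg ?_
    rintro ⟨_, j, rfl⟩
    rw [← IsScalarTower.algebraMap_eq, RingHom.finiteType_algebraMap]
    exact (h j).1
  refine ⟨hft, ?_⟩
  obtain ⟨n, π, hπ⟩ := Algebra.FiniteType.iff_quotient_mvPolynomial''.mp hft
  refine ⟨n, π, hπ, ?_⟩
  intro 𝔭 h𝔭
  have hcomap : (𝔭.asIdeal.map π.toRingHom).comap π.toRingHom = 𝔭.asIdeal := by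
    have hπ' : Function.Surjective π.toRingHom := hπ
    rw [Ideal.comap_map_of_surjective' π.toRingHom hπ']
    exact sup_eq_left.mpr h𝔭
  have hex : ∃ j, g j ∉ 𝔭.asIdeal.map π.toRingHom := by
    by_contra hcon
    push Not at hcon
    have h1 : Ideal.span (Set.range g) ≤ 𝔭.asIdeal.map π.toRingHom := by
      rw [Ideal.span_le]
      rintro _ ⟨j, rfl⟩
      exact hcon j
    rw [hg, top_le_iff] at h1
    rw [h1, Ideal.comap_top] at hcomap
    exact 𝔭.isPrime.ne_top hcomap.symm
  obtain ⟨j, hj⟩ := hex
  obtain ⟨G, hGj⟩ := hπ (g j)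
  have hG𝔭 : G ∉ 𝔭.asIdeal := by
    intro hG
    apply hj
    rw [← hGj]
    exact Ideal.mem_map_of_mem π.toRingHom hG
  have hG : LCI.IsLCI R (Localization.Away (π G)) := by
    rw [hGj]
    exact h j
  exact koszul_at_of_map_away _ G
    (isKoszulRegularIdeal_map_away_of_isLCI R S n π hπ G hG) 𝔭 h𝔭 hG𝔭

end Groth.Agent.H39.KoszulLCILocal
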