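import Mathlib
import Groth.Agent.H39.KoszulLCILocal

set_option autoImplicit false
set_option linter.style.haveILetI false
universe u

open Groth.Agent.H39.KoszulExchange Groth.Agent.H39.KoszulLoc Groth.Agent.H39.KoszulPres
open Groth.Agent.H39.KoszulPresMain Groth.Agent.H39.KoszulLCILocal

namespace Groth.Agent.H39.LCIComp

variable {R : Type u} [CommRing R]

/-- a compatible ring map between localizations `R_x → R_z` with `x ∣ z` is flat. -/
theorem flat_of_away_dvd (x z : R) (hxz : x ∣ z) (S : Type u) [CommRing S] [Algebra R S]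
    [IsLocalization.Away x S] (T : Type u) [CommRing T] [Algebra R T]
    [IsLocalization.Away z T] (ψ : S →+* T)
    (hψ : ∀ a, ψ (algebraMap R S a) = algebraMap R T a) : ψ.Flat := by
  letI : Algebra S T := ψ.toAlgebra
  haveI : IsScalarTower R S T := IsScalarTower.of_algebraMap_eq (fun a => (hψ a).symm)
  let N : Submonoid R := (IsUnit.submonoid T).comap (algebraMap R T)
  have hz : IsUnit (algebraMap R T z) := IsLocalization.Away.algebraMap_isUnit z
  haveI : IsLocalization N T := by
    refine IsLocalization.of_le (Submonoid.powers z) N ?_ (fun r hr => hr)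
    rw [Submonoid.powers_le]
    exact hz
  have hle : Submonoid.powers x ≤ N := by
    rw [Submonoid.powers_le]
    show IsUnit (algebraMap R T x)
    exact isUnit_of_dvd_unit (map_dvd _ hxz) hz
  haveI := IsLocalization.isLocalization_of_submonoid_le S T (Submonoid.powers x) N hle
  exact IsLocalization.flat T (N.map (algebraMap R S))

/-- (H9) flat base change of Koszul-regular ideals. -/
theorem isKoszulRegularIdeal_map_of_flat {R' : Type u} [CommRing R'] (f : R →+* R') (hf : f.Flat)
    (I : Ideal R) (hI : LCI.IsKoszulRegularIdeal I) : LCI.IsKoszulRegularIdeal (I.map f) := by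
  intro 𝔭' h𝔭'
  set q : Ideal R := 𝔭'.asIdeal.comap f with hq
  haveI : q.IsPrime := Ideal.comap_isPrime f 𝔭'.asIdeal
  have hIq : I ≤ q := by
    rw [hq, ← Ideal.map_le_iff_le_comap]
    exact h𝔭'
  obtain ⟨g, hg, l, hl, hIl⟩ := hI ⟨q, inferInstance⟩ hIq
  refine ⟨f g, fun h => hg h, ?_⟩
  have hflat : (IsLocalization.Away.map (Localization.Away g) (Localization.Away (f g)) f g).Flat :=
    RingHom.Flat.propertyIsLocal.localizationAwayPreserves f g (Localization.Away g)
      (Localization.Away (f g)) hf
  refine ⟨l.map (IsLocalization.Away.map (Localization.Away g) (Localization.Away (f g)) f g),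
    Groth.Agent.H39.KoszulFlatBC.isKoszulRegularSeq_map_of_flat _ hflat l hl, ?_⟩
  have hcomp : ∀ x, (IsLocalization.Away.map (Localization.Away g)
      (Localization.Away (f g)) f g) (algebraMap R (Localization.Away g) x) =
      algebraMap R' (Localization.Away (f g)) (f x) := fun x => IsLocalization.map_eq _ x
  have h1 : (I.map f).map (algebraMap R' (Localization.Away (f g))) =
      (I.map (algebraMap R (Localization.Away g))).map (IsLocalization.Away.map
        (Localization.Away g) (Localization.Away (f g)) f g) := by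
    rw [Ideal.map_map, Ideal.map_map]
    congr 1
    ext x
    exact (hcomp x).symm
  rw [h1, hIl]
  exact Ideal.map_ofList _ l

/-- (H10) **ideal append**: if `ker φ` is a Koszul-regular ideal (`φ` surjective) and the image
of `K ⊇ ker φ` is a Koszul-regular ideal of the quotient, then `K` is a Koszul-regular ideal. -/
theorem isKoszulRegularIdeal_of_map_surjective {R' : Type u} [CommRing R'] (φ : R →+* R')
    (hφ : Function.Surjective φ) (hI : LCI.IsKoszulRegularIdeal (RingHom.ker φ)) (K : Ideal R)
    (hIK : RingHom.ker φ ≤ K) (hK : LCI.IsKoszulRegularIdeal (K.map φ)) :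
    LCI.IsKoszulRegularIdeal K := by
  intro 𝔭 h𝔭
  have hker𝔭 : RingHom.ker φ ≤ 𝔭.asIdeal := hIK.trans h𝔭
  haveI hqbar : (𝔭.asIdeal.map φ).IsPrime := Ideal.map_isPrime_of_surjective hφ hker𝔭
  have hcomap : (𝔭.asIdeal.map φ).comap φ = 𝔭.asIdeal := by
    rw [Ideal.comap_map_of_surjective' φ hφ]
    exact sup_eq_left.mpr hker𝔭
  obtain ⟨h', hh', l', hl', hKl'⟩ := hK ⟨_, hqbar⟩ (Ideal.map_mono h𝔭)
  obtain ⟨h, rfl⟩ := hφ h'
  have hh : h ∉ 𝔭.asIdeal := fun hh => hh' (Ideal.mem_map_of_mem φ hh)
  obtain ⟨g, hg, lI, hlI, hIl⟩ := hI 𝔭 hker𝔭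
  have hs : g * h ∉ 𝔭.asIdeal := fun h0 => (𝔭.isPrime.mem_or_mem h0).elim hg hh
  refine ⟨g * h, hs, ?_⟩
  obtain ⟨hsurj, hkerT⟩ := away_map_surjective_ker φ hφ (g * h) (Localization.Away (g * h))
    (Localization.Away (φ (g * h)))
  set φT : Localization.Away (g * h) →+* Localization.Away (φ (g * h)) :=
    IsLocalization.Away.map (Localization.Away (g * h)) (Localization.Away (φ (g * h))) φ (g * h)
    with hφT
  have hcomp : ∀ x, φT (algebraMap R _ x) = algebraMap R' _ (φ x) := fun x =>
    IsLocalization.map_eq _ x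
  -- generators of the kernel
  set ψ₁ : Localization.Away g →+* Localization.Away (g * h) :=
    IsLocalization.Away.awayToAwayRight (S := Localization.Away g)
      (P := Localization.Away (g * h)) g h with hψ₁
  have hψ₁alg : ∀ a, ψ₁ (algebraMap R _ a) = algebraMap R _ a := fun a =>
    IsLocalization.Away.awayToAwayRight_eq (S := Localization.Away g)
      (P := Localization.Away (g * h)) g h a
  have hxs : LCI.IsKoszulRegularSeq (Localization.Away (g * h)) (lI.map ψ₁) :=
    Groth.Agent.H39.KoszulFlatBC.isKoszulRegularSeq_map_of_flat ψ₁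
      (flat_awayToAwayRight g h _ _) lI hlI
  have hxsgen : RingHom.ker φT = Ideal.ofList (lI.map ψ₁) := by
    rw [hkerT, ← Ideal.map_ofList]
    have h1 : algebraMap R (Localization.Away (g * h)) =
        ψ₁.comp (algebraMap R (Localization.Away g)) := by
      ext a
      exact (hψ₁alg a).symm
    rw [h1, ← Ideal.map_map, hIl]
  -- generators of the image
  have hunit : IsUnit (algebraMap R' (Localization.Away (φ (g * h))) (φ h)) :=
    IsLocalization.Away.isUnit_of_dvd (φ (g * h)) (by rw [map_mul]; exact dvd_mul_left _ _)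
  set ψ₂ : Localization.Away (φ h) →+* Localization.Away (φ (g * h)) :=
    IsLocalization.Away.lift (φ h) hunit with hψ₂
  have hψ₂alg : ∀ a, ψ₂ (algebraMap R' _ a) = algebraMap R' _ a := fun a =>
    IsLocalization.Away.lift_eq _ _ a
  have hψ₂flat : ψ₂.Flat := flat_of_away_dvd (φ h) (φ (g * h))
    (by rw [map_mul]; exact dvd_mul_left _ _) _ _ ψ₂ hψ₂alg
  have hys' : LCI.IsKoszulRegularSeq (Localization.Away (φ (g * h))) (l'.map ψ₂) :=
    Groth.Agent.H39.KoszulFlatBC.isKoszulRegularSeq_map_of_flat ψ₂ hψ₂flat l' hl'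
  have hys'gen : (K.map φ).map (algebraMap R' (Localization.Away (φ (g * h)))) =
      Ideal.ofList (l'.map ψ₂) := by
    rw [← Ideal.map_ofList]
    have h1 : algebraMap R' (Localization.Away (φ (g * h))) =
        ψ₂.comp (algebraMap R' (Localization.Away (φ h))) := by
      ext a
      exact (hψ₂alg a).symm
    rw [h1, ← Ideal.map_map, hKl']
  obtain ⟨ys, hys⟩ := (List.map_surjective_iff.mpr hsurj) (l'.map ψ₂)
  have hys'' : LCI.IsKoszulRegularSeq (Localization.Away (φ (g * h))) (ys.map φT) := by
    rw [hys]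
    exact hys'
  refine ⟨ys ++ lI.map ψ₁,
    Groth.Agent.H39.KoszulAppend.isKoszulRegularSeq_append φT hsurj _ hxs hxsgen ys hys'', ?_⟩
  change _ = Ideal.ofList _
  have hkerle : RingHom.ker φT ≤ K.map (algebraMap R (Localization.Away (g * h))) := by
    rw [hkerT]
    exact Ideal.map_mono hIK
  have h2 : (K.map (algebraMap R (Localization.Away (g * h)))).map φT =
      (Ideal.ofList ys).map φT := by
    rw [Ideal.map_ofList, hys, ← hys'gen, Ideal.map_map, Ideal.map_map]
    congr 1
    ext x
    exact hcomp x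
  calc K.map (algebraMap R (Localization.Away (g * h)))
      = ((K.map (algebraMap R (Localization.Away (g * h)))).map φT).comap φT := by
        rw [Ideal.comap_map_of_surjective' φT hsurj]
        exact (sup_eq_left.mpr hkerle).symm
    _ = ((Ideal.ofList ys).map φT).comap φT := by rw [h2]
    _ = Ideal.ofList ys ⊔ RingHom.ker φT := Ideal.comap_map_of_surjective' φT hsurj _
    _ = Ideal.ofList (ys ++ lI.map ψ₁) := by rw [hxsgen, Ideal.ofList_append]

open MvPolynomial in
/-- **Composition of local complete intersection ring maps.** -/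
theorem isLCI_trans (A B D : Type u) [CommRing A] [CommRing B] [CommRing D] [Algebra A B]
    [Algebra B D] [Algebra A D] [IsScalarTower A B D] (hB : LCI.IsLCI A B) (hC : LCI.IsLCI B D) :
    LCI.IsLCI A D := by
  obtain ⟨hftB, n, α, hα, hKα⟩ := hB
  obtain ⟨hftC, m, β, hβ, hKβ⟩ := hC
  have hft : Algebra.FiniteType A D := Algebra.FiniteType.trans hftB hftC
  refine ⟨hft, ?_⟩
  let α' : MvPolynomial (Fin m) (MvPolynomial (Fin n) A) →ₐ[A] MvPolynomial (Fin m) B :=
    MvPolynomial.mapAlgHom α
  have hα'surj : Function.Surjective α'.toRingHom :=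
    MvPolynomial.map_surjective α.toRingHom hα
  have hα'ker : RingHom.ker α'.toRingHom =
      (RingHom.ker α.toRingHom).map (C : MvPolynomial (Fin n) A →+* _) :=
    MvPolynomial.ker_mapAlgHom α
  let γ : MvPolynomial (Fin m) (MvPolynomial (Fin n) A) →ₐ[A] D :=
    (β.restrictScalars A).comp α'
  have hγ : γ.toRingHom = β.toRingHom.comp α'.toRingHom := rfl
  have hγsurj : Function.Surjective γ := hβ.comp hα'surj
  -- the kernel of `γ` is Koszul-regular
  have hKγ : LCI.IsKoszulRegularIdeal (RingHom.ker γ.toRingHom) := by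
    refine isKoszulRegularIdeal_of_map_surjective α'.toRingHom hα'surj ?_ _ ?_ ?_
    · rw [hα'ker]
      refine isKoszulRegularIdeal_map_of_flat _ ?_ _ hKα
      rw [← MvPolynomial.algebraMap_eq, RingHom.flat_algebraMap_iff]
      infer_instance
    · intro x hx
      have h0 : α'.toRingHom x = 0 := (RingHom.mem_ker).mp hx
      rw [RingHom.mem_ker, hγ, RingHom.comp_apply, h0, map_zero]
    · rw [hγ, ← RingHom.comap_ker, Ideal.map_comap_of_surjective _ hα'surj]
      exact hKβ
  -- transport to a polynomial ring in `m + n` variables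
  let Θ : MvPolynomial (Fin (m + n)) A ≃ₐ[A] MvPolynomial (Fin m) (MvPolynomial (Fin n) A) :=
    (renameEquiv A finSumFinEquiv.symm).trans (sumAlgEquiv A (Fin m) (Fin n))
  refine ⟨m + n, γ.comp Θ.toAlgHom, hγsurj.comp Θ.surjective, ?_⟩
  have h1 := isKoszulRegularIdeal_map_ringEquiv Θ.symm.toRingEquiv _ hKγ
  have h2 : Ideal.map Θ.symm.toRingEquiv.toRingHom (RingHom.ker γ.toRingHom) =
      RingHom.ker (γ.comp Θ.toAlgHom).toRingHom := by
    have h3 : RingHom.ker γ.toRingHom =
        (RingHom.ker (γ.comp Θ.toAlgHom).toRingHom).comap Θ.symm.toRingEquiv.toRingHom := by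
      rw [RingHom.comap_ker]
      congr 1
      refine RingHom.ext fun x => ?_
      show γ x = γ (Θ (Θ.symm x))
      rw [AlgEquiv.apply_symm_apply]
    rw [h3]
    exact Ideal.map_comap_of_surjective _ Θ.symm.surjective _
  rwa [h2] at h1

end Groth.Agent.H39.LCIComp
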