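import Mathlib
import Groth.Agent.H39.KoszulPres
import Groth.Agent.H79.KoszulPoly

set_option autoImplicit false
set_option linter.style.haveILetI false
universe u

open Groth.Agent.H39.KoszulPres MvPolynomial

namespace Groth.Agent.H39.SmoothSectionCore

variable {A' B' : Type u} [CommRing A'] [CommRing B']

/-- **Step 1**: with `θ` formally unramified, `ker σ' ≤ (ker σ')² + (θ(X_i) - ι a_i)`. -/
theorem ker_le_sq_sup (ι : A' →+* B') (σ' : B' →+* A') (hσ : ∀ a, σ' (ι a) = a) (n : ℕ)
    (θ : MvPolynomial (Fin n) A' →+* B') (hθ : ∀ a, θ (C a) = ι a)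
    (hunr : θ.FormallyUnramified) :
    RingHom.ker σ' ≤ RingHom.ker σ' ^ 2 ⊔
      Ideal.ofList ((xsList n (fun i => σ' (θ (X i)))).map θ) := by
  set a : Fin n → A' := fun i => σ' (θ (X i)) with ha
  set I' := RingHom.ker σ' with hI'
  set Y := Ideal.ofList ((xsList n a).map θ) with hY
  -- `σ' ∘ θ = aeval a`
  have hσθ : ∀ p, σ' (θ p) = aeval a p := by
    intro p
    have : σ'.comp θ = (aeval a : MvPolynomial (Fin n) A' →ₐ[A'] A').toRingHom := by
      apply MvPolynomial.ringHom_ext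
      · intro c
        simp [hθ, hσ]
      · intro i
        simp [ha]
    exact congrArg (fun f : _ →+* _ => f p) this
  have hsub : ∀ p, θ p - ι (σ' (θ p)) ∈ Y := by
    intro p
    have h1 := sub_C_aeval_mem n a p
    have h2 : θ (p - C (aeval a p)) ∈ Y := by
      rw [hY, ← Ideal.map_ofList]
      exact Ideal.mem_map_of_mem θ h1
    rwa [map_sub, hθ, ← hσθ] at h2
  letI := θ.toAlgebra
  haveI : Algebra.FormallyUnramified (MvPolynomial (Fin n) A') B' := hunr
  set J := I' ^ 2 ⊔ Y with hJ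
  set N : Ideal (B' ⧸ J) := I'.map (Ideal.Quotient.mk J) with hN
  have hN2 : N ^ 2 = ⊥ := by
    rw [hN, ← Ideal.map_pow, Ideal.map_eq_bot_iff_le_ker, Ideal.mk_ker]
    exact le_sup_left
  let f₁ : B' →ₐ[MvPolynomial (Fin n) A'] (B' ⧸ J) := Ideal.Quotient.mkₐ _ J
  let f₂ : B' →ₐ[MvPolynomial (Fin n) A'] (B' ⧸ J) :=
    { ((Ideal.Quotient.mk J).comp ι).comp σ' with
      commutes' := by
        intro p
        show Ideal.Quotient.mk J (ι (σ' (θ p))) = Ideal.Quotient.mk J (θ p)
        rw [Ideal.Quotient.mk_eq_mk_iff_sub_mem, ← Ideal.neg_mem_iff, neg_sub]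
        exact (le_sup_right : Y ≤ J) (hsub p) }
  have hf : (Ideal.Quotient.mkₐ (MvPolynomial (Fin n) A') N).comp f₁ =
      (Ideal.Quotient.mkₐ (MvPolynomial (Fin n) A') N).comp f₂ := by
    ext b
    show Ideal.Quotient.mk N (Ideal.Quotient.mk J b) =
      Ideal.Quotient.mk N (Ideal.Quotient.mk J (ι (σ' b)))
    rw [Ideal.Quotient.mk_eq_mk_iff_sub_mem, ← map_sub]
    refine Ideal.mem_map_of_mem _ ?_
    rw [hI', RingHom.mem_ker, map_sub, hσ, sub_self]
  have h12 : f₁ = f₂ := Algebra.FormallyUnramified.comp_injective N hN2 hf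
  intro b hb
  have hb0 : σ' b = 0 := (RingHom.mem_ker).mp hb
  have h3 : f₁ b = f₂ b := by rw [h12]
  have h4 : Ideal.Quotient.mk J b = Ideal.Quotient.mk J (ι (σ' b)) := h3
  rw [hb0, map_zero, map_zero, Ideal.Quotient.eq_zero_iff_mem] at h4
  exact h4

/-- **Step 2** (Nakayama): an element `r ≡ 1 mod ker σ'` with `r · ker σ' ⊆ (θ(X_i) - ι a_i)`. -/
theorem exists_mul_mem (ι : A' →+* B') (σ' : B' →+* A') (hσ : ∀ a, σ' (ι a) = a) (n : ℕ)
    (θ : MvPolynomial (Fin n) A' →+* B') (hθ : ∀ a, θ (C a) = ι a)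
    (hunr : θ.FormallyUnramified) (hfg : (RingHom.ker σ').FG) :
    ∃ r : B', r - 1 ∈ RingHom.ker σ' ∧ ∀ b ∈ RingHom.ker σ',
      r * b ∈ Ideal.ofList ((xsList n (fun i => σ' (θ (X i)))).map θ) := by
  have hle := ker_le_sq_sup ι σ' hσ n θ hθ hunr
  set I' := RingHom.ker σ' with hI'
  set Y := Ideal.ofList ((xsList n (fun i => σ' (θ (X i)))).map θ) with hY
  let N : Submodule B' (B' ⧸ Y) := Submodule.map (Submodule.mkQ Y) I'
  have hNfg : N.FG := Submodule.FG.map _ hfg
  have hin : N ≤ I' • N := by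
    rintro _ ⟨b, hb, rfl⟩
    obtain ⟨c, hc, y, hy, rfl⟩ := Submodule.mem_sup.mp (hle hb)
    have h1 : Submodule.mkQ Y (c + y) = Submodule.mkQ Y c := by
      rw [map_add, Submodule.mkQ_apply Y y, (Submodule.Quotient.mk_eq_zero Y).mpr hy, add_zero]
    rw [h1]
    have h2 : c ∈ I' • (I' : Submodule B' B') := by
      rw [pow_two] at hc
      exact hc
    have h3 : Submodule.mkQ Y c ∈ Submodule.map (Submodule.mkQ Y) (I' • (I' : Submodule B' B')) :=
      Submodule.mem_map_of_mem h2
    rwa [Submodule.map_smul''] at h3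
  obtain ⟨r, hr1, hr2⟩ :=
    Submodule.exists_sub_one_mem_and_smul_eq_zero_of_fg_of_le_smul I' N hNfg hin
  refine ⟨r, hr1, fun b hb => ?_⟩
  have h4 := hr2 (Submodule.mkQ Y b) (Submodule.mem_map_of_mem hb)
  rw [← map_smul, Submodule.mkQ_apply, Submodule.Quotient.mk_eq_zero] at h4
  exact h4

/-- weakly regular sequences are preserved by flat ring maps (ring hom form). -/
theorem isWeaklyRegular_map_of_flat {R S : Type u} [CommRing R] [CommRing S] (φ : R →+* S)
    (hφ : φ.Flat) (l : List R) (hl : RingTheory.Sequence.IsWeaklyRegular R l) :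
    RingTheory.Sequence.IsWeaklyRegular S (l.map φ) := by
  letI := φ.toAlgebra
  haveI : Module.Flat R S := hφ
  exact RingTheory.Sequence.IsWeaklyRegular.of_flat hl

theorem isWeaklyRegular_xsList {R : Type u} [CommRing R] (m : ℕ) (f : Fin m → R) :
    RingTheory.Sequence.IsWeaklyRegular (MvPolynomial (Fin m) R) (xsList m f) := by
  have h1 := Groth.Agent.H79.KoszulPoly.isWeaklyRegular_pow_X (A := R) m 1
  have h2 : ((List.ofFn (fun j : Fin m => (X j : MvPolynomial (Fin m) R))).map (· ^ 1)) =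
      List.ofFn (fun j : Fin m => (X j : MvPolynomial (Fin m) R)) := by
    simp [Function.comp_def]
  rw [h2] at h1
  have h4 := isWeaklyRegular_map_of_flat (translate m f).toRingEquiv.toRingHom
    (RingHom.Flat.of_bijective (translate m f).bijective) _ h1
  have h5 : (List.ofFn (fun j : Fin m => (X j : MvPolynomial (Fin m) R))).map
      (translate m f).toRingEquiv.toRingHom = xsList m f := by
    rw [List.map_ofFn]
    unfold xsList
    congr 1
    ext1 j
    exact translate_X m f j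
  rw [h5] at h4
  exact h4

/-- **Step 3**: consequences in a flat `B'`-algebra `T` in which `r` becomes a unit. -/
theorem regular_generators (σ' : B' →+* A') (n : ℕ)
    (θ : MvPolynomial (Fin n) A' →+* B') (hflat : θ.Flat) (a : Fin n → A')
    (hY : ∀ y ∈ (xsList n a).map θ, y ∈ RingHom.ker σ') (r : B')
    (hr : ∀ b ∈ RingHom.ker σ', r * b ∈ Ideal.ofList ((xsList n a).map θ))
    {T : Type u} [CommRing T] (lam : B' →+* T) (hlam : lam.Flat) (hru : IsUnit (lam r)) :
    RingTheory.Sequence.IsWeaklyRegular T ((xsList n a).map (lam.comp θ)) ∧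
      LCI.IsKoszulRegularSeq T ((xsList n a).map (lam.comp θ)) ∧
      (RingHom.ker σ').map lam = Ideal.ofList ((xsList n a).map (lam.comp θ)) := by
  have hfl : (lam.comp θ).Flat := RingHom.Flat.comp hflat hlam
  refine ⟨isWeaklyRegular_map_of_flat _ hfl _ (isWeaklyRegular_xsList n a),
    Groth.Agent.H39.KoszulFlatBC.isKoszulRegularSeq_map_of_flat _ hfl _
      (isKoszulRegularSeq_xsList n a), ?_⟩
  have hmm : (xsList n a).map (lam.comp θ) = ((xsList n a).map θ).map lam := by
    rw [List.map_map]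
    rfl
  rw [hmm, ← Ideal.map_ofList]
  apply le_antisymm
  · rw [Ideal.map_le_iff_le_comap]
    intro b hb
    rw [Ideal.mem_comap]
    have h1 : lam (r * b) ∈ Ideal.map lam (Ideal.ofList ((xsList n a).map θ)) :=
      Ideal.mem_map_of_mem lam (hr b hb)
    rw [map_mul] at h1
    exact (Ideal.unit_mul_mem_iff_mem _ hru).mp h1
  · apply Ideal.map_mono
    rw [Ideal.ofList, Ideal.span_le]
    exact fun y hy => hY y hy

end Groth.Agent.H39.SmoothSectionCore
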