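import Mathlib
import Groth.Agent.H39.SmoothSectionCore
import Groth.Agent.H39.LCIComp

set_option autoImplicit false
set_option linter.style.haveILetI false
universe u

open Groth.Agent.H39.KoszulPres Groth.Agent.H39.SmoothSectionCore MvPolynomial

namespace Groth.Agent.H39.SmoothSection

attribute [local instance] MvPolynomial.algebraMvPolynomial

/-- the data of a chart for a section of a smooth algebra, after localizing the base. -/
theorem exists_chart (A B : Type u) [CommRing A] [CommRing B] [Algebra A B]
    [Algebra.FinitePresentation A B] (σ : B →ₐ[A] A) (𝔭 : Ideal B) [𝔭.IsPrime]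
    (_h𝔭 : RingHom.ker σ.toRingHom ≤ 𝔭) [Algebra.IsSmoothAt A 𝔭] :
    ∃ (g : B) (_ : g ∉ 𝔭) (A' E' : Type u) (_ : CommRing A') (_ : CommRing E') (_ : Algebra A A')
      (_ : Algebra B E') (_ : IsLocalization.Away g E') (n : ℕ)
      (θ : MvPolynomial (Fin n) A' →+* E') (σ' : E' →+* A'),
      θ.Flat ∧ θ.FormallyUnramified ∧ (∀ x, σ' (θ (C x)) = x) ∧
      (∀ b, σ' (algebraMap B E' b) = algebraMap A A' (σ b)) ∧
      (∀ x : A, algebraMap A A' x = 0 → ∃ m : ℕ, σ g ^ m * x = 0) := by
  obtain ⟨f₀, hf₀, n, algPE, tower, hse⟩ :=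
    Algebra.IsSmoothAt.exists_isStandardEtale_mvPolynomial (R := A) (p := 𝔭)
  haveI : Algebra.Etale (MvPolynomial (Fin n) A) (Localization.Away f₀) := inferInstance
  set a : A := σ f₀ with ha
  haveI hlocP : IsLocalization.Away (C a : MvPolynomial (Fin n) A)
      (MvPolynomial (Fin n) (Localization.Away a)) := by
    have := MvPolynomial.isLocalization (σ := Fin n) (Submonoid.powers a) (Localization.Away a)
    rwa [Submonoid.map_powers] at this
  set e₀ : Localization.Away f₀ :=
    algebraMap (MvPolynomial (Fin n) A) (Localization.Away f₀) (C a) with he₀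
  have he₀' : e₀ = algebraMap B (Localization.Away f₀) (algebraMap A B a) := by
    rw [he₀, ← MvPolynomial.algebraMap_eq, ← IsScalarTower.algebraMap_apply,
      IsScalarTower.algebraMap_apply A B (Localization.Away f₀)]
  set θ : MvPolynomial (Fin n) (Localization.Away a) →+* Localization.Away e₀ :=
    IsLocalization.Away.map (MvPolynomial (Fin n) (Localization.Away a)) (Localization.Away e₀)
      (algebraMap (MvPolynomial (Fin n) A) (Localization.Away f₀)) (C a) with hθ
  have hθet : θ.Etale :=
    RingHom.Etale.propertyIsLocal.localizationAwayPreserves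
      (algebraMap (MvPolynomial (Fin n) A) (Localization.Away f₀)) (C a)
      (MvPolynomial (Fin n) (Localization.Away a)) (Localization.Away e₀)
      (RingHom.etale_algebraMap.mpr inferInstance)
  obtain ⟨hflat, hunr, -⟩ := RingHom.Etale.iff_flat_and_formallyUnramified.mp hθet
  -- `E'` is a localization of `B`
  haveI hlocE' : IsLocalization.Away (f₀ * algebraMap A B a) (Localization.Away e₀) := by
    haveI : IsLocalization.Away (algebraMap B (Localization.Away f₀) (algebraMap A B a))
        (Localization.Away e₀) := he₀' ▸ (inferInstance : IsLocalization.Away e₀ _)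
    exact IsLocalization.Away.mul' (Localization.Away f₀) (Localization.Away e₀) f₀
      (algebraMap A B a)
  have hg𝔭 : f₀ * algebraMap A B a ∉ 𝔭 := by
    intro h
    rcases (inferInstance : 𝔭.IsPrime).mem_or_mem h with h1 | h1
    · exact hf₀ h1
    · have h2 : f₀ - algebraMap A B a ∈ RingHom.ker σ.toRingHom := by
        rw [RingHom.mem_ker]
        show σ (f₀ - algebraMap A B a) = 0
        rw [map_sub, σ.commutes, ha]
        exact sub_self _
      have h3 : f₀ = (f₀ - algebraMap A B a) + algebraMap A B a := by ring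
      rw [h3] at hf₀
      exact hf₀ (Ideal.add_mem _ (_h𝔭 h2) h1)
  -- the retraction
  have hunit1 : IsUnit (((algebraMap A (Localization.Away a)).comp σ.toRingHom) f₀) :=
    IsLocalization.Away.algebraMap_isUnit a
  set σE : Localization.Away f₀ →+* Localization.Away a :=
    IsLocalization.Away.lift f₀ hunit1 with hσE
  have hσE : ∀ b, σE (algebraMap B (Localization.Away f₀) b) =
      algebraMap A (Localization.Away a) (σ b) := fun b => IsLocalization.Away.lift_eq f₀ hunit1 b
  have hunit2 : IsUnit (σE e₀) := by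
    rw [he₀', hσE, σ.commutes]
    exact IsLocalization.Away.algebraMap_isUnit a
  set σ' : Localization.Away e₀ →+* Localization.Away a :=
    IsLocalization.Away.lift e₀ hunit2 with hσ'
  have hσ'E : ∀ z, σ' (algebraMap (Localization.Away f₀) (Localization.Away e₀) z) = σE z :=
    fun z => IsLocalization.Away.lift_eq e₀ hunit2 z
  have hσ'B : ∀ b, σ' (algebraMap B (Localization.Away e₀) b) =
      algebraMap A (Localization.Away a) (σ b) := by
    intro b
    rw [IsScalarTower.algebraMap_apply B (Localization.Away f₀) (Localization.Away e₀), hσ'E, hσE]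
  refine ⟨f₀ * algebraMap A B a, hg𝔭, Localization.Away a, Localization.Away e₀, inferInstance,
    inferInstance, inferInstance, inferInstance, hlocE', n, θ, σ', hflat, hunr, ?_, hσ'B, ?_⟩
  · intro x
    have hcomp : (σ'.comp (θ.comp (C : Localization.Away a →+* _))) =
        RingHom.id (Localization.Away a) := by
      apply IsLocalization.ringHom_ext (Submonoid.powers a)
      ext x₀
      simp only [RingHom.comp_apply, RingHom.id_apply]
      have h1 : (C (algebraMap A (Localization.Away a) x₀) :
          MvPolynomial (Fin n) (Localization.Away a)) =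
          algebraMap (MvPolynomial (Fin n) A) (MvPolynomial (Fin n) (Localization.Away a))
            (C x₀) := by
        rw [MvPolynomial.algebraMap_def, MvPolynomial.map_C]
      rw [h1, hθ, IsLocalization.Away.map, IsLocalization.map_eq, hσ'E,
        ← MvPolynomial.algebraMap_eq, ← IsScalarTower.algebraMap_apply,
        IsScalarTower.algebraMap_apply A B (Localization.Away f₀), hσE, σ.commutes]
      rfl
    exact congrArg (fun f : _ →+* _ => f x) hcomp
  · intro x hx
    obtain ⟨⟨_, k, rfl⟩, hk⟩ :=
      (IsLocalization.map_eq_zero_iff (Submonoid.powers a) (Localization.Away a) x).mp hx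
    refine ⟨k, ?_⟩
    have h1 : σ (f₀ * algebraMap A B a) = a * a := by
      rw [map_mul, σ.commutes]
      rfl
    have hk' : a ^ k * x = 0 := hk
    rw [h1, mul_pow, mul_assoc, hk', mul_zero]

/-- **Section of a smooth algebra**: the kernel of a retraction `σ : B → A` of a smooth
`A`-algebra is, near any prime containing it, generated by the flat image of a regular sequence
of a polynomial ring. -/
theorem exists_regular_generators_of_section (A B : Type u) [CommRing A] [CommRing B] [Algebra A B]
    [Algebra.FinitePresentation A B] (σ : B →ₐ[A] A) (𝔭 : Ideal B) [𝔭.IsPrime]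
    (h𝔭 : RingHom.ker σ.toRingHom ≤ 𝔭) [Algebra.IsSmoothAt A 𝔭] :
    ∃ h : B, h ∉ 𝔭 ∧ ∀ (T : Type u) [CommRing T] [Algebra B T] [IsLocalization.Away h T],
      ∃ rs : List T, RingTheory.Sequence.IsWeaklyRegular T rs ∧ LCI.IsKoszulRegularSeq T rs ∧
        (RingHom.ker σ.toRingHom).map (algebraMap B T) = Ideal.ofList rs := by
  obtain ⟨g, hg, A', E', _, _, _, _, hloc, n, θ, σ', hflat, hunr, hσθ, hσ'B, hker0⟩ :=
    exists_chart A B σ 𝔭 h𝔭
  set I := RingHom.ker σ.toRingHom with hI
  -- the kernel of `σ'` is the extension of the kernel of `σ`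
  have hgu : IsUnit (algebraMap B E' g) := IsLocalization.Away.algebraMap_isUnit g
  have hI' : RingHom.ker σ' = I.map (algebraMap B E') := by
    apply le_antisymm
    · intro x hx
      have hx0 : σ' x = 0 := (RingHom.mem_ker).mp hx
      obtain ⟨⟨b, ⟨_, k, rfl⟩⟩, hbk⟩ := IsLocalization.surj (Submonoid.powers g) x
      have hbk' : x * algebraMap B E' (g ^ k) = algebraMap B E' b := hbk
      have h1 : algebraMap A A' (σ b) = 0 := by
        rw [← hσ'B, ← hbk', map_mul, hx0, zero_mul]
      obtain ⟨m, hm⟩ := hker0 _ h1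
      have h2 : g ^ m * b ∈ I := by
        rw [hI, RingHom.mem_ker]
        show σ (g ^ m * b) = 0
        rw [map_mul, map_pow, hm]
      have h3 : algebraMap B E' (g ^ m * b) ∈ I.map (algebraMap B E') :=
        Ideal.mem_map_of_mem _ h2
      rw [map_mul, ← hbk', ← mul_assoc, mul_comm _ x, mul_assoc] at h3
      have hu : IsUnit (algebraMap B E' (g ^ m) * algebraMap B E' (g ^ k)) := by
        rw [map_pow, map_pow]
        exact (hgu.pow m).mul (hgu.pow k)
      exact (Ideal.mul_unit_mem_iff_mem _ hu).mp h3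
    · rw [Ideal.map_le_iff_le_comap]
      intro b hb
      have hb0 : σ b = 0 := (RingHom.mem_ker).mp hb
      rw [Ideal.mem_comap, RingHom.mem_ker, hσ'B, hb0, map_zero]
  have hfg : (RingHom.ker σ').FG := by
    rw [hI']
    exact Ideal.FG.map (Algebra.FinitePresentation.ker_fG_of_surjective σ
      (fun x => ⟨algebraMap A B x, σ.commutes x⟩)) _
  obtain ⟨r, hr1, hr2⟩ := exists_mul_mem (θ.comp C) σ' hσθ n θ (fun _ => rfl) hunr hfg
  set a' : Fin n → A' := fun i => σ' (θ (X i)) with ha'
  have hY : ∀ y ∈ (xsList n a').map θ, y ∈ RingHom.ker σ' := by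
    intro y hy
    obtain ⟨p, hp, rfl⟩ := List.mem_map.mp hy
    obtain ⟨i, rfl⟩ := (List.mem_ofFn' _ _).mp hp
    rw [RingHom.mem_ker, map_sub, map_sub, hσθ, sub_self]
  -- `r` is not in the extension of `𝔭`
  have hdisj : Disjoint (Submonoid.powers g : Set B) (𝔭 : Set B) :=
    (Ideal.disjoint_powers_iff_notMem_of_isPrime _).mpr hg
  haveI h𝔭' : (𝔭.map (algebraMap B E')).IsPrime :=
    IsLocalization.isPrime_of_isPrime_disjoint (Submonoid.powers g) _ _ inferInstance hdisj
  have hr𝔭 : r ∉ 𝔭.map (algebraMap B E') := by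
    intro hr
    have h1 : r - 1 ∈ 𝔭.map (algebraMap B E') := by
      have := hr1
      rw [hI'] at this
      exact Ideal.map_mono h𝔭 this
    have h2 : (1 : E') ∈ 𝔭.map (algebraMap B E') := by
      have := Ideal.sub_mem _ hr h1
      rwa [sub_sub_cancel] at this
    exact h𝔭'.ne_top ((Ideal.eq_top_iff_one _).mpr h2)
  obtain ⟨⟨r₀, ⟨_, k, rfl⟩⟩, hrk⟩ := IsLocalization.surj (Submonoid.powers g) r
  have hrk' : r * algebraMap B E' (g ^ k) = algebraMap B E' r₀ := hrk
  have hr₀ : r₀ ∉ 𝔭 := by
    intro h0
    have h1 : algebraMap B E' r₀ ∈ 𝔭.map (algebraMap B E') := Ideal.mem_map_of_mem _ h0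
    rw [← hrk'] at h1
    rcases h𝔭'.mem_or_mem h1 with h2 | h2
    · exact hr𝔭 h2
    · exact h𝔭'.ne_top (Ideal.eq_top_of_isUnit_mem _ h2 (by rw [map_pow]; exact hgu.pow k))
  refine ⟨g * r₀, fun h0 => ((inferInstance : 𝔭.IsPrime).mem_or_mem h0).elim hg hr₀, ?_⟩
  intro T _ _ _
  have hgT : IsUnit (algebraMap B T g) :=
    IsLocalization.Away.isUnit_of_dvd (g * r₀) (dvd_mul_right g r₀)
  set lam : E' →+* T := IsLocalization.Away.lift g hgT with hlam
  have hlamB : ∀ b, lam (algebraMap B E' b) = algebraMap B T b := fun b =>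
    IsLocalization.Away.lift_eq g hgT b
  have hlamflat : lam.Flat :=
    Groth.Agent.H39.LCIComp.flat_of_away_dvd g (g * r₀) (dvd_mul_right g r₀) E' T lam hlamB
  have hru : IsUnit (lam r) := by
    have h1 : lam r * lam (algebraMap B E' (g ^ k)) = algebraMap B T r₀ := by
      rw [← map_mul, hrk', hlamB]
    have h2 : IsUnit (algebraMap B T r₀) :=
      IsLocalization.Away.isUnit_of_dvd (g * r₀) (dvd_mul_left r₀ g)
    rw [← h1] at h2
    exact isUnit_of_mul_isUnit_left h2
  obtain ⟨hw, hk, hgen⟩ := regular_generators σ' n θ hflat a' hY r hr2 lam hlamflat hru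
  refine ⟨_, hw, hk, ?_⟩
  rw [← hgen, hI', Ideal.map_map]
  congr 1
  ext b
  exact (hlamB b).symm

end Groth.Agent.H39.SmoothSection
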