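import Mathlib
import Groth.Agent.H39.SmoothSection
import Groth.Agent.H39.RegImmStalk3
import Groth.Prelude.Def_Mor2

set_option autoImplicit false
set_option linter.style.haveILetI false
universe u

open AlgebraicGeometry CategoryTheory CategoryTheory.Limits

namespace Groth.Agent.H39.SmoothSectionGeom

variable {X S : Scheme.{u}}

/-- membership in a basic open in terms of `primeIdealOf`. -/
theorem mem_basicOpen_iff_notMem_primeIdealOf {V : X.Opens} (hV : IsAffineOpen V) {η : X}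
    (hηV : η ∈ V) (g : Γ(X, V)) :
    η ∈ X.basicOpen g ↔ g ∉ (hV.primeIdealOf ⟨η, hηV⟩).asIdeal := by
  have h1 : hV.fromSpec (hV.primeIdealOf ⟨η, hηV⟩) = η := hV.fromSpec_primeIdealOf _
  have h2 := hV.fromSpec_preimage_basicOpen g
  constructor
  · intro h
    have : hV.primeIdealOf ⟨η, hηV⟩ ∈ hV.fromSpec ⁻¹ᵁ X.basicOpen g := by
      show hV.fromSpec (hV.primeIdealOf ⟨η, hηV⟩) ∈ X.basicOpen g
      rw [h1]; exact h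
    rw [h2] at this
    exact this
  · intro h
    have : hV.primeIdealOf ⟨η, hηV⟩ ∈ hV.fromSpec ⁻¹ᵁ X.basicOpen g := by
      rw [h2]; exact h
    have h3 : hV.fromSpec (hV.primeIdealOf ⟨η, hηV⟩) ∈ X.basicOpen g := this
    rwa [h1] at h3

/-- an affine chart around `σ z` stable under `σ ∘ f`. -/
theorem exists_stable_chart (f : X ⟶ S) (σ : S ⟶ X) (hσ : σ ≫ f = 𝟙 S) (z : S) :
    ∃ U₁ : X.Opens, IsAffineOpen U₁ ∧ σ z ∈ U₁ ∧ U₁ ≤ f ⁻¹ᵁ (σ ⁻¹ᵁ U₁) := by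
  have hfσ : ∀ s : S, f (σ s) = s := by
    intro s
    have := congrArg (fun φ : S ⟶ S => φ s) hσ
    simpa using this
  have hztop : z ∈ (⊤ : S.Opens) := trivial
  obtain ⟨V₀, hV₀, hzV₀, -⟩ :=
    (TopologicalSpace.Opens.isBasis_iff_nbhd.mp S.isBasis_affineOpens) hztop
  have hσz : σ z ∈ f ⁻¹ᵁ V₀ := by
    show f (σ z) ∈ V₀
    rw [hfσ]
    exact hzV₀
  obtain ⟨U₀, hU₀, hσzU₀, hU₀V₀⟩ :=
    (TopologicalSpace.Opens.isBasis_iff_nbhd.mp X.isBasis_affineOpens) hσz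
  have hzW : z ∈ σ ⁻¹ᵁ U₀ ⊓ V₀ := ⟨hσzU₀, hzV₀⟩
  obtain ⟨a, haW, hza⟩ := hV₀.exists_basicOpen_le ⟨z, hzW⟩ hzV₀
  refine ⟨X.basicOpen (f.appLE V₀ U₀ hU₀V₀ a), hU₀.basicOpen _, ?_, ?_⟩
  · rw [Scheme.basicOpen_appLE]
    refine ⟨hσzU₀, ?_⟩
    show f (σ z) ∈ S.basicOpen a
    rw [hfσ]
    exact hza
  · rw [Scheme.basicOpen_appLE]
    rintro x ⟨hx1, hx2⟩
    have hx2' : f x ∈ S.basicOpen a := hx2
    show σ (f x) ∈ U₀ ⊓ f ⁻¹ᵁ S.basicOpen a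
    refine ⟨(haW hx2').1, ?_⟩
    show f (σ (f x)) ∈ S.basicOpen a
    rw [hfσ]
    exact hx2'

theorem appLE_eq_id_of_eq_id (φ : S ⟶ S) (hφ : φ = 𝟙 S) (V : S.Opens) (e : V ≤ φ ⁻¹ᵁ V) :
    φ.appLE V V e = 𝟙 _ := by
  subst hφ
  simp only [Scheme.Hom.appLE, Scheme.Hom.id_app]
  exact S.presheaf.map_id _

/-- **Section of a smooth morphism**: around each point of the section there is an affine chart
on which the ideal of the section is generated by a (Koszul-)regular sequence. -/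
theorem exists_regular_chart_of_section (f : X ⟶ S) [Smooth f] (σ : S ⟶ X) (hσ : σ ≫ f = 𝟙 S)
    [IsClosedImmersion σ] (z : S) :
    ∃ (U : X.Opens) (hU : IsAffineOpen U), σ z ∈ U ∧ ∃ rs : List Γ(X, U),
      RingTheory.Sequence.IsWeaklyRegular Γ(X, U) rs ∧ LCI.IsKoszulRegularSeq Γ(X, U) rs ∧
      σ.ker.ideal ⟨U, hU⟩ = Ideal.ofList rs := by
  obtain ⟨U₁, hU₁, hzU₁, hle⟩ := exists_stable_chart f σ hσ z
  have hV' : IsAffineOpen (σ ⁻¹ᵁ U₁) := hU₁.preimage σ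
  -- the ring-level data
  set ι : Γ(S, σ ⁻¹ᵁ U₁) →+* Γ(X, U₁) := (f.appLE (σ ⁻¹ᵁ U₁) U₁ hle).hom with hι
  have hsm : ι.Smooth := HasRingHomProperty.appLE (P := @Smooth) f inferInstance
    ⟨σ ⁻¹ᵁ U₁, hV'⟩ ⟨U₁, hU₁⟩ hle
  have hretr : ∀ a, (σ.app U₁).hom (ι a) = a := by
    intro a
    have h1 : f.appLE (σ ⁻¹ᵁ U₁) U₁ hle ≫ σ.app U₁ = 𝟙 _ := by
      rw [Scheme.Hom.app_eq_appLE, Scheme.Hom.appLE_comp_appLE]
      exact appLE_eq_id_of_eq_id (σ ≫ f) hσ _ _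
    exact congrArg (fun φ => φ.hom a) h1
  letI := ι.toAlgebra
  haveI : Algebra.Smooth Γ(S, σ ⁻¹ᵁ U₁) Γ(X, U₁) := hsm
  haveI : Algebra.FinitePresentation Γ(S, σ ⁻¹ᵁ U₁) Γ(X, U₁) := inferInstance
  let σa : Γ(X, U₁) →ₐ[Γ(S, σ ⁻¹ᵁ U₁)] Γ(S, σ ⁻¹ᵁ U₁) :=
    { (σ.app U₁).hom with commutes' := hretr }
  set 𝔭 : Ideal Γ(X, U₁) := (hU₁.primeIdealOf ⟨σ z, hzU₁⟩).asIdeal with h𝔭
  have hker𝔭 : RingHom.ker σa.toRingHom ≤ 𝔭 :=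
    Groth.Agent.H39.RegImmStalk3.ker_app_le_primeIdealOf σ z U₁ hU₁ hzU₁ hV'
  haveI : Algebra.IsSmoothAt Γ(S, σ ⁻¹ᵁ U₁) 𝔭 := by
    have : (⟨𝔭, inferInstance⟩ : PrimeSpectrum Γ(X, U₁)) ∈
        Algebra.smoothLocus Γ(S, σ ⁻¹ᵁ U₁) Γ(X, U₁) := by
      rw [Algebra.smoothLocus_eq_univ]
      trivial
    exact this
  obtain ⟨h, hh𝔭, hT⟩ := Groth.Agent.H39.SmoothSection.exists_regular_generators_of_section
    Γ(S, σ ⁻¹ᵁ U₁) Γ(X, U₁) σa 𝔭 hker𝔭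
  haveI := hU₁.isLocalization_basicOpen h
  obtain ⟨rs, hw, hk, hgen⟩ := hT Γ(X, X.basicOpen h)
  refine ⟨X.basicOpen h, hU₁.basicOpen h,
    (mem_basicOpen_iff_notMem_primeIdealOf hU₁ hzU₁ h).mpr hh𝔭, rs, hw, hk, ?_⟩
  rw [← hgen]
  have h1 := σ.ker.map_ideal_basicOpen ⟨U₁, hU₁⟩ h
  have h2 : σ.ker.ideal ⟨U₁, hU₁⟩ = RingHom.ker σa.toRingHom := Scheme.Hom.ker_apply σ ⟨U₁, hU₁⟩
  rw [h2] at h1
  exact h1.symm

end Groth.Agent.H39.SmoothSectionGeom
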