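import Mathlib
import Groth.Agent.H39.SmoothSectionGeom
import Groth.Agent.H39.ImmCompChart
import Groth.Prelude.Def_RegImm

set_option autoImplicit false
set_option linter.style.haveILetI false
universe u

open AlgebraicGeometry CategoryTheory CategoryTheory.Limits

namespace Groth.Agent.H39.SmoothSectionImm

variable {X S : Scheme.{u}}

/-- an affine chart around `σ z` stable under `σ ∘ f`, inside a given open. -/
theorem exists_stable_chart_le (f : X ⟶ S) (σ : S ⟶ X) (hσ : σ ≫ f = 𝟙 S) (z : S)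
    (W : X.Opens) (hzW : σ z ∈ W) :
    ∃ U₁ : X.Opens, IsAffineOpen U₁ ∧ σ z ∈ U₁ ∧ U₁ ≤ W ∧ U₁ ≤ f ⁻¹ᵁ (σ ⁻¹ᵁ U₁) := by
  have hfσ : ∀ s : S, f (σ s) = s := by
    intro s
    have := congrArg (fun φ : S ⟶ S => φ s) hσ
    simpa using this
  have hztop : z ∈ (⊤ : S.Opens) := trivial
  obtain ⟨V₀, hV₀, hzV₀, -⟩ :=
    (TopologicalSpace.Opens.isBasis_iff_nbhd.mp S.isBasis_affineOpens) hztop
  have hσz : σ z ∈ f ⁻¹ᵁ V₀ ⊓ W := by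
    refine ⟨?_, hzW⟩
    show f (σ z) ∈ V₀
    rw [hfσ]
    exact hzV₀
  obtain ⟨U₀, hU₀, hσzU₀, hU₀VW⟩ :=
    (TopologicalSpace.Opens.isBasis_iff_nbhd.mp X.isBasis_affineOpens) hσz
  have hU₀V₀ : U₀ ≤ f ⁻¹ᵁ V₀ := hU₀VW.trans inf_le_left
  have hU₀W : U₀ ≤ W := hU₀VW.trans inf_le_right
  have hzW' : z ∈ σ ⁻¹ᵁ U₀ ⊓ V₀ := ⟨hσzU₀, hzV₀⟩
  obtain ⟨a, haW, hza⟩ := hV₀.exists_basicOpen_le ⟨z, hzW'⟩ hzV₀
  refine ⟨X.basicOpen (f.appLE V₀ U₀ hU₀V₀ a), hU₀.basicOpen _, ?_, ?_, ?_⟩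
  · rw [Scheme.basicOpen_appLE]
    refine ⟨hσzU₀, ?_⟩
    show f (σ z) ∈ S.basicOpen a
    rw [hfσ]
    exact hza
  · exact (X.basicOpen_le _).trans hU₀W
  · rw [Scheme.basicOpen_appLE]
    rintro x ⟨hx1, hx2⟩
    have hx2' : f x ∈ S.basicOpen a := hx2
    show σ (f x) ∈ U₀ ⊓ f ⁻¹ᵁ S.basicOpen a
    refine ⟨(haW hx2').1, ?_⟩
    show f (σ (f x)) ∈ S.basicOpen a
    rw [hfσ]
    exact hx2'

/-- **Section of a smooth morphism, immersion version**: a section of a smooth morphism which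
is an immersion is a Koszul-regular (indeed regular) immersion at each point. -/
theorem exists_regular_chart_of_section_immersion (f : X ⟶ S) [Smooth f] (σ : S ⟶ X)
    (hσ : σ ≫ f = 𝟙 S) [IsImmersion σ] (z : S) :
    ∃ U : X.affineOpens, σ z ∈ U.1 ∧ IsClosedImmersion (σ ∣_ U.1) ∧ ∃ rs : List Γ(X, U.1),
      RingTheory.Sequence.IsWeaklyRegular Γ(X, U.1) rs ∧ LCI.IsKoszulRegularSeq Γ(X, U.1) rs ∧
      RingHom.ker (σ.app U.1).hom = Ideal.ofList rs := by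
  have hzW : σ z ∈ σ.coborderRange := by
    apply subset_coborder
    exact ⟨z, rfl⟩
  obtain ⟨U₁, hU₁, hzU₁, hU₁W, hle⟩ := exists_stable_chart_le f σ hσ z σ.coborderRange hzW
  haveI hcl : IsClosedImmersion (σ ∣_ U₁) :=
    RegImmStalk3.isClosedImmersion_restrict_of_le_coborderRange σ U₁ hU₁W
  obtain ⟨hV', -⟩ :=
    RegImmStalk3.isAffineOpen_preimage_and_surjective_of_isClosedImmersion_restrict σ U₁ hU₁
  -- the ring-level data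
  set ι : Γ(S, σ ⁻¹ᵁ U₁) →+* Γ(X, U₁) := (f.appLE (σ ⁻¹ᵁ U₁) U₁ hle).hom with hι
  have hsm : ι.Smooth := HasRingHomProperty.appLE (P := @Smooth) f inferInstance
    ⟨σ ⁻¹ᵁ U₁, hV'⟩ ⟨U₁, hU₁⟩ hle
  have hretr : ∀ a, (σ.app U₁).hom (ι a) = a := by
    intro a
    have h1 : f.appLE (σ ⁻¹ᵁ U₁) U₁ hle ≫ σ.app U₁ = 𝟙 _ := by
      rw [Scheme.Hom.app_eq_appLE, Scheme.Hom.appLE_comp_appLE]
      exact SmoothSectionGeom.appLE_eq_id_of_eq_id (σ ≫ f) hσ _ _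
    exact congrArg (fun φ => φ.hom a) h1
  letI := ι.toAlgebra
  haveI : Algebra.Smooth Γ(S, σ ⁻¹ᵁ U₁) Γ(X, U₁) := hsm
  haveI : Algebra.FinitePresentation Γ(S, σ ⁻¹ᵁ U₁) Γ(X, U₁) := inferInstance
  let σa : Γ(X, U₁) →ₐ[Γ(S, σ ⁻¹ᵁ U₁)] Γ(S, σ ⁻¹ᵁ U₁) :=
    { (σ.app U₁).hom with commutes' := hretr }
  set 𝔭 : Ideal Γ(X, U₁) := (hU₁.primeIdealOf ⟨σ z, hzU₁⟩).asIdeal with h𝔭
  have hker𝔭 : RingHom.ker σa.toRingHom ≤ 𝔭 :=
    Groth.Agent.H39.RegImmStalk3.ker_app_le_primeIdealOf σ z U₁ hU₁ hzU₁ hV'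
  haveI : Algebra.IsSmoothAt Γ(S, σ ⁻¹ᵁ U₁) 𝔭 := by
    have : (⟨𝔭, inferInstance⟩ : PrimeSpectrum Γ(X, U₁)) ∈
        Algebra.smoothLocus Γ(S, σ ⁻¹ᵁ U₁) Γ(X, U₁) := by
      rw [Algebra.smoothLocus_eq_univ]
      trivial
    exact this
  obtain ⟨h, hh𝔭, hT⟩ := Groth.Agent.H39.SmoothSection.exists_regular_generators_of_section
    Γ(S, σ ⁻¹ᵁ U₁) Γ(X, U₁) σa 𝔭 hker𝔭
  haveI := hU₁.isLocalization_basicOpen h
  obtain ⟨rs, hw, hk, hgen⟩ := hT Γ(X, X.basicOpen h)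
  have hle' : X.basicOpen h ≤ U₁ := X.basicOpen_le h
  refine ⟨⟨X.basicOpen h, hU₁.basicOpen h⟩,
    (SmoothSectionGeom.mem_basicOpen_iff_notMem_primeIdealOf hU₁ hzU₁ h).mpr hh𝔭,
    ImmCompChart.isClosedImmersion_restrict_of_le σ hle', rs, hw, hk, ?_⟩
  rw [← hgen]
  exact ImmCompChart.ker_app_of_le σ hle' hU₁ (hU₁.basicOpen h)

end Groth.Agent.H39.SmoothSectionImm
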