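import Mathlib
import Groth.Agent.H39.SmoothSectionImm
import Groth.Agent.H39.KoszulImmComp
import Groth.Agent.H39.KoszulFlatBC

set_option autoImplicit false
set_option linter.style.haveILetI false
universe u

open AlgebraicGeometry CategoryTheory CategoryTheory.Limits

namespace Groth.Agent.H39.SmoothFactor

/-- a section of a smooth morphism which is an immersion is a Koszul-regular immersion. -/
theorem isRegularImmersion_koszul_of_section {X S : Scheme.{u}} (f : X ⟶ S) [Smooth f]
    (σ : S ⟶ X) (hσ : σ ≫ f = 𝟙 S) [IsImmersion σ] :
    RegImm.IsRegularImmersion .koszul σ := by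
  refine ⟨inferInstance, fun z => ?_⟩
  obtain ⟨U, hzU, hcl, rs, -, hk, hker⟩ :=
    SmoothSectionImm.exists_regular_chart_of_section_immersion f σ hσ z
  exact ⟨U, hzU, hcl, rs, hk, hker⟩

/-- forward direction: if `i = j ≫ p` with `p` smooth and `i` is a Koszul-regular immersion,
then so is the immersion `j`. -/
theorem koszul_of_comp_smooth {X V V' : Scheme.{u}} (i : X ⟶ V) (j : X ⟶ V') [IsImmersion j]
    (p : V' ⟶ V) [Smooth p] (h : j ≫ p = i) (hi : RegImm.IsRegularImmersion .koszul i) :
    RegImm.IsRegularImmersion .koszul j := by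
  have : Flat p := inferInstance
  have hq : RegImm.IsRegularImmersion .koszul (pullback.snd i p) :=
    KoszulFlatBC.koszulRegularImmersion_baseChange_flat i p (pullback.snd i p)
      (pullback.fst i p) (IsPullback.of_hasPullback i p) hi
  haveI : IsImmersion (pullback.snd i p) := hq.1
  let s : X ⟶ pullback i p := pullback.lift (𝟙 X) j (by rw [h]; simp)
  have hs1 : s ≫ pullback.fst i p = 𝟙 X := pullback.lift_fst _ _ _
  have hs2 : s ≫ pullback.snd i p = j := pullback.lift_snd _ _ _
  haveI : IsImmersion (s ≫ pullback.snd i p) := by rw [hs2]; infer_instance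
  haveI : IsImmersion s := IsImmersion.of_comp s (pullback.snd i p)
  haveI : Smooth (pullback.fst i p) := inferInstance
  have hs : RegImm.IsRegularImmersion .koszul s :=
    isRegularImmersion_koszul_of_section (pullback.fst i p) s hs1
  have := KoszulImmComp.koszulRegularImmersion_comp (pullback.snd i p) s hq hs
  rwa [hs2] at this

end Groth.Agent.H39.SmoothFactor
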