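import Mathlib
import Groth.Agent.H39.LCIComp

set_option autoImplicit false
set_option linter.style.haveILetI false
universe u

open Groth.Agent.H39.KoszulLCILocal Groth.Agent.H39.LCIComp

namespace Groth.Agent.H39.LCIMor

/-- a ring map is a local complete intersection homomorphism. -/
def IsLCIHom {A B : Type u} [CommRing A] [CommRing B] (φ : A →+* B) : Prop :=
  letI := φ.toAlgebra
  LCI.IsLCI A B

theorem isLCI_of_algEquiv {A B B' : Type u} [CommRing A] [CommRing B] [CommRing B']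
    [Algebra A B] [Algebra A B'] (e : B ≃ₐ[A] B') (h : LCI.IsLCI A B) : LCI.IsLCI A B' := by
  obtain ⟨hft, n, f, hf, hK⟩ := h
  refine ⟨Algebra.FiniteType.equiv hft e, n, e.toAlgHom.comp f, e.surjective.comp hf, ?_⟩
  have : RingHom.ker (e.toAlgHom.comp f).toRingHom = RingHom.ker f.toRingHom := by
    ext x
    simp only [RingHom.mem_ker]
    show e (f x) = 0 ↔ f x = 0
    exact EmbeddingLike.map_eq_zero_iff
  rw [this]
  exact hK

theorem isLCI_congr {A B : Type u} [CommRing A] [CommRing B] (i1 i2 : Algebra A B)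
    (h : ∀ r, @algebraMap A B _ _ i1 r = @algebraMap A B _ _ i2 r)
    (hl : @LCI.IsLCI A _ B _ i1) : @LCI.IsLCI A _ B _ i2 := by
  let e : @AlgEquiv A B B _ _ _ i1 i2 :=
    @AlgEquiv.mk A B B _ _ _ i1 i2 (RingEquiv.refl B).toEquiv (fun _ _ => rfl) (fun _ _ => rfl) h
  exact @isLCI_of_algEquiv A B B _ _ _ i1 i2 e hl

theorem isLCIHom_iff_of_algebraMap_eq {A B : Type u} [CommRing A] [CommRing B] [i1 : Algebra A B]
    (φ : A →+* B) (hφ : algebraMap A B = φ) : LCI.IsLCI A B ↔ IsLCIHom φ := by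
  unfold IsLCIHom
  constructor
  · exact isLCI_congr i1 φ.toAlgebra (fun r => by rw [hφ]; rfl)
  · exact isLCI_congr φ.toAlgebra i1 (fun r => by rw [hφ]; rfl)

theorem isLCIHom_comp {A B D : Type u} [CommRing A] [CommRing B] [CommRing D] (φ : A →+* B)
    (ψ : B →+* D) (hφ : IsLCIHom φ) (hψ : IsLCIHom ψ) : IsLCIHom (ψ.comp φ) := by
  unfold IsLCIHom at *
  letI := φ.toAlgebra
  letI := ψ.toAlgebra
  letI := (ψ.comp φ).toAlgebra
  haveI : IsScalarTower A B D := IsScalarTower.of_algebraMap_eq (fun x => rfl)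
  exact isLCI_trans A B D hφ hψ

theorem isLCIHom_ringEquiv_comp {A B B' : Type u} [CommRing A] [CommRing B] [CommRing B']
    (φ : A →+* B) (e : B ≃+* B') (hφ : IsLCIHom φ) : IsLCIHom (e.toRingHom.comp φ) := by
  unfold IsLCIHom at *
  letI := φ.toAlgebra
  letI := (e.toRingHom.comp φ).toAlgebra
  let e' : B ≃ₐ[A] B' := { e with commutes' := fun r => rfl }
  exact isLCI_of_algEquiv e' hφ

/-- set version of `isLCI_of_localizations_span_eq_top` -/
theorem isLCI_of_span_eq_top (R S : Type u) [CommRing R] [CommRing S] [Algebra R S] (s : Set S)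
    (hs : Ideal.span s = ⊤) (h : ∀ r ∈ s, LCI.IsLCI R (Localization.Away r)) : LCI.IsLCI R S := by
  obtain ⟨s', hs's, hs'⟩ := (Ideal.span_eq_top_iff_finite s).mp hs
  refine isLCI_of_localizations_span_eq_top R S s'.card
    (fun i => ((s'.equivFin.symm i : s') : S)) ?_ (fun j => h _ (hs's (s'.equivFin.symm j).2))
  rw [← hs']
  congr 1
  ext x
  constructor
  · rintro ⟨i, rfl⟩
    exact (s'.equivFin.symm i).2
  · intro hx
    exact ⟨s'.equivFin ⟨x, hx⟩, by simp⟩

theorem isLCIHom_of_span {A B : Type u} [CommRing A] [CommRing B] (φ : A →+* B) (s : Set B)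
    (hs : Ideal.span s = ⊤)
    (h : ∀ r ∈ s, IsLCIHom ((algebraMap B (Localization.Away r)).comp φ)) : IsLCIHom φ := by
  unfold IsLCIHom
  letI := φ.toAlgebra
  refine isLCI_of_span_eq_top A B s hs (fun r hr => ?_)
  rw [isLCIHom_iff_of_algebraMap_eq ((algebraMap B (Localization.Away r)).comp φ)]
  · exact h r hr
  · exact IsScalarTower.algebraMap_eq A B (Localization.Away r)

end Groth.Agent.H39.LCIMor
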