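import Mathlib
import Groth.Agent.H39.LCIMor
import Groth.Agent.H39.KoszulLCILocal
import Groth.Agent.H39.KoszulPresMain
import Groth.Agent.H39.KoszulFlatBC

set_option autoImplicit false
set_option linter.style.haveILetI false
universe u

open Groth.Agent.H39.LCIMor Groth.Agent.H39.KoszulPres Groth.Agent.H39.KoszulPresMain
  Groth.Agent.H39.KoszulLCILocal

namespace Groth.Agent.H39.LCISmooth

variable {R : Type u} [CommRing R]

/-- the empty sequence is Koszul-regular. -/
theorem isKoszulRegularSeq_nil : LCI.IsKoszulRegularSeq R [] := fun i hi =>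
  Groth.Agent.H79.KoszulCone.isZero_homology_of_isWeaklyRegular []
    (RingTheory.Sequence.IsWeaklyRegular.nil _ _) i hi

/-- an ideal generated by a Koszul-regular sequence is a Koszul-regular ideal. -/
theorem isKoszulRegularIdeal_ofList (l : List R) (hl : LCI.IsKoszulRegularSeq R l) :
    LCI.IsKoszulRegularIdeal (Ideal.ofList l) := by
  intro 𝔭 _
  refine ⟨1, fun h => 𝔭.isPrime.ne_top ((Ideal.eq_top_iff_one _).mpr h),
    l.map (algebraMap R (Localization.Away (1 : R))), ?_, ?_⟩
  · refine KoszulFlatBC.isKoszulRegularSeq_map_of_flat _ ?_ l hl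
    rw [RingHom.flat_algebraMap_iff]
    exact IsLocalization.flat _ (Submonoid.powers (1 : R))
  · exact Ideal.map_ofList _ l

theorem isKoszulRegularIdeal_bot : LCI.IsKoszulRegularIdeal (⊥ : Ideal R) := by
  have := isKoszulRegularIdeal_ofList ([] : List R) isKoszulRegularSeq_nil
  rwa [Ideal.ofList_nil] at this

theorem isKoszulRegularIdeal_span_singleton (f : R) (hf : IsSMulRegular R f) :
    LCI.IsKoszulRegularIdeal (Ideal.span {f}) := by
  have := isKoszulRegularIdeal_ofList [f] (isKoszulRegularSeq_singleton f hf)
  rwa [Ideal.ofList_singleton] at this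

/-- a surjective ring map with Koszul-regular kernel is a local complete intersection map. -/
theorem isLCIHom_of_surjective {A B : Type u} [CommRing A] [CommRing B] (φ : A →+* B)
    (hφ : Function.Surjective φ) (hK : LCI.IsKoszulRegularIdeal (RingHom.ker φ)) :
    IsLCIHom φ := by
  unfold IsLCIHom
  letI := φ.toAlgebra
  have hft : Algebra.FiniteType A B := Algebra.FiniteType.of_surjective (Algebra.ofId A B) hφ
  let e : MvPolynomial (Fin 0) A ≃ₐ[A] A := MvPolynomial.isEmptyAlgEquiv A (Fin 0)
  refine ⟨hft, 0, (Algebra.ofId A B).comp e.toAlgHom, hφ.comp e.surjective, ?_⟩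
  have h1 : RingHom.ker ((Algebra.ofId A B).comp e.toAlgHom).toRingHom =
      (RingHom.ker φ).map e.symm.toRingEquiv.toRingHom := by
    ext x
    rw [RingHom.mem_ker]
    constructor
    · intro hx
      have hx' : φ (e x) = 0 := hx
      have : x = e.symm.toRingEquiv.toRingHom (e x) := (e.symm_apply_apply x).symm
      rw [this]
      exact Ideal.mem_map_of_mem _ ((RingHom.mem_ker).mpr hx')
    · intro hx
      have hle : (RingHom.ker φ).map e.symm.toRingEquiv.toRingHom ≤
          RingHom.ker ((Algebra.ofId A B).comp e.toAlgHom).toRingHom := by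
        rw [Ideal.map_le_iff_le_comap]
        intro a ha
        rw [Ideal.mem_comap, RingHom.mem_ker]
        show φ (e (e.symm a)) = 0
        rw [e.apply_symm_apply]
        exact (RingHom.mem_ker).mp ha
      exact (RingHom.mem_ker).mp (hle hx)
  rw [h1]
  exact isKoszulRegularIdeal_map_ringEquiv e.symm.toRingEquiv _ hK

/-- conversely, if a surjective ring map is a local complete intersection map, then its kernel
is a Koszul-regular ideal. -/
theorem isKoszulRegularIdeal_ker_of_isLCIHom {A B : Type u} [CommRing A] [CommRing B]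
    (φ : A →+* B) (hφ : Function.Surjective φ) (h : IsLCIHom φ) :
    LCI.IsKoszulRegularIdeal (RingHom.ker φ) := by
  unfold IsLCIHom at h
  letI := φ.toAlgebra
  obtain ⟨-, n, α, hα, hKα⟩ := h
  let e : MvPolynomial (Fin 0) A ≃ₐ[A] A := MvPolynomial.isEmptyAlgEquiv A (Fin 0)
  have hβ : Function.Surjective ((Algebra.ofId A B).comp e.toAlgHom) := hφ.comp e.surjective
  have hKβ := isKoszulRegularIdeal_ker_of_other_presentation A B n 0 α hα
    ((Algebra.ofId A B).comp e.toAlgHom) hβ hKα
  have h1 : RingHom.ker φ =
      (RingHom.ker ((Algebra.ofId A B).comp e.toAlgHom).toRingHom).map e.toRingEquiv.toRingHom := by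
    ext a
    rw [RingHom.mem_ker]
    constructor
    · intro ha
      have : a = e.toRingEquiv.toRingHom (e.symm a) := (e.apply_symm_apply a).symm
      rw [this]
      refine Ideal.mem_map_of_mem _ ?_
      rw [RingHom.mem_ker]
      show φ (e (e.symm a)) = 0
      rw [e.apply_symm_apply]
      exact ha
    · intro ha
      have hle : (RingHom.ker ((Algebra.ofId A B).comp e.toAlgHom).toRingHom).map
          e.toRingEquiv.toRingHom ≤ RingHom.ker φ := by
        rw [Ideal.map_le_iff_le_comap]
        intro x hx
        rw [Ideal.mem_comap, RingHom.mem_ker]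
        exact (RingHom.mem_ker).mp hx
      exact (RingHom.mem_ker).mp (hle ha)
  rw [h1]
  exact isKoszulRegularIdeal_map_ringEquiv e.toRingEquiv _ hKβ

end Groth.Agent.H39.LCISmooth
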