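import Mathlib
import Groth.Agent.H39.LCISmooth

set_option autoImplicit false
set_option linter.style.haveILetI false
universe u

open Groth.Agent.H39.LCIMor Groth.Agent.H39.KoszulPres Groth.Agent.H39.KoszulPresMain
  Groth.Agent.H39.KoszulLCILocal Groth.Agent.H39.LCISmooth Groth.Agent.H39.LCIComp

namespace Groth.Agent.H39.LCISmooth2

variable {R : Type u} [CommRing R]

/-- kernel of a ring map precomposed with a ring isomorphism. -/
theorem ker_comp_ringEquiv {S T B : Type u} [CommRing S] [CommRing T] [CommRing B]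
    (α : T →+* B) (e : S ≃+* T) :
    RingHom.ker (α.comp e.toRingHom) = (RingHom.ker α).map e.symm.toRingHom := by
  ext x
  rw [RingHom.mem_ker]
  constructor
  · intro hx
    have hx' : α (e x) = 0 := hx
    have : x = e.symm.toRingHom (e x) := (e.symm_apply_apply x).symm
    rw [this]
    exact Ideal.mem_map_of_mem _ ((RingHom.mem_ker).mpr hx')
  · intro hx
    have hle : (RingHom.ker α).map e.symm.toRingHom ≤ RingHom.ker (α.comp e.toRingHom) := by
      rw [Ideal.map_le_iff_le_comap]
      intro a ha
      rw [Ideal.mem_comap, RingHom.mem_ker]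
      show α (e (e.symm a)) = 0
      rw [e.apply_symm_apply]
      exact (RingHom.mem_ker).mp ha
    exact (RingHom.mem_ker).mp (hle hx)

theorem isLCI_mvPolynomial (n : ℕ) : LCI.IsLCI R (MvPolynomial (Fin n) R) := by
  refine ⟨inferInstance, n, AlgHom.id R _, Function.surjective_id, ?_⟩
  have : RingHom.ker (AlgHom.id R (MvPolynomial (Fin n) R)).toRingHom = ⊥ := by
    ext x
    rw [RingHom.mem_ker]
    rfl
  rw [this]
  exact isKoszulRegularIdeal_bot

theorem isLCI_polynomial : LCI.IsLCI R (Polynomial R) := by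
  let e : MvPolynomial (Fin 1) R ≃ₐ[R] Polynomial R :=
    MvPolynomial.uniqueAlgEquiv R (Fin 1)
  exact isLCI_of_algEquiv e (isLCI_mvPolynomial 1)

theorem isLCI_localizationAway (G : R) : LCI.IsLCI R (Localization.Away G) := by
  have hft : Algebra.FiniteType R (Localization.Away G) :=
    IsLocalization.finiteType_of_monoid_fg (Submonoid.powers G) _
  let e : MvPolynomial (Fin 1) R ≃ₐ[R] MvPolynomial Unit R :=
    MvPolynomial.renameEquiv R finOneEquiv
  refine ⟨hft, 1, (awayPres G).comp e.toAlgHom, (awayPres_surjective G).comp e.surjective, ?_⟩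
  have h1 : RingHom.ker ((awayPres G).comp e.toAlgHom).toRingHom =
      (RingHom.ker (awayPres G).toRingHom).map e.toRingEquiv.symm.toRingHom :=
    ker_comp_ringEquiv (awayPres G).toRingHom e.toRingEquiv
  rw [h1]
  refine isKoszulRegularIdeal_map_ringEquiv e.toRingEquiv.symm _ ?_
  rw [ker_awayPres]
  exact isKoszulRegularIdeal_ofList _
    (isKoszulRegularSeq_singleton _ (isSMulRegular_CX_sub_one G))

theorem isLCI_of_isLocalizationAway (G : R) (T : Type u) [CommRing T] [Algebra R T]
    [IsLocalization.Away G T] : LCI.IsLCI R T :=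
  isLCI_of_algEquiv (IsLocalization.algEquiv (Submonoid.powers G) (Localization.Away G) T)
    (isLCI_localizationAway G)

open Polynomial in
theorem isLCIHom_adjoinRoot_mk (f : R[X]) (hf : f.Monic) : IsLCIHom (AdjoinRoot.mk f) := by
  refine isLCIHom_of_surjective (AdjoinRoot.mk f) AdjoinRoot.mk_surjective ?_
  have : RingHom.ker (AdjoinRoot.mk f) = Ideal.span {f} := Ideal.mk_ker
  rw [this]
  exact isKoszulRegularIdeal_span_singleton f hf.isRegular.left.isSMulRegular

theorem isLCI_standardEtalePair (P : StandardEtalePair R) : LCI.IsLCI R P.Ring := by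
  have hC : IsLCIHom (Polynomial.C : R →+* Polynomial R) :=
    (isLCIHom_iff_of_algebraMap_eq Polynomial.C Polynomial.algebraMap_eq).mp isLCI_polynomial
  have h1 : IsLCIHom ((AdjoinRoot.mk P.f).comp Polynomial.C) :=
    isLCIHom_comp _ _ hC (isLCIHom_adjoinRoot_mk P.f P.monic_f)
  have h3 : IsLCIHom (algebraMap (AdjoinRoot P.f) (Localization.Away (AdjoinRoot.mk P.f P.g))) :=
    (isLCIHom_iff_of_algebraMap_eq _ rfl).mp (isLCI_localizationAway _)
  have h2 := isLCIHom_comp _ _ h1 h3
  have h4 : LCI.IsLCI R (Localization.Away (AdjoinRoot.mk P.f P.g)) := by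
    refine (isLCIHom_iff_of_algebraMap_eq _ ?_).mpr h2
    rw [IsScalarTower.algebraMap_eq R (AdjoinRoot P.f) (Localization.Away (AdjoinRoot.mk P.f P.g))]
    rfl
  exact isLCI_of_algEquiv P.equivAwayAdjoinRoot.symm h4

theorem isLCI_of_isStandardEtale (S : Type u) [CommRing S] [Algebra R S]
    [Algebra.IsStandardEtale R S] : LCI.IsLCI R S := by
  obtain ⟨P⟩ := Algebra.IsStandardEtale.nonempty_standardEtalePresentation (R := R) (S := S)
  exact isLCI_of_algEquiv P.equivRing.symm (isLCI_standardEtalePair P.P)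

/-- **smooth ring maps are local complete intersection maps.** -/
theorem isLCI_of_smooth (A B : Type u) [CommRing A] [CommRing B] [Algebra A B]
    [Algebra.Smooth A B] : LCI.IsLCI A B := by
  haveI : Algebra.FinitePresentation A B := inferInstance
  let s : Set B := {f | LCI.IsLCI A (Localization.Away f)}
  refine isLCI_of_span_eq_top A B s ?_ (fun r hr => hr)
  by_contra hne
  obtain ⟨m, hm, hsm⟩ := Ideal.exists_le_maximal _ hne
  haveI : m.IsPrime := hm.isPrime
  haveI : Algebra.IsSmoothAt A m := by
    have : (⟨m, inferInstance⟩ : PrimeSpectrum B) ∈ Algebra.smoothLocus A B := by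
      rw [Algebra.smoothLocus_eq_univ]
      trivial
    exact this
  obtain ⟨f, hf, n, alg, tower, hse⟩ :=
    Algebra.IsSmoothAt.exists_isStandardEtale_mvPolynomial (R := A) (p := m)
  have h1 : LCI.IsLCI (MvPolynomial (Fin n) A) (Localization.Away f) :=
    isLCI_of_isStandardEtale _
  have h2 : LCI.IsLCI A (Localization.Away f) :=
    isLCI_trans A (MvPolynomial (Fin n) A) _ (isLCI_mvPolynomial n) h1
  exact hf (hsm (Ideal.subset_span h2))

theorem isLCIHom_of_smooth {A B : Type u} [CommRing A] [CommRing B] (φ : A →+* B)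
    (hφ : φ.Smooth) : IsLCIHom φ := by
  unfold IsLCIHom
  letI := φ.toAlgebra
  haveI : Algebra.Smooth A B := hφ
  exact isLCI_of_smooth A B

end Groth.Agent.H39.LCISmooth2
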