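import Mathlib
import Groth.Agent.H39.LCISmooth2
import Groth.Agent.H39.ImmCompChart
import Groth.Agent.H39.SmoothSectionGeom
import Groth.Prelude.Def_RegImm

set_option autoImplicit false
set_option linter.style.haveILetI false
universe u

open AlgebraicGeometry CategoryTheory CategoryTheory.Limits
open Groth.Agent.H39.LCIMor Groth.Agent.H39.LCISmooth Groth.Agent.H39.LCISmooth2
  Groth.Agent.H39.KoszulPres

namespace Groth.Agent.H39.SmoothFactorBwd

/-- ring-level statement: if `A → B` is smooth, `π : B → D` has Koszul-regular kernel and `A → D` is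
surjective, then the kernel of `A → D` is a Koszul-regular ideal. -/
theorem isKoszulRegularIdeal_ker_comp_of_smooth {A B D : Type u} [CommRing A] [CommRing B]
    [CommRing D] (φ : A →+* B) (hφ : φ.Smooth) (π : B →+* D)
    (hπφ : Function.Surjective (π.comp φ)) (hK : LCI.IsKoszulRegularIdeal (RingHom.ker π)) :
    LCI.IsKoszulRegularIdeal (RingHom.ker (π.comp φ)) := by
  have hπ : Function.Surjective π := fun d => by
    obtain ⟨a, ha⟩ := hπφ d
    exact ⟨φ a, ha⟩
  exact isKoszulRegularIdeal_ker_of_isLCIHom _ hπφ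
    (isLCIHom_comp φ π (isLCIHom_of_smooth φ hφ) (isLCIHom_of_surjective π hπ hK))

variable {X Z : Scheme.{u}}

/-- If the kernel on an affine chart (over which `i` is a closed immersion) is a Koszul-regular
ideal, then `i` is a Koszul-regular immersion at the points of the chart. -/
theorem isRegularImmersionAt_koszul_of_isKoszulRegularIdeal (i : Z ⟶ X) (z : Z) (U : X.Opens)
    (hU : IsAffineOpen U) (hzU : i z ∈ U) [IsClosedImmersion (i ∣_ U)]
    (hK : LCI.IsKoszulRegularIdeal (RingHom.ker (i.app U).hom)) :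
    RegImm.IsRegularImmersionAt .koszul i z := by
  obtain ⟨hU', -⟩ :=
    RegImmStalk3.isAffineOpen_preimage_and_surjective_of_isClosedImmersion_restrict i U hU
  have hle := RegImmStalk3.ker_app_le_primeIdealOf i z U hU hzU hU'
  obtain ⟨g, hg, l, hl, hIl⟩ := hK (hU.primeIdealOf ⟨i z, hzU⟩) hle
  haveI := hU.isLocalization_basicOpen g
  let e : Localization.Away g ≃ₐ[Γ(X, U)] Γ(X, X.basicOpen g) :=
    IsLocalization.algEquiv (Submonoid.powers g) _ _
  have hle' : X.basicOpen g ≤ U := X.basicOpen_le g
  refine ⟨⟨X.basicOpen g, hU.basicOpen g⟩,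
    (SmoothSectionGeom.mem_basicOpen_iff_notMem_primeIdealOf hU hzU g).mpr hg,
    ImmCompChart.isClosedImmersion_restrict_of_le i hle', l.map e.toRingEquiv.toRingHom,
    isKoszulRegularSeq_map_of_bijective _ e.bijective l hl, ?_⟩
  rw [ImmCompChart.ker_app_of_le i hle' hU (hU.basicOpen g)]
  have h1 : (RingHom.ker (i.app U).hom).map (X.presheaf.map (homOfLE hle').op).hom =
      ((RingHom.ker (i.app U).hom).map (algebraMap Γ(X, U) (Localization.Away g))).map
        e.toRingEquiv.toRingHom := by
    rw [Ideal.map_map]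
    congr 1
    ext x
    exact (e.commutes x).symm
  rw [h1, hIl]
  exact Ideal.map_ofList _ l

theorem ker_appLE_of_eq {X Y : Scheme.{u}} (f : X ⟶ Y) (U : Y.Opens) (W : X.Opens)
    (hW : W = f ⁻¹ᵁ U) :
    RingHom.ker (f.appLE U W hW.le).hom = RingHom.ker (f.app U).hom := by
  subst hW
  rw [Scheme.Hom.appLE_eq_app]

end Groth.Agent.H39.SmoothFactorBwd
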