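import Mathlib
import Groth.Agent.H39.SmoothFactorBwd
import Groth.Agent.H39.KoszulFlatBC

set_option autoImplicit false
set_option linter.style.haveILetI false
universe u

open AlgebraicGeometry CategoryTheory CategoryTheory.Limits
open Groth.Agent.H39.LCIMor Groth.Agent.H39.LCISmooth Groth.Agent.H39.LCISmooth2
  Groth.Agent.H39.KoszulPres Groth.Agent.H39.SmoothFactorBwd

namespace Groth.Agent.H39.SmoothFactorBwd2

/-- backward direction: if `i = j ≫ p` is an immersion with `p` smooth and `j` a Koszul-regular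
immersion, then `i` is a Koszul-regular immersion. -/
theorem koszul_comp_smooth {X V V' : Scheme.{u}} (i : X ⟶ V) [IsImmersion i] (j : X ⟶ V')
    (p : V' ⟶ V) [Smooth p] (h : j ≫ p = i) (hj : RegImm.IsRegularImmersion .koszul j) :
    RegImm.IsRegularImmersion .koszul i := by
  subst h
  refine ⟨inferInstance, fun x => ?_⟩
  obtain ⟨U', hxU', hcl', rs, hrs, hker'⟩ := hj.2 x
  haveI := hcl'
  have hpj : ∀ y, (j ≫ p) y = p (j y) := fun y => by simp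
  -- the chart `U₀` downstairs
  have hx0 : (j ≫ p) x ∈ (j ≫ p).coborderRange := subset_coborder ⟨x, rfl⟩
  obtain ⟨U₀, hU₀, hxU₀, hU₀le⟩ :=
    (TopologicalSpace.Opens.isBasis_iff_nbhd.mp V.isBasis_affineOpens) hx0
  haveI hcl₀ : IsClosedImmersion ((j ≫ p) ∣_ U₀) :=
    RegImmStalk3.isClosedImmersion_restrict_of_le_coborderRange (j ≫ p) U₀ hU₀le
  -- the chart `U'₁` upstairs
  have hx1 : j x ∈ U'.1 ⊓ p ⁻¹ᵁ U₀ := ⟨hxU', by
    show p (j x) ∈ U₀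
    rw [← hpj]; exact hxU₀⟩
  obtain ⟨U'₁, hU'₁, hxU'₁, hU'₁le⟩ :=
    (TopologicalSpace.Opens.isBasis_iff_nbhd.mp V'.isBasis_affineOpens) hx1
  have hU'₁U' : U'₁ ≤ U'.1 := hU'₁le.trans inf_le_left
  have hU'₁U₀ : U'₁ ≤ p ⁻¹ᵁ U₀ := hU'₁le.trans inf_le_right
  -- shrink downstairs
  obtain ⟨a, hxa, hale⟩ := ImmCompChart.exists_chart_comp (j ≫ p) (𝟙 X) x U₀ hU₀
    (by simpa using hxU₀) (j ⁻¹ᵁ U'₁) (by simpa using hxU'₁)
  have hxa' : (j ≫ p) x ∈ V.basicOpen a := by simpa using hxa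
  have hU : IsAffineOpen (V.basicOpen a) := hU₀.basicOpen a
  have hUU₀ : V.basicOpen a ≤ U₀ := V.basicOpen_le a
  have hU'₂ : IsAffineOpen (V'.basicOpen ((p.appLE U₀ U'₁ hU'₁U₀).hom a)) := hU'₁.basicOpen _
  have hU'₂eq : V'.basicOpen ((p.appLE U₀ U'₁ hU'₁U₀).hom a) = U'₁ ⊓ p ⁻¹ᵁ (V.basicOpen a) :=
    Scheme.basicOpen_appLE p U'₁ U₀ hU'₁U₀ a
  have hU'₂U : V'.basicOpen ((p.appLE U₀ U'₁ hU'₁U₀).hom a) ≤ p ⁻¹ᵁ (V.basicOpen a) :=
    hU'₂eq.le.trans inf_le_right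
  have hU'₂U' : V'.basicOpen ((p.appLE U₀ U'₁ hU'₁U₀).hom a) ≤ U'.1 :=
    (V'.basicOpen_le _).trans hU'₁U'
  have hpre : (j ≫ p) ⁻¹ᵁ (V.basicOpen a) =
      j ⁻¹ᵁ (V'.basicOpen ((p.appLE U₀ U'₁ hU'₁U₀).hom a)) := by
    rw [hU'₂eq]
    ext y
    constructor
    · intro hy
      exact ⟨hale hy, hy⟩
    · rintro ⟨_, hy2⟩
      exact hy2
  -- ring maps
  have hsm : (p.appLE (V.basicOpen a) _ hU'₂U).hom.Smooth :=
    HasRingHomProperty.appLE (P := @Smooth) p inferInstance ⟨V.basicOpen a, hU⟩ ⟨_, hU'₂⟩ hU'₂U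
  have hcomp : (j.appLE _ ((j ≫ p) ⁻¹ᵁ (V.basicOpen a)) hpre.le).hom.comp
      (p.appLE (V.basicOpen a) _ hU'₂U).hom = ((j ≫ p).app (V.basicOpen a)).hom := by
    have h1 := Scheme.Hom.appLE_comp_appLE j p (V.basicOpen a) _
      ((j ≫ p) ⁻¹ᵁ (V.basicOpen a)) hU'₂U hpre.le
    rw [Scheme.Hom.appLE_eq_app] at h1
    rw [← h1]
    rfl
  haveI : IsClosedImmersion ((j ≫ p) ∣_ (V.basicOpen a)) :=
    ImmCompChart.isClosedImmersion_restrict_of_le (j ≫ p) hUU₀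
  obtain ⟨-, hsurj⟩ :=
    RegImmStalk3.isAffineOpen_preimage_and_surjective_of_isClosedImmersion_restrict (j ≫ p)
      (V.basicOpen a) hU
  have hkerπ : RingHom.ker (j.appLE _ ((j ≫ p) ⁻¹ᵁ (V.basicOpen a)) hpre.le).hom =
      Ideal.ofList (rs.map (V'.presheaf.map (homOfLE hU'₂U').op).hom) := by
    rw [ker_appLE_of_eq j _ _ hpre, ImmCompChart.ker_app_of_le j hU'₂U' U'.2 hU'₂, hker',
      Ideal.map_ofList]
  have hK := isKoszulRegularIdeal_ker_comp_of_smooth _ hsm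
    (j.appLE _ ((j ≫ p) ⁻¹ᵁ (V.basicOpen a)) hpre.le).hom (by rw [hcomp]; exact hsurj) (by
      rw [hkerπ]
      exact isKoszulRegularIdeal_ofList _ (KoszulFlatBC.isKoszulRegularSeq_map_of_flat _
        (ImmCompChart.flat_res hU'₂U' U'.2 hU'₂) rs hrs))
  rw [hcomp] at hK
  exact isRegularImmersionAt_koszul_of_isKoszulRegularIdeal (j ≫ p) x (V.basicOpen a) hU hxa' hK

end Groth.Agent.H39.SmoothFactorBwd2
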