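import Mathlib
import Groth.Agent.H39.SmoothFactorBwd2
import Groth.Agent.H39.RegImmKoszul
import Groth.Agent.H94.RegImmScheme

set_option autoImplicit false
set_option linter.style.haveILetI false
universe u

open AlgebraicGeometry CategoryTheory CategoryTheory.Limits
open Groth.Agent.H39.LCIMor Groth.Agent.H39.LCISmooth Groth.Agent.H39.LCISmooth2
  Groth.Agent.H39.KoszulPres Groth.Agent.H39.SmoothFactorBwd

namespace Groth.Agent.H39.KoszulAtBridge

/-- `Spec` of a surjection with Koszul-regular kernel is a Koszul-regular immersion. -/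
theorem isRegularImmersion_koszul_SpecMap {R S : Type u} [CommRing R] [CommRing S] (ψ : R →+* S)
    (hψ : Function.Surjective ψ) (hK : LCI.IsKoszulRegularIdeal (RingHom.ker ψ)) :
    RegImm.IsRegularImmersion .koszul (Spec.map (CommRingCat.ofHom ψ)) := by
  haveI hcl : IsClosedImmersion (Spec.map (CommRingCat.ofHom ψ)) :=
    IsClosedImmersion.spec_of_surjective _ hψ
  refine ⟨inferInstance, fun z => ?_⟩
  haveI : IsClosedImmersion (Spec.map (CommRingCat.ofHom ψ) ∣_ ⊤) :=
    IsZariskiLocalAtTarget.restrict hcl ⊤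
  refine isRegularImmersionAt_koszul_of_isKoszulRegularIdeal _ z ⊤ (isAffineOpen_top _) trivial ?_
  have h1 := Groth.Agent.H94.RegImmScheme.ker_appTop (CommRingCat.of R) (CommRingCat.of S)
    (CommRingCat.ofHom ψ)
  have h2 : RingHom.ker ((Spec.map (CommRingCat.ofHom ψ)).app ⊤).hom =
      (RingHom.ker ψ).map (Scheme.ΓSpecIso (CommRingCat.of R)).inv.hom := h1
  rw [h2]
  exact isKoszulRegularIdeal_map_ringEquiv
    (Scheme.ΓSpecIso (CommRingCat.of R)).symm.commRingCatIsoToRingEquiv _ hK

end Groth.Agent.H39.KoszulAtBridge
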