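import Mathlib
import Groth.Agent.H39.KoszulAtBridge

set_option autoImplicit false
set_option linter.style.haveILetI false
universe u

open AlgebraicGeometry CategoryTheory CategoryTheory.Limits
open Groth.Agent.H39.LCIMor Groth.Agent.H39.LCISmooth Groth.Agent.H39.LCISmooth2
  Groth.Agent.H39.KoszulPres Groth.Agent.H39.SmoothFactorBwd Groth.Agent.H39.KoszulAtBridge

namespace Groth.Agent.H39.KoszulAtBridge2

/-- an lci ring map on an affine chart gives the factorisation form of lci at the points of the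
chart. -/
theorem isKoszulAt_of_isLCIHom_appLE {X Y : Scheme.{u}} (f : X ⟶ Y) (x : X) (U : X.Opens)
    (hU : IsAffineOpen U) (V : Y.Opens) (hV : IsAffineOpen V) (e : U ≤ f ⁻¹ᵁ V) (hx : x ∈ U)
    (h : IsLCIHom (f.appLE V U e).hom) : Synt.IsKoszulAt f x := by
  unfold IsLCIHom at h
  letI := (f.appLE V U e).hom.toAlgebra
  obtain ⟨-, n, α, hα, hK⟩ := h
  let i₀ : Spec (CommRingCat.of Γ(X, U)) ⟶ Spec (CommRingCat.of (MvPolynomial (Fin n) Γ(Y, V))) :=
    Spec.map (CommRingCat.ofHom α.toRingHom)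
  let i : (U : Scheme.{u}) ⟶ Spec (CommRingCat.of (MvPolynomial (Fin n) Γ(Y, V))) :=
    hU.isoSpec.hom ≫ i₀
  let π₀ : Spec (CommRingCat.of (MvPolynomial (Fin n) Γ(Y, V))) ⟶ Spec Γ(Y, V) :=
    Spec.map (CommRingCat.ofHom (algebraMap Γ(Y, V) (MvPolynomial (Fin n) Γ(Y, V))))
  have hi₀ : RegImm.IsRegularImmersion .koszul i₀ :=
    isRegularImmersion_koszul_SpecMap α.toRingHom hα hK
  have hi : RegImm.IsRegularImmersion .koszul i :=
    RegImmKoszul.isRegularImmersion_iso_comp .koszul hU.isoSpec.hom i₀ hi₀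
  haveI hπ₀ : Smooth π₀ := by
    rw [HasRingHomProperty.Spec_iff (P := @Smooth)]
    show (algebraMap Γ(Y, V) (MvPolynomial (Fin n) Γ(Y, V))).Smooth
    rw [RingHom.smooth_algebraMap]
    exact ⟨inferInstance, inferInstance⟩
  haveI hπ : Smooth (π₀ ≫ hV.fromSpec) := inferInstance
  have hfac : i ≫ (π₀ ≫ hV.fromSpec) = U.ι ≫ f := by
    have h1 : i₀ ≫ π₀ = Spec.map (f.appLE V U e) := by
      rw [← Spec.map_comp]
      congr 1
      ext a
      exact α.commutes a
    rw [Category.assoc, ← Category.assoc i₀, h1, IsAffineOpen.SpecMap_appLE_fromSpec f hV hU e,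
      ← Category.assoc, IsAffineOpen.isoSpec_hom_fromSpec]
  refine ⟨U, _, i, π₀ ≫ hV.fromSpec, hx, ?_, hi, hπ, hfac⟩
  rw [← hfac]
  haveI := hi.1
  haveI : IsClosedImmersion i₀ := IsClosedImmersion.spec_of_surjective _ hα
  haveI : LocallyOfFiniteType i := inferInstance
  infer_instance

end Groth.Agent.H39.KoszulAtBridge2
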