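import Mathlib
import Groth.Agent.H39.KoszulAtBridge2

set_option autoImplicit false
set_option linter.style.haveILetI false
universe u

open AlgebraicGeometry CategoryTheory CategoryTheory.Limits
open Groth.Agent.H39.LCIMor Groth.Agent.H39.LCISmooth Groth.Agent.H39.LCISmooth2
  Groth.Agent.H39.KoszulPres Groth.Agent.H39.SmoothFactorBwd Groth.Agent.H39.KoszulAtBridge

namespace Groth.Agent.H39.KoszulAtBridge3

theorem isLCIHom_of_ringEquiv_comp {A B B' : Type u} [CommRing A] [CommRing B] [CommRing B']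
    (φ : A →+* B) (e : B ≃+* B') (h : IsLCIHom (e.toRingHom.comp φ)) : IsLCIHom φ := by
  have h1 := isLCIHom_ringEquiv_comp _ e.symm h
  have h2 : e.symm.toRingHom.comp (e.toRingHom.comp φ) = φ := by
    ext a
    simp
  rwa [h2] at h1

theorem appLE_congr_hom {X Y : Scheme.{u}} {f g : X ⟶ Y} (h : f = g) (V : Y.Opens) (W : X.Opens)
    (e : W ≤ f ⁻¹ᵁ V) : f.appLE V W e = g.appLE V W (h ▸ e) := by
  subst h
  rfl

/-- the factorisation form of lci at a point gives an lci ring map on suitable affine charts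
inside any prescribed affine open of the target. -/
theorem exists_isLCIHom_appLE_of_isKoszulAt {X Y : Scheme.{u}} (f : X ⟶ Y) (x : X)
    (h : Synt.IsKoszulAt f x) (V : Y.Opens) (hV : IsAffineOpen V) (hxV : f x ∈ V) :
    ∃ (U : X.Opens) (_ : IsAffineOpen U) (e : U ≤ f ⁻¹ᵁ V), x ∈ U ∧
      IsLCIHom (f.appLE V U e).hom := by
  obtain ⟨U₀, P, i, π, hxU₀, -, hreg, hsm, hfac⟩ := h
  haveI := hsm
  obtain ⟨P₁, hxP₁, hcl, rs, hrs, hker⟩ := hreg.2 ⟨x, hxU₀⟩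
  haveI := hcl
  have hπi : ∀ y : (U₀ : Scheme.{u}), π (i y) = f (U₀.ι y) := by
    intro y
    have := congrArg (fun φ : (U₀ : Scheme.{u}) ⟶ Y => φ y) hfac
    simpa using this
  have hx1 : i ⟨x, hxU₀⟩ ∈ P₁.1 ⊓ π ⁻¹ᵁ V := ⟨hxP₁, by
    show π (i ⟨x, hxU₀⟩) ∈ V
    rw [hπi]
    exact hxV⟩
  obtain ⟨g, hgle, hxg⟩ := P₁.2.exists_basicOpen_le (V := P₁.1 ⊓ π ⁻¹ᵁ V)
    ⟨i ⟨x, hxU₀⟩, hx1⟩ hxP₁
  have hP₂ : IsAffineOpen (P.basicOpen g) := P₁.2.basicOpen g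
  have hP₂P₁ : P.basicOpen g ≤ P₁.1 := hgle.trans inf_le_left
  have hP₂V : P.basicOpen g ≤ π ⁻¹ᵁ V := hgle.trans inf_le_right
  haveI : IsClosedImmersion (i ∣_ (P.basicOpen g)) :=
    ImmCompChart.isClosedImmersion_restrict_of_le i hP₂P₁
  obtain ⟨hW, hsurj⟩ :=
    RegImmStalk3.isAffineOpen_preimage_and_surjective_of_isClosedImmersion_restrict i
      (P.basicOpen g) hP₂
  have hK : LCI.IsKoszulRegularIdeal (RingHom.ker (i.app (P.basicOpen g)).hom) := by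
    rw [ImmCompChart.ker_app_of_le i hP₂P₁ P₁.2 hP₂, hker, Ideal.map_ofList]
    exact isKoszulRegularIdeal_ofList _ (KoszulFlatBC.isKoszulRegularSeq_map_of_flat _
      (ImmCompChart.flat_res hP₂P₁ P₁.2 hP₂) rs hrs)
  have hU : IsAffineOpen (U₀.ι ''ᵁ (i ⁻¹ᵁ (P.basicOpen g))) := hW.image_of_isOpenImmersion U₀.ι
  have hxU : x ∈ U₀.ι ''ᵁ (i ⁻¹ᵁ (P.basicOpen g)) := ⟨⟨x, hxU₀⟩, hxg, rfl⟩
  have e : U₀.ι ''ᵁ (i ⁻¹ᵁ (P.basicOpen g)) ≤ f ⁻¹ᵁ V := by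
    rintro _ ⟨y, hy, rfl⟩
    show f (U₀.ι y) ∈ V
    rw [← hπi]
    exact hP₂V hy
  refine ⟨_, hU, e, hxU, ?_⟩
  have hsm' : (π.appLE V (P.basicOpen g) hP₂V).hom.Smooth :=
    HasRingHomProperty.appLE (P := @Smooth) π inferInstance ⟨V, hV⟩ ⟨_, hP₂⟩ hP₂V
  have hcomp : IsLCIHom ((i.app (P.basicOpen g)).hom.comp (π.appLE V (P.basicOpen g) hP₂V).hom) :=
    isLCIHom_comp _ _ (isLCIHom_of_smooth _ hsm') (isLCIHom_of_surjective _ hsurj hK)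
  have hle : i ⁻¹ᵁ (P.basicOpen g) ≤ U₀.ι ⁻¹ᵁ (U₀.ι ''ᵁ (i ⁻¹ᵁ (P.basicOpen g))) :=
    (U₀.ι.preimage_image_eq _).ge
  have key : f.appLE V _ e ≫ (U₀.ι.appIso (i ⁻¹ᵁ (P.basicOpen g))).hom =
      π.appLE V (P.basicOpen g) hP₂V ≫ i.app (P.basicOpen g) := by
    rw [Scheme.Hom.appIso_hom', Scheme.Hom.appLE_comp_appLE, Scheme.Hom.app_eq_appLE,
      Scheme.Hom.appLE_comp_appLE]
    exact (appLE_congr_hom hfac V _ _).symm
  refine isLCIHom_of_ringEquiv_comp _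
    (U₀.ι.appIso (i ⁻¹ᵁ (P.basicOpen g))).commRingCatIsoToRingEquiv ?_
  have h3 : (U₀.ι.appIso (i ⁻¹ᵁ (P.basicOpen g))).commRingCatIsoToRingEquiv.toRingHom.comp
      (f.appLE V _ e).hom =
      (i.app (P.basicOpen g)).hom.comp (π.appLE V (P.basicOpen g) hP₂V).hom := by
    have := congrArg (fun φ => φ.hom) key
    exact this
  rw [h3]
  exact hcomp

end Groth.Agent.H39.KoszulAtBridge3
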