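import Mathlib
import Groth.Agent.H39.KoszulAtBridge3
import Groth.Prelude.Def_Dual3

set_option autoImplicit false
set_option linter.style.haveILetI false
universe u

open AlgebraicGeometry CategoryTheory CategoryTheory.Limits
open Groth.Agent.H39.LCIMor Groth.Agent.H39.KoszulAtBridge2 Groth.Agent.H39.KoszulAtBridge3

namespace Groth.Agent.H39.KoszulAtComp

/-- **S8661**: composition of lci morphisms (factorisation sense). -/
theorem isKoszulAt_comp {X Y Z : Scheme.{u}} (f : X ⟶ Y) (g : Y ⟶ Z)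
    (hf : ∀ x : X, Synt.IsKoszulAt f x) (hg : ∀ y : Y, Synt.IsKoszulAt g y) :
    ∀ x : X, Synt.IsKoszulAt (f ≫ g) x := by
  intro x
  have htop : g (f x) ∈ (⊤ : Z.Opens) := trivial
  obtain ⟨W, hW, hxW, -⟩ :=
    (TopologicalSpace.Opens.isBasis_iff_nbhd.mp Z.isBasis_affineOpens) htop
  obtain ⟨V, hV, eV, hxV, hVlci⟩ :=
    exists_isLCIHom_appLE_of_isKoszulAt g (f x) (hg _) W hW hxW
  obtain ⟨U, hU, eU, hxU, hUlci⟩ := exists_isLCIHom_appLE_of_isKoszulAt f x (hf x) V hV hxV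
  have e : U ≤ (f ≫ g) ⁻¹ᵁ W := fun y hy => eV (eU hy)
  refine isKoszulAt_of_isLCIHom_appLE (f ≫ g) x U hU W hW e hxU ?_
  have h1 := isLCIHom_comp _ _ hVlci hUlci
  have h2 : g.appLE W V eV ≫ f.appLE V U eU = (f ≫ g).appLE W U e :=
    Scheme.Hom.appLE_comp_appLE f g W V U eV eU
  have h3 : (f.appLE V U eU).hom.comp (g.appLE W V eV).hom = ((f ≫ g).appLE W U e).hom := by
    rw [← h2]
    rfl
  rwa [h3] at h1

/-- the factorisation form of lci (at every point) agrees with the affine-local ring-map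
form. -/
theorem isKoszulAt_iff_isLCIMor {X Y : Scheme.{u}} (f : X ⟶ Y) :
    (∀ x : X, Synt.IsKoszulAt f x) ↔ Dual3.IsLCIMor f := by
  constructor
  · intro h x
    have htop : f x ∈ (⊤ : Y.Opens) := trivial
    obtain ⟨V, hV, hxV, -⟩ :=
      (TopologicalSpace.Opens.isBasis_iff_nbhd.mp Y.isBasis_affineOpens) htop
    obtain ⟨U, hU, e, hxU, hlci⟩ := exists_isLCIHom_appLE_of_isKoszulAt f x (h x) V hV hxV
    exact ⟨⟨U, hU⟩, ⟨V, hV⟩, e, hxU, hlci⟩
  · intro h x
    obtain ⟨U, V, e, hxU, hlci⟩ := h x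
    exact isKoszulAt_of_isLCIHom_appLE f x U.1 U.2 V.1 V.2 e hxU hlci

end Groth.Agent.H39.KoszulAtComp
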