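import Mathlib
import Groth.Agent.H39.LCIMor

set_option autoImplicit false
set_option linter.style.haveILetI false
universe u

open AlgebraicGeometry CategoryTheory CategoryTheory.Limits
open Groth.Agent.H39.LCIMor

namespace Groth.Agent.H39.LCIMorComp

/-- transfer of `IsLCIHom` from the sections on a basic open to the localization. -/
theorem isLCIHom_away_of_basicOpen {X : Scheme.{u}} {A : Type u} [CommRing A] {U : X.Opens}
    (hU : IsAffineOpen U) (u : Γ(X, U)) (φ : A →+* Γ(X, U))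
    (h : IsLCIHom ((X.presheaf.map (homOfLE (X.basicOpen_le u)).op).hom.comp φ)) :
    IsLCIHom ((algebraMap Γ(X, U) (Localization.Away u)).comp φ) := by
  haveI := hU.isLocalization_basicOpen u
  let e : Γ(X, X.basicOpen u) ≃ₐ[Γ(X, U)] Localization.Away u :=
    IsLocalization.algEquiv (Submonoid.powers u) _ _
  have h1 := isLCIHom_ringEquiv_comp _ e.toRingEquiv h
  have h2 : e.toRingEquiv.toRingHom.comp
      ((X.presheaf.map (homOfLE (X.basicOpen_le u)).op).hom.comp φ) =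
      (algebraMap Γ(X, U) (Localization.Away u)).comp φ := by
    ext a
    exact e.commutes (φ a)
  rwa [h2] at h1

/-- **S1491**: composition of local complete intersection morphisms (affine-local sense). -/
theorem lci_morphism_comp {X Y Z : Scheme.{u}} (f : X ⟶ Y) (g : Y ⟶ Z)
    (hf : ∀ (U : X.Opens) (V : Y.Opens) (_ : IsAffineOpen U) (_ : IsAffineOpen V)
      (hUV : U ≤ f ⁻¹ᵁ V), IsLCIHom (f.appLE V U hUV).hom)
    (hg : ∀ (U : Y.Opens) (V : Z.Opens) (_ : IsAffineOpen U) (_ : IsAffineOpen V)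
      (hUV : U ≤ g ⁻¹ᵁ V), IsLCIHom (g.appLE V U hUV).hom) :
    ∀ (U : X.Opens) (V : Z.Opens) (_ : IsAffineOpen U) (_ : IsAffineOpen V)
      (hUV : U ≤ (f ≫ g) ⁻¹ᵁ V), IsLCIHom ((f ≫ g).appLE V U hUV).hom := by
  intro U V hU hV hUV
  let s : Set Γ(X, U) := {u | ∃ W : Y.Opens, IsAffineOpen W ∧ W ≤ g ⁻¹ᵁ V ∧
    X.basicOpen u ≤ f ⁻¹ᵁ W}
  refine isLCIHom_of_span _ s ?_ ?_
  · rw [← hU.self_le_iSup_basicOpen_iff]
    intro x hx
    have hfx : f x ∈ g ⁻¹ᵁ V := by
      have := hUV hx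
      simpa using this
    obtain ⟨W, hW, hfxW, hWV⟩ := (TopologicalSpace.Opens.isBasis_iff_nbhd.mp Y.isBasis_affineOpens) hfx
    have hxW : x ∈ U ⊓ f ⁻¹ᵁ W := ⟨hx, hfxW⟩
    obtain ⟨u, hu1, hu2⟩ := hU.exists_basicOpen_le ⟨x, hxW⟩ hx
    rw [TopologicalSpace.Opens.mem_iSup]
    exact ⟨⟨u, W, hW, hWV, hu1.trans inf_le_right⟩, hu2⟩
  · rintro u ⟨W, hW, hWV, huW⟩
    apply isLCIHom_away_of_basicOpen hU
    have h1 := hf (X.basicOpen u) W (hU.basicOpen u) hW huW
    have h2 := hg W V hW hV hWV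
    have h3 := isLCIHom_comp _ _ h2 h1
    have h4 : (f.appLE W (X.basicOpen u) huW).hom.comp (g.appLE V W hWV).hom =
        (X.presheaf.map (homOfLE (X.basicOpen_le u)).op).hom.comp
          ((f ≫ g).appLE V U hUV).hom := by
      rw [← CommRingCat.hom_comp, ← CommRingCat.hom_comp, Scheme.Hom.appLE_comp_appLE,
        Scheme.Hom.appLE_map]
    rwa [h4] at h3

end Groth.Agent.H39.LCIMorComp
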