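import Mathlib
import Groth.Agent.H39.KoszulAtComp
import Groth.Agent.H39.LCIMorComp

set_option autoImplicit false
set_option linter.style.haveILetI false
universe u

open AlgebraicGeometry CategoryTheory CategoryTheory.Limits
open Groth.Agent.H39.LCIMor Groth.Agent.H39.KoszulAtBridge2 Groth.Agent.H39.KoszulAtBridge3
  Groth.Agent.H39.LCISmooth2 Groth.Agent.H39.LCIMorComp

namespace Groth.Agent.H39.KoszulAtForall

/-- if `f` is lci (factorisation sense) at every point then ALL ring maps between affine opens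
are lci ring maps. -/
theorem isLCIHom_appLE_of_forall_isKoszulAt {X Y : Scheme.{u}} (f : X ⟶ Y)
    (h : ∀ x : X, Synt.IsKoszulAt f x) (U : X.Opens) (V : Y.Opens) (hU : IsAffineOpen U)
    (hV : IsAffineOpen V) (e : U ≤ f ⁻¹ᵁ V) : IsLCIHom (f.appLE V U e).hom := by
  let s : Set Γ(X, U) := {u | ∃ (W : X.Opens) (_ : IsAffineOpen W) (eW : W ≤ f ⁻¹ᵁ V)
    (w : Γ(X, W)), X.basicOpen u = X.basicOpen w ∧ IsLCIHom (f.appLE V W eW).hom}
  refine isLCIHom_of_span _ s ?_ ?_
  · rw [← hU.self_le_iSup_basicOpen_iff]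
    intro x hx
    obtain ⟨W, hW, eW, hxW, hlci⟩ :=
      exists_isLCIHom_appLE_of_isKoszulAt f x (h x) V hV (e hx)
    obtain ⟨u, w, huw, hxu⟩ := exists_basicOpen_le_affine_inter hU hW x ⟨hx, hxW⟩
    rw [TopologicalSpace.Opens.mem_iSup]
    exact ⟨⟨u, W, hW, eW, w, huw, hlci⟩, hxu⟩
  · rintro u ⟨W, hW, eW, w, huw, hlci⟩
    apply isLCIHom_away_of_basicOpen hU
    -- the localisation `Γ(W) → Γ(D(w))` is lci
    haveI := hW.isLocalization_basicOpen w
    have hloc : IsLCIHom (X.presheaf.map (homOfLE (X.basicOpen_le w)).op).hom :=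
      (isLCIHom_iff_of_algebraMap_eq _ rfl).mp
        (isLCI_of_isLocalizationAway w Γ(X, X.basicOpen w))
    have h3 := isLCIHom_comp _ _ hlci hloc
    have hle : X.basicOpen u ≤ X.basicOpen w := huw.le
    -- transport along the equality of opens
    have h4 : IsLCIHom ((X.presheaf.map (homOfLE huw.le).op).hom.comp
        ((X.presheaf.map (homOfLE (X.basicOpen_le w)).op).hom.comp (f.appLE V W eW).hom)) := by
      have hiso : IsIso (X.presheaf.map (homOfLE huw.le).op) := by
        have : IsIso (homOfLE huw.le) := ⟨homOfLE huw.ge, Subsingleton.elim _ _,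
          Subsingleton.elim _ _⟩
        infer_instance
      let ee : Γ(X, X.basicOpen w) ≃+* Γ(X, X.basicOpen u) :=
        (asIso (X.presheaf.map (homOfLE huw.le).op)).commRingCatIsoToRingEquiv
      exact isLCIHom_ringEquiv_comp _ ee h3
    have h5 : (X.presheaf.map (homOfLE huw.le).op).hom.comp
        ((X.presheaf.map (homOfLE (X.basicOpen_le w)).op).hom.comp (f.appLE V W eW).hom) =
        (X.presheaf.map (homOfLE (X.basicOpen_le u)).op).hom.comp (f.appLE V U e).hom := by
      rw [← CommRingCat.hom_comp, ← CommRingCat.hom_comp, ← CommRingCat.hom_comp,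
        Scheme.Hom.appLE_map, Scheme.Hom.appLE_map, Scheme.Hom.appLE_map]
    rwa [h5] at h4

/-- the two forms of "local complete intersection morphism". -/
theorem forall_isKoszulAt_iff_forall_isLCIHom {X Y : Scheme.{u}} (f : X ⟶ Y) :
    (∀ x : X, Synt.IsKoszulAt f x) ↔
      ∀ (U : X.Opens) (V : Y.Opens) (_ : IsAffineOpen U) (_ : IsAffineOpen V)
        (e : U ≤ f ⁻¹ᵁ V), IsLCIHom (f.appLE V U e).hom := by
  constructor
  · intro h U V hU hV e
    exact isLCIHom_appLE_of_forall_isKoszulAt f h U V hU hV e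
  · intro h x
    have htop : f x ∈ (⊤ : Y.Opens) := trivial
    obtain ⟨V, hV, hxV, -⟩ :=
      (TopologicalSpace.Opens.isBasis_iff_nbhd.mp Y.isBasis_affineOpens) htop
    have hx' : x ∈ f ⁻¹ᵁ V := hxV
    obtain ⟨U, hU, hxU, hUV⟩ :=
      (TopologicalSpace.Opens.isBasis_iff_nbhd.mp X.isBasis_affineOpens) hx'
    exact isKoszulAt_of_isLCIHom_appLE f x U hU V hV hUV hxU (h U V hU hV hUV)

end Groth.Agent.H39.KoszulAtForall
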