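import Mathlib
import Groth.Agent.H39.KoszulAtForall

set_option autoImplicit false
set_option linter.style.haveILetI false
universe u

open AlgebraicGeometry CategoryTheory CategoryTheory.Limits
open Groth.Agent.H39.LCIMor Groth.Agent.H39.KoszulAtBridge2 Groth.Agent.H39.KoszulAtBridge3

namespace Groth.Agent.H39.SyntomicMor

/-- flat + lci (factorisation sense) iff syntomic, given the ring-level statement. -/
theorem flat_and_lci_iff_syntomic
    (hS : ∀ (R S : Type u) [CommRing R] [CommRing S] [Algebra R S],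
      Synt.IsSyntomic R S ↔ Module.Flat R S ∧ LCI.IsLCI R S)
    {X S : Scheme.{u}} (f : X ⟶ S) :
    (Flat f ∧ ∀ x : X, Synt.IsKoszulAt f x) ↔ Synt.IsSyntomicMor f := by
  constructor
  · rintro ⟨hfl, hk⟩ x
    have htop : f x ∈ (⊤ : S.Opens) := trivial
    obtain ⟨V, hV, hxV, -⟩ :=
      (TopologicalSpace.Opens.isBasis_iff_nbhd.mp S.isBasis_affineOpens) htop
    obtain ⟨U, hU, e, hxU, hlci⟩ := exists_isLCIHom_appLE_of_isKoszulAt f x (hk x) V hV hxV
    refine ⟨⟨U, hU⟩, ⟨V, hV⟩, e, hxU, ?_⟩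
    have hflat : (f.appLE V U e).hom.Flat :=
      HasRingHomProperty.appLE (P := @Flat) f hfl ⟨V, hV⟩ ⟨U, hU⟩ e
    letI := (f.appLE V U e).hom.toAlgebra
    exact (hS Γ(S, V) Γ(X, U)).mpr ⟨hflat, hlci⟩
  · intro h
    have h' : ∀ x : X, ∃ (V : S.affineOpens) (U : X.affineOpens) (_ : x ∈ U.1)
        (e : U.1 ≤ f ⁻¹ᵁ V.1), (f.appLE V.1 U.1 e).hom.Flat ∧ IsLCIHom (f.appLE V.1 U.1 e).hom := by
      intro x
      obtain ⟨U, V, e, hxU, hsyn⟩ := h x
      letI := (f.appLE V.1 U.1 e).hom.toAlgebra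
      obtain ⟨hflat, hlci⟩ := (hS Γ(S, V.1) Γ(X, U.1)).mp hsyn
      exact ⟨V, U, hxU, e, hflat, hlci⟩
    constructor
    · rw [HasRingHomProperty.iff_exists_appLE (P := @Flat)
        (RingHom.Flat.stableUnderComposition.stableUnderCompositionWithLocalizationAway
          RingHom.Flat.holdsForLocalizationAway).left]
      intro x
      obtain ⟨V, U, hxU, e, hflat, -⟩ := h' x
      exact ⟨V, U, hxU, e, hflat⟩
    · intro x
      obtain ⟨V, U, hxU, e, -, hlci⟩ := h' x
      exact isKoszulAt_of_isLCIHom_appLE f x U.1 U.2 V.1 V.2 e hxU hlci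

end Groth.Agent.H39.SyntomicMor
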