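import Mathlib
import Groth.Agent.H39.SmoothFactor
import Groth.Agent.H39.RegImmKoszul
import Groth.Agent.S9758

set_option autoImplicit false
set_option linter.style.haveILetI false
universe u

open AlgebraicGeometry CategoryTheory CategoryTheory.Limits

namespace Groth.Agent.H39.FlatSmoothSynt

/-- a morphism between smooth `S`-schemes is Koszul (lci) at every point: graph factorisation. -/
theorem isKoszulAt_of_smooth_over {X Y S : Scheme.{u}}
    (p : X ⟶ S) (q : Y ⟶ S) [Smooth p] [Smooth q] (f : X ⟶ Y) (hf : f ≫ q = p) (x : X) :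
    Synt.IsKoszulAt f x := by
  let γ : X ⟶ pullback p q := pullback.lift (𝟙 X) f (by rw [hf]; simp)
  have hγ1 : γ ≫ pullback.fst p q = 𝟙 X := pullback.lift_fst _ _ _
  have hγ2 : γ ≫ pullback.snd p q = f := pullback.lift_snd _ _ _
  haveI : Smooth (pullback.fst p q) := inferInstance
  haveI : Smooth (pullback.snd p q) := inferInstance
  haveI : IsImmersion (γ ≫ pullback.fst p q) := by rw [hγ1]; infer_instance
  haveI : IsImmersion γ := IsImmersion.of_comp γ (pullback.fst p q)
  have hreg : RegImm.IsRegularImmersion .koszul γ :=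
    SmoothFactor.isRegularImmersion_koszul_of_section (pullback.fst p q) γ hγ1
  haveI : LocallyOfFiniteType (f ≫ q) := by rw [hf]; infer_instance
  haveI : LocallyOfFiniteType f := locallyOfFiniteType_of_comp f q
  refine ⟨⊤, pullback p q, (⊤ : X.Opens).ι ≫ γ, pullback.snd p q, trivial, inferInstance, ?_,
    inferInstance, ?_⟩
  · haveI : IsIso (⊤ : X.Opens).ι := X.topIso.isIso_hom
    exact RegImmKoszul.isRegularImmersion_iso_comp .koszul _ γ hreg
  · rw [Category.assoc, hγ2]

/-- a flat morphism between smooth `S`-schemes is syntomic. -/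
theorem isSyntomicMor_of_flat_of_smooth_over {X Y S : Scheme.{u}}
    (p : X ⟶ S) (q : Y ⟶ S) [Smooth p] [Smooth q] (f : X ⟶ Y) (hf : f ≫ q = p) [Flat f] :
    Synt.IsSyntomicMor f :=
  (Groth.Agent.S9758.result f).mp ⟨inferInstance, isKoszulAt_of_smooth_over p q f hf⟩

end Groth.Agent.H39.FlatSmoothSynt
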