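import Mathlib
import Groth.Agent.H47.FSField
import Groth.Agent.H48.TensorNormal5

set_option autoImplicit false
set_option linter.style.haveILetI false
universe u
open TensorProduct CategoryTheory CategoryTheory.Limits AlgebraicGeometry

namespace Groth.Agent.H39.GenericReduced

attribute [local instance] Algebra.TensorProduct.rightAlgebra in
/-- `A` a domain with fraction field `K`, `B` a finite type `A`-algebra, `q` a prime of `B` over the
zero ideal of `A` such that `B_q` is a field and `B ⊗_A K̄` is reduced.
Then `B` is smooth over `A` at `q`. -/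
theorem isSmoothAt_of_isField_of_isReduced_tensor (A B : Type u) [CommRing A] [CommRing B]
    [IsDomain A] [Algebra A B]
    (q : Ideal B) [q.IsPrime] (hq : q.under A = ⊥)
    (hfield : IsField (Localization.AtPrime q))
    (hred : IsReduced (B ⊗[A] AlgebraicClosure (FractionRing A))) : Algebra.IsSmoothAt A q := by
  let K := FractionRing A
  let L := AlgebraicClosure K
  let BK := K ⊗[A] B
  let M : Submonoid B := Algebra.algebraMapSubmonoid B (nonZeroDivisors A)
  have hloc : IsLocalization M BK := inferInstance
  have hdisj : Disjoint (M : Set B) (q : Set B) := by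
    rw [Set.disjoint_left]
    rintro _ ⟨a, ha, rfl⟩ hmem
    have : a ∈ q.under A := hmem
    rw [hq, Ideal.mem_bot] at this
    exact (nonZeroDivisors.ne_zero ha) this
  let qK : Ideal BK := q.map (algebraMap B BK)
  have hqK : qK.IsPrime := IsLocalization.isPrime_of_isPrime_disjoint M _ q ‹_› hdisj
  have hcomap : qK.comap (algebraMap B BK) = q :=
    IsLocalization.under_map_of_isPrime_disjoint M _ ‹_› hdisj
  let T := Localization.AtPrime qK
  have hT : IsLocalization.AtPrime T (qK.comap (algebraMap B BK)) :=
    IsLocalization.isLocalization_isLocalization_atPrime_isLocalization M T qK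
  have hT' : IsLocalization.AtPrime T q := by
    convert hT
    exact hcomap.symm
  let e : T ≃ₐ[B] Localization.AtPrime q := IsLocalization.algEquiv q.primeCompl _ _
  -- `BK` is geometrically reduced over `K`
  have hgr : Algebra.IsGeometricallyReduced K BK := by
    rw [Algebra.isGeometricallyReduced_field_iff]
    let e1 : L ⊗[K] (K ⊗[A] B) ≃ₐ[L] L ⊗[A] B := Algebra.TensorProduct.cancelBaseChange A K L L B
    let e2 : L ⊗[A] B ≃ₐ[A] B ⊗[A] L := Algebra.TensorProduct.comm A L B
    exact isReduced_of_injective (e2.toRingEquiv.toRingHom.comp e1.toRingEquiv.toRingHom)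
      (e2.injective.comp e1.injective)
  have hgrT : Algebra.IsGeometricallyReduced K T :=
    Groth.Agent.H48.TensorNormal.isGeometricallyReduced_of_isLocalization K BK qK.primeCompl T
  have hTf : IsField T := e.toRingEquiv.isField hfield
  let : Field T := hTf.toField
  have hsm : Algebra.FormallySmooth K T :=
    Groth.Agent.H47.formallySmooth_of_isGeometricallyReduced_field
  have : Algebra.FormallySmooth A K := Algebra.FormallySmooth.of_isLocalization (nonZeroDivisors A)
  have : Algebra.FormallySmooth A T := Algebra.FormallySmooth.comp A K T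
  refine (Algebra.FormallySmooth.iff_of_equiv (A := T) ?_).mp this
  exact (IsLocalization.algEquiv q.primeCompl _ _).restrictScalars A


/-- If the fibre of `f` over the image point of `t : Spec L ⟶ Y` is geometrically reduced,
then `X ×_Y Spec L` is reduced. -/
theorem isReduced_pullback_of_geometricallyReduced_fiber {X Y : Scheme.{u}} (f : X ⟶ Y)
    (L : Type u) [Field L] (t : Spec (.of L) ⟶ Y)
    (h : GeometricallyReduced (f.fiberToSpecResidueField (t (IsLocalRing.closedPoint L)))) :
    IsReduced (pullback f t) := by
  have ht := (Scheme.SpecToEquivOfField L Y).left_inv t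
  set y := t (IsLocalRing.closedPoint L) with hy
  set φ : Y.residueField y ⟶ .of L := ((Scheme.SpecToEquivOfField L Y) t).2 with hφ
  have ht' : Spec.map φ ≫ Y.fromSpecResidueField y = t := ht
  have e : pullback (f.fiberToSpecResidueField y) (Spec.map φ) ≅
      pullback f (Spec.map φ ≫ Y.fromSpecResidueField y) :=
    pullbackLeftPullbackSndIso f (Y.fromSpecResidueField y) (Spec.map φ)
  have : IsReduced (pullback (f.fiberToSpecResidueField y) (Spec.map φ)) :=
    pullback_of_geometrically h.geometrically_isReduced L (Spec.map φ)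
  have h2 : IsReduced (pullback f (Spec.map φ ≫ Y.fromSpecResidueField y)) :=
    isReduced_of_isOpenImmersion e.inv
  rwa [ht'] at h2

/-- Affine-chart form: if `X ×_Y Spec L` is reduced, where `Spec L → Y` factors through an affine
open `V`, then `Γ(X, W) ⊗_{Γ(Y, V)} L` is reduced for every affine open `W ≤ f⁻¹ V`. -/
theorem isReduced_tensorProduct_of_isReduced_pullback {X Y : Scheme.{u}} (f : X ⟶ Y)
    (V : Y.Opens) (hV : IsAffineOpen V) (W : X.Opens) (hW : IsAffineOpen W) (hWV : W ≤ f ⁻¹ᵁ V)
    (L : Type u) [Field L] [Algebra Γ(Y, V) L]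
    (h : IsReduced (pullback f (Spec.map (CommRingCat.ofHom (algebraMap Γ(Y, V) L)) ≫ hV.fromSpec))) :
    letI := (f.appLE V W hWV).hom.toAlgebra
    _root_.IsReduced (Γ(X, W) ⊗[Γ(Y, V)] L) := by
  letI := (f.appLE V W hWV).hom.toAlgebra
  let t := Spec.map (CommRingCat.ofHom (algebraMap Γ(Y, V) L)) ≫ hV.fromSpec
  have e₁ : Spec.map (CommRingCat.ofHom (algebraMap Γ(Y, V) Γ(X, W))) ≫ hV.fromSpec =
      hW.fromSpec ≫ f := hV.SpecMap_appLE_fromSpec f hW hWV
  have e₂ : Spec.map (CommRingCat.ofHom (algebraMap Γ(Y, V) L)) ≫ hV.fromSpec = 𝟙 _ ≫ t := by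
    simp [t]
  let j := pullback.map (Spec.map (CommRingCat.ofHom (algebraMap Γ(Y, V) Γ(X, W))))
    (Spec.map (CommRingCat.ofHom (algebraMap Γ(Y, V) L))) f t hW.fromSpec (𝟙 _) hV.fromSpec e₁ e₂
  have : IsOpenImmersion j := inferInstance
  have h1 : IsReduced (pullback (Spec.map (CommRingCat.ofHom (algebraMap Γ(Y, V) Γ(X, W))))
    (Spec.map (CommRingCat.ofHom (algebraMap Γ(Y, V) L)))) := isReduced_of_isOpenImmersion j
  have h2 : IsReduced (Spec (.of (Γ(X, W) ⊗[Γ(Y, V)] L))) :=
    isReduced_of_isOpenImmersion (pullbackSpecIso Γ(Y, V) Γ(X, W) L).inv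
  exact (affine_isReduced_iff _).mp h2


/-- The image of the generic point under a dominant morphism of irreducible schemes is the generic
point. -/
theorem map_genericPoint_of_isDominant {X Y : Scheme.{u}} [IrreducibleSpace X] [IrreducibleSpace Y]
    (f : X ⟶ Y) [IsDominant f] : f (genericPoint X) = genericPoint Y := by
  apply ((genericPoint_spec Y).eq _).symm
  have := (genericPoint_spec X).image f.continuous
  rwa [Set.image_univ, f.denseRange.closure_range] at this

/-- If the generic fibre of a dominant morphism locally of finite presentation between integral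
schemes is geometrically reduced, then the generic point of the source is a smooth point. -/
theorem genericPoint_mem_smoothLocus (X Y : Scheme.{u}) [IsIntegral X] [IsIntegral Y]
    (f : X ⟶ Y) [IsDominant f] [LocallyOfFinitePresentation f]
    (hsep : GeometricallyReduced (f.fiberToSpecResidueField (f (genericPoint X)))) :
    genericPoint X ∈ f.smoothLocus := by
  have hη : f (genericPoint X) = genericPoint Y := map_genericPoint_of_isDominant f
  obtain ⟨_, ⟨V, hV, rfl⟩, hxV, -⟩ :=
    Y.isBasis_affineOpens.exists_subset_of_mem_open (Set.mem_univ (f (genericPoint X))) isOpen_univ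
  obtain ⟨_, ⟨W, hW, rfl⟩, hxW, hWV⟩ :=
    X.isBasis_affineOpens.exists_subset_of_mem_open (show genericPoint X ∈ f ⁻¹ᵁ V from hxV)
      (V.2.preimage f.continuous)
  algebraize [(f.appLE V W hWV).hom]
  rw [Scheme.Hom.mem_smoothLocus, formallySmooth_stalkMap_iff V hV W hW hWV hxW]
  let q := (hW.primeIdealOf ⟨genericPoint X, hxW⟩).asIdeal
  let p := (hV.primeIdealOf ⟨f (genericPoint X), hWV hxW⟩).asIdeal
  have hqp : q.under Γ(Y, V) = p :=
    congr($(IsAffineOpen.comap_primeIdealOf_appLE V hV W hW hWV hxW).1)
  have hne : Nonempty V := ⟨⟨f (genericPoint X), hWV hxW⟩⟩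
  have hneW : Nonempty W := ⟨⟨genericPoint X, hxW⟩⟩
  have hp' : hV.primeIdealOf ⟨f (genericPoint X), hWV hxW⟩ = (⊥ : PrimeSpectrum Γ(Y, V)) := by
    have h1 := hV.primeIdealOf_genericPoint
    have h2 : hV.primeIdealOf ⟨f (genericPoint X), hWV hxW⟩ = hV.primeIdealOf ⟨genericPoint Y,
        ((genericPoint_spec Y).mem_open_set_iff V.isOpen).mpr (by simpa using hne)⟩ := by
      congr 1
      exact Subtype.ext hη
    rw [h2, h1, genericPoint_eq_bot_of_affine]
  have hp : p = ⊥ := congr(($hp').asIdeal)
  -- the local ring at the generic point is a field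
  let := X.presheaf.algebra_section_stalk ⟨genericPoint X, hxW⟩
  have hst := hW.isLocalization_stalk ⟨genericPoint X, hxW⟩
  have hfield : IsField (Localization.AtPrime q) :=
    (IsLocalization.algEquiv q.primeCompl (X.presheaf.stalk (genericPoint X))
      (Localization.AtPrime q)).toRingEquiv.symm.isField (Field.toIsField X.functionField)
  -- reducedness of the geometric generic fibre
  let L := AlgebraicClosure (FractionRing Γ(Y, V))
  have hred : _root_.IsReduced (Γ(X, W) ⊗[Γ(Y, V)] L) := by
    apply isReduced_tensorProduct_of_isReduced_pullback f V hV W hW hWV L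
    apply isReduced_pullback_of_geometricallyReduced_fiber
    have ht : (Spec.map (CommRingCat.ofHom (algebraMap Γ(Y, V) L)) ≫ hV.fromSpec)
        (IsLocalRing.closedPoint L) = f (genericPoint X) := by
      have h3 : Spec.map (CommRingCat.ofHom (algebraMap Γ(Y, V) L)) (IsLocalRing.closedPoint L) =
          hV.primeIdealOf ⟨f (genericPoint X), hWV hxW⟩ := by
        rw [hp']
        apply PrimeSpectrum.ext
        change Ideal.comap (algebraMap Γ(Y, V) L) (IsLocalRing.maximalIdeal L) = ⊥
        rw [IsLocalRing.maximalIdeal_eq_bot, ← RingHom.ker_eq_comap_bot,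
          (RingHom.injective_iff_ker_eq_bot _).mp]
        rw [IsScalarTower.algebraMap_eq Γ(Y, V) (FractionRing Γ(Y, V)) L]
        exact (algebraMap (FractionRing Γ(Y, V)) L).injective.comp (IsFractionRing.injective _ _)
      rw [Scheme.Hom.comp_apply, h3]
      exact hV.fromSpec_primeIdealOf ⟨f (genericPoint X), hWV hxW⟩
    rw [ht]
    exact hsep
  exact isSmoothAt_of_isField_of_isReduced_tensor Γ(Y, V) Γ(X, W) q (hqp.trans hp) hfield hred

/-- If the generic fibre of a dominant morphism locally of finite presentation between integral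
schemes is geometrically reduced, then the smooth locus is dense. -/
theorem dense_smoothLocus (X Y : Scheme.{u}) [IsIntegral X] [IsIntegral Y]
    (f : X ⟶ Y) [IsDominant f] [LocallyOfFinitePresentation f]
    (hsep : GeometricallyReduced (f.fiberToSpecResidueField (f (genericPoint X)))) :
    Dense (f.smoothLocus : Set X) :=
  f.smoothLocus.2.dense ⟨_, genericPoint_mem_smoothLocus X Y f hsep⟩

end Groth.Agent.H39.GenericReduced
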