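import Mathlib

/-!
# Lengths and half-exact functors

* `length_le_add_of_exact`: for `X₁ →u X₂ →v X₃` exact in the middle,
  `length X₂ ≤ length X₁ + length X₃`, with equality (finite lengths) iff `u` injective and `v`
  surjective.
* a half exact additive functor between module categories with finite length values on simple
  modules has finite length values on modules of finite length.
-/

set_option autoImplicit false
set_option linter.style.haveILetI false
universe u

open CategoryTheory CategoryTheory.Limits

namespace Groth.Agent.H39

section lin

variable {B : Type*} [Ring B] {X₁ X₂ X₃ : Type*} [AddCommGroup X₁] [Module B X₁]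
  [AddCommGroup X₂] [Module B X₂] [AddCommGroup X₃] [Module B X₃]
  (u : X₁ →ₗ[B] X₂) (v : X₂ →ₗ[B] X₃)

theorem length_eq_range_add_range (hex : Function.Exact u v) :
    Module.length B X₂ = Module.length B (LinearMap.range u) + Module.length B (LinearMap.range v) := by
  have h1 := Module.length_eq_add_of_exact (LinearMap.ker v).subtype v.rangeRestrict
    (Submodule.injective_subtype _) v.surjective_rangeRestrict (by
      intro x
      constructor
      · intro hx
        have hx' : v x = 0 := congrArg Subtype.val hx
        exact ⟨⟨x, hx'⟩, rfl⟩
      · rintro ⟨y, rfl⟩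
        exact Subtype.ext y.2)
  rw [h1, (LinearMap.exact_iff.mp hex)]

theorem length_le_add_of_exact (hex : Function.Exact u v) :
    Module.length B X₂ ≤ Module.length B X₁ + Module.length B X₃ := by
  rw [length_eq_range_add_range u v hex]
  exact add_le_add (Module.length_le_of_surjective u.rangeRestrict u.surjective_rangeRestrict)
    (Module.length_le_of_injective (LinearMap.range v).subtype (Submodule.injective_subtype _))

theorem length_eq_add_iff_of_exact (hex : Function.Exact u v) (h1 : Module.length B X₁ ≠ ⊤)
    (h3 : Module.length B X₃ ≠ ⊤) :
    Module.length B X₂ = Module.length B X₁ + Module.length B X₃ ↔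
      Function.Injective u ∧ Function.Surjective v := by
  constructor
  · intro h
    rw [length_eq_range_add_range u v hex] at h
    have hle1 : Module.length B (LinearMap.range u) ≤ Module.length B X₁ :=
      Module.length_le_of_surjective u.rangeRestrict u.surjective_rangeRestrict
    have hle3 : Module.length B (LinearMap.range v) ≤ Module.length B X₃ :=
      Module.length_le_of_injective (LinearMap.range v).subtype (Submodule.injective_subtype _)
    have hr1 : Module.length B (LinearMap.range u) ≠ ⊤ := ne_top_of_le_ne_top h1 hle1
    have hr3 : Module.length B (LinearMap.range v) ≠ ⊤ := ne_top_of_le_ne_top h3 hle3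
    -- both inequalities are equalities
    have he1 : Module.length B (LinearMap.range u) = Module.length B X₁ := by
      refine le_antisymm hle1 ?_
      by_contra hlt
      rw [not_le] at hlt
      have : Module.length B (LinearMap.range u) + Module.length B (LinearMap.range v) <
          Module.length B X₁ + Module.length B X₃ :=
        ENat.add_lt_add_of_lt_of_le hr3 hlt hle3
      exact absurd h this.ne
    have he3 : Module.length B (LinearMap.range v) = Module.length B X₃ := by
      rw [he1] at h
      exact WithTop.add_left_cancel h1 h
    constructor
    · -- injectivity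
      have hk := Module.length_eq_add_of_exact (LinearMap.ker u).subtype u.rangeRestrict
        (Submodule.injective_subtype _) u.surjective_rangeRestrict (by
          intro x
          constructor
          · intro hx
            have hx' : u x = 0 := congrArg Subtype.val hx
            exact ⟨⟨x, hx'⟩, rfl⟩
          · rintro ⟨y, rfl⟩
            exact Subtype.ext y.2)
      rw [he1] at hk
      have hk0 : Module.length B (LinearMap.ker u) = 0 := by
        have : Module.length B (LinearMap.ker u) + Module.length B X₁ = 0 + Module.length B X₁ := by
          rw [zero_add]; exact hk.symm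
        exact WithTop.add_right_cancel h1 this
      rw [Module.length_eq_zero_iff, Submodule.subsingleton_iff_eq_bot] at hk0
      exact LinearMap.ker_eq_bot.mp hk0
    · -- surjectivity
      have hq := Module.length_eq_add_of_exact (LinearMap.range v).subtype (LinearMap.range v).mkQ
        (Submodule.injective_subtype _) (Submodule.mkQ_surjective _)
        (LinearMap.exact_subtype_mkQ _)
      rw [he3] at hq
      have hq0 : Module.length B (X₃ ⧸ LinearMap.range v) = 0 := by
        have : Module.length B X₃ + Module.length B (X₃ ⧸ LinearMap.range v) =
            Module.length B X₃ + 0 := by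
          rw [add_zero]; exact hq.symm
        exact WithTop.add_left_cancel h3 this
      rw [Module.length_eq_zero_iff, Submodule.Quotient.subsingleton_iff] at hq0
      exact LinearMap.range_eq_top.mp hq0
  · rintro ⟨hi, hs⟩
    exact Module.length_eq_add_of_exact u v hi hs hex

end lin

section functor

variable {A B : Type u} [Ring A] [Ring B]
  (F : ModuleCat.{u} A ⥤ ModuleCat.{u} B) [F.Additive]
  (hF : ∀ S : ShortComplex (ModuleCat.{u} A), S.ShortExact → (S.map F).Exact)
  (hS : ∀ M : ModuleCat.{u} A, IsSimpleModule A M → Module.length B (F.obj M) ≠ ⊤)

include hF hS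

theorem length_map_ne_top_of_isFiniteLength (M : Type u) [AddCommGroup M] [Module A M]
    (h : IsFiniteLength A M) : Module.length B (F.obj (ModuleCat.of A M)) ≠ ⊤ := by
  induction h with
  | of_subsingleton =>
    rename_i M _ _ _
    have hz : IsZero (F.obj (ModuleCat.of A M)) :=
      F.map_isZero (ModuleCat.isZero_of_subsingleton _)
    have := ModuleCat.subsingleton_of_isZero hz
    rw [Module.length_eq_zero_iff.mpr this]
    exact ENat.zero_ne_top
  | of_simple_quotient _ ih =>
    rename_i M _ _ N hsimple _
    let S : ShortComplex (ModuleCat.{u} A) :=
      ShortComplex.mk (ModuleCat.ofHom N.subtype) (ModuleCat.ofHom N.mkQ) (by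
        ext x
        simp)
    have hSex : S.ShortExact := ModuleCat.shortComplex_shortExact S
      (LinearMap.exact_subtype_mkQ N) (Submodule.injective_subtype N) (Submodule.mkQ_surjective N)
    have hex := (ShortComplex.ShortExact.moduleCat_exact_iff_function_exact _).mp (hF S hSex)
    have hle := length_le_add_of_exact (S.map F).f.hom (S.map F).g.hom hex
    have h3 : Module.length B (F.obj (ModuleCat.of A (M ⧸ N))) ≠ ⊤ := hS _ hsimple
    exact ne_top_of_le_ne_top (WithTop.add_ne_top.mpr ⟨ih, h3⟩) hle

theorem length_map_ne_top (E : ModuleCat.{u} A) (h : Module.length A E ≠ ⊤) :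
    Module.length B (F.obj E) ≠ ⊤ :=
  length_map_ne_top_of_isFiniteLength F hF hS E (Module.length_ne_top_iff.mp h)

theorem length_map_le_and_iff (S : ShortComplex (ModuleCat.{u} A)) (hSex : S.ShortExact)
    (h2 : Module.length A S.X₂ ≠ ⊤) :
    Module.length B (F.obj S.X₂) ≤ Module.length B (F.obj S.X₁) + Module.length B (F.obj S.X₃) ∧
      (Module.length B (F.obj S.X₂) = Module.length B (F.obj S.X₁) + Module.length B (F.obj S.X₃) ↔
        (S.map F).ShortExact) := by
  have hexS := hF S hSex
  have hex := (ShortComplex.ShortExact.moduleCat_exact_iff_function_exact _).mp hexS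
  have h1 : Module.length A S.X₁ ≠ ⊤ :=
    ne_top_of_le_ne_top h2 (Module.length_le_of_injective S.f.hom hSex.moduleCat_injective_f)
  have h3 : Module.length A S.X₃ ≠ ⊤ :=
    ne_top_of_le_ne_top h2 (Module.length_le_of_surjective S.g.hom hSex.moduleCat_surjective_g)
  have hF1 := length_map_ne_top F hF hS S.X₁ h1
  have hF3 := length_map_ne_top F hF hS S.X₃ h3
  refine ⟨length_le_add_of_exact (S.map F).f.hom (S.map F).g.hom hex, ?_⟩
  refine (length_eq_add_iff_of_exact (S.map F).f.hom (S.map F).g.hom hex hF1 hF3).trans ?_
  constructor
  · rintro ⟨hi, hs⟩
    exact ShortComplex.ShortExact.mk' hexS ((ModuleCat.mono_iff_injective _).mpr hi)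
      ((ModuleCat.epi_iff_surjective _).mpr hs)
  · intro h
    exact ⟨h.moduleCat_injective_f, h.moduleCat_surjective_g⟩

end functor

end Groth.Agent.H39
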