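import Mathlib

/-!
helper39 library: additivity of local intersection numbers `length A/(f,g)` in a domain where
relatively prime elements behave as in a UFD (`DecompositionMonoid`).
-/

set_option autoImplicit false
set_option linter.unusedSectionVars false

namespace Groth.Agent.H39.IntersectionLength

universe u

variable {A : Type u} [CommRing A] [DecompositionMonoid A]

/-- multiplication by `f`, as a map `A/(h,g) → A/(fh,g)` -/
noncomputable def mulMap (f g h : A) :
    (A ⧸ Ideal.span ({h, g} : Set A)) →ₗ[A] (A ⧸ Ideal.span ({f * h, g} : Set A)) :=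
  Submodule.mapQ (Ideal.span ({h, g} : Set A)) (Ideal.span ({f * h, g} : Set A))
    (LinearMap.lsmul A A f) (by
      intro x hx
      rw [Ideal.mem_span_pair] at hx
      obtain ⟨c, d, rfl⟩ := hx
      rw [Submodule.mem_comap, LinearMap.lsmul_apply, smul_eq_mul, Ideal.mem_span_pair]
      exact ⟨c, f * d, by ring⟩)

/-- the projection `A/(fh,g) → A/(f,g)` -/
noncomputable def projMap (f g h : A) :
    (A ⧸ Ideal.span ({f * h, g} : Set A)) →ₗ[A] (A ⧸ Ideal.span ({f, g} : Set A)) :=
  Submodule.mapQ (Ideal.span ({f * h, g} : Set A)) (Ideal.span ({f, g} : Set A)) LinearMap.id (by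
    intro x hx
    rw [Ideal.mem_span_pair] at hx
    obtain ⟨c, d, rfl⟩ := hx
    rw [Submodule.mem_comap, LinearMap.id_apply, Ideal.mem_span_pair]
    exact ⟨c * h, d, by ring⟩)

theorem mulMap_injective (f g h : A) (hfg : IsRelPrime f g) :
    Function.Injective (mulMap f g h) := by
  rw [← LinearMap.ker_eq_bot, LinearMap.ker_eq_bot']
  intro x hx
  obtain ⟨a, rfl⟩ := Submodule.Quotient.mk_surjective _ x
  rw [mulMap, Submodule.mapQ_apply, Submodule.Quotient.mk_eq_zero, LinearMap.lsmul_apply,
    smul_eq_mul, Ideal.mem_span_pair] at hx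
  obtain ⟨b, c, hbc⟩ := hx
  rw [Submodule.Quotient.mk_eq_zero, Ideal.mem_span_pair]
  have h1 : g ∣ f * (a - b * h) := ⟨c, by linear_combination -hbc⟩
  obtain ⟨e, he⟩ := hfg.symm.dvd_of_dvd_mul_left h1
  exact ⟨b, e, by linear_combination -he⟩

theorem projMap_surjective (f g h : A) : Function.Surjective (projMap f g h) := by
  intro x
  obtain ⟨a, rfl⟩ := Submodule.Quotient.mk_surjective _ x
  exact ⟨Submodule.Quotient.mk a, by simp [projMap]⟩

theorem exact_mulMap_projMap (f g h : A) : Function.Exact (mulMap f g h) (projMap f g h) := by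
  intro x
  obtain ⟨a, rfl⟩ := Submodule.Quotient.mk_surjective _ x
  constructor
  · intro hx
    rw [projMap, Submodule.mapQ_apply, Submodule.Quotient.mk_eq_zero, LinearMap.id_apply,
      Ideal.mem_span_pair] at hx
    obtain ⟨b, c, hbc⟩ := hx
    refine ⟨Submodule.Quotient.mk b, ?_⟩
    rw [mulMap, Submodule.mapQ_apply, LinearMap.lsmul_apply, smul_eq_mul,
      Submodule.Quotient.eq, Ideal.mem_span_pair]
    exact ⟨0, -c, by linear_combination -hbc⟩
  · rintro ⟨y, hy⟩
    obtain ⟨b, rfl⟩ := Submodule.Quotient.mk_surjective _ y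
    rw [← hy, mulMap, Submodule.mapQ_apply, projMap, Submodule.mapQ_apply,
      Submodule.Quotient.mk_eq_zero, LinearMap.id_apply, LinearMap.lsmul_apply, smul_eq_mul,
      Ideal.mem_span_pair]
    exact ⟨b, 0, by ring⟩

/-- additivity of `length A/(f,g)` in `f`, for `f` and `g` relatively prime -/
theorem length_quotient_mul_add (f g h : A) (hfg : IsRelPrime f g) :
    Module.length A (A ⧸ Ideal.span ({f * h, g} : Set A)) =
      Module.length A (A ⧸ Ideal.span ({f, g} : Set A)) +
        Module.length A (A ⧸ Ideal.span ({h, g} : Set A)) := by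
  rw [Module.length_eq_add_of_exact (mulMap f g h) (projMap f g h) (mulMap_injective f g h hfg)
    (projMap_surjective f g h) (exact_mulMap_projMap f g h), add_comm]

end Groth.Agent.H39.IntersectionLength
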