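import Mathlib

set_option autoImplicit false
set_option linter.style.haveILetI false
universe u

namespace Groth.Agent.H39.JacAlg

open MvPolynomial Algebra

variable {A : Type u} [CommRing A] {n m : ℕ} (hmn : m ≤ n) (f : Fin m → MvPolynomial (Fin n) A)

/-- The quotient `A[x_1..x_n]/(f_1..f_m)`. -/
abbrev Bq : Type u := MvPolynomial (Fin n) A ⧸ Ideal.span (Set.range f)

/-- The naive generators of `Bq f`. -/
noncomputable def gens : Algebra.Generators A (Bq f) (Fin n) :=
  Algebra.Generators.naive (I := Ideal.span (Set.range f))

theorem aeval_val (p : MvPolynomial (Fin n) A) :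
    MvPolynomial.aeval (gens f).val p = Ideal.Quotient.mk (Ideal.span (Set.range f)) p := by
  rw [← Algebra.Generators.algebraMap_apply]
  rfl

theorem mem_ker (k : Fin m) : f k ∈ (gens f).toExtension.ker := by
  change f k ∈ (gens f).ker
  rw [gens, Algebra.Generators.ker_naive]
  exact Ideal.subset_span (Set.mem_range_self k)

theorem span_eq_ker : Ideal.span (Set.range f) = (gens f).toExtension.ker := by
  change _ = (gens f).ker
  rw [gens, Algebra.Generators.ker_naive]

/-- the classes of the `f k` in the conormal module -/
noncomputable def c (k : Fin m) : (gens f).toExtension.Cotangent :=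
  Extension.Cotangent.mk ⟨f k, mem_ker f k⟩

/-- linear combinations of the classes of the `f k` -/
noncomputable def Lc : (Fin m → Bq f) →ₗ[Bq f] (gens f).toExtension.Cotangent :=
  Fintype.linearCombination (Bq f) (c f)

theorem Lc_surjective : Function.Surjective (Lc f) := by
  rw [← LinearMap.range_eq_top, Lc, Fintype.range_linearCombination]
  have := Extension.Cotangent.span_eq_top_of_span_eq_ker (P := (gens f).toExtension) f
    (span_eq_ker f)
  exact this

/-- the full Jacobian matrix, with entries in the quotient -/
noncomputable def Jfull : Matrix (Fin n) (Fin m) (Bq f) :=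
  Matrix.of fun l j => Ideal.Quotient.mk (Ideal.span (Set.range f)) (pderiv l (f j))

/-- the Jacobian matrix of the first `m` variables, with entries in the quotient -/
noncomputable def J : Matrix (Fin m) (Fin m) (Bq f) :=
  Matrix.of fun i j => Ideal.Quotient.mk (Ideal.span (Set.range f)) (pderiv (Fin.castLE hmn i) (f j))

theorem det_J : (J hmn f).det = Ideal.Quotient.mk (Ideal.span (Set.range f))
    (Matrix.det (Matrix.of fun i j : Fin m => pderiv (Fin.castLE hmn i) (f j))) := by
  rw [RingHom.map_det]
  rfl

/-- coordinates on the cotangent space -/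
noncomputable def R : (gens f).toExtension.CotangentSpace ≃ₗ[Bq f] (Fin n → Bq f) :=
  (gens f).cotangentSpaceBasis.equivFun

theorem R_delta_Lc (v : Fin m → Bq f) :
    R f ((gens f).toExtension.cotangentComplex (Lc f v)) = (Jfull f).mulVec v := by
  funext l
  simp only [Lc, Fintype.linearCombination_apply, map_sum, map_smul, c,
    Extension.cotangentComplex_mk, R, Module.Basis.equivFun_apply, Finset.sum_apply, Pi.smul_apply,
    Algebra.Generators.cotangentSpaceBasis_repr_one_tmul, aeval_val, smul_eq_mul,
    Matrix.mulVec, dotProduct, Jfull, Matrix.of_apply]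
  exact Finset.sum_congr rfl fun k _ => mul_comm _ _

/-- the contracting map built from the adjugate of the Jacobian -/
noncomputable def hmap :
    (gens f).toExtension.CotangentSpace →ₗ[Bq f] (gens f).toExtension.Cotangent :=
  (Lc f) ∘ₗ (J hmn f).adjugate.mulVecLin ∘ₗ
    (LinearMap.funLeft (Bq f) (Bq f) (Fin.castLE hmn)) ∘ₗ (R f).toLinearMap

theorem hmap_comp_delta :
    (hmap hmn f) ∘ₗ (gens f).toExtension.cotangentComplex = (J hmn f).det • LinearMap.id := by
  refine LinearMap.ext fun x => ?_
  obtain ⟨v, rfl⟩ := Lc_surjective f x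
  simp only [hmap, LinearMap.coe_comp, LinearEquiv.coe_coe, Function.comp_apply, R_delta_Lc,
    LinearMap.smul_apply, LinearMap.id_coe, id_eq]
  have h1 : (LinearMap.funLeft (Bq f) (Bq f) (Fin.castLE hmn)) ((Jfull f).mulVec v) =
      (J hmn f).mulVec v := by
    funext i
    simp [LinearMap.funLeft_apply, Matrix.mulVec, dotProduct, J, Jfull]
  rw [h1, Matrix.mulVecLin_apply, Matrix.mulVec_mulVec, Matrix.adjugate_mul, Matrix.smul_mulVec,
    Matrix.one_mulVec, map_smul]

theorem delta_comp_hmap (hnm : n = m) :
    (gens f).toExtension.cotangentComplex ∘ₗ (hmap hmn f) = (J hmn f).det • LinearMap.id := by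
  subst hnm
  refine LinearMap.ext fun x => ?_
  apply (R f).injective
  simp only [hmap, LinearMap.coe_comp, LinearEquiv.coe_coe, Function.comp_apply, R_delta_Lc,
    LinearMap.smul_apply, LinearMap.id_coe, id_eq, map_smul]
  have h0 : Jfull f = J hmn f := by
    ext i j
    simp [J, Jfull]
  have h1 : (LinearMap.funLeft (Bq f) (Bq f) (Fin.castLE hmn)) (R f x) = R f x := by
    funext i
    simp [LinearMap.funLeft_apply]
  rw [h1, h0, Matrix.mulVecLin_apply, Matrix.mulVec_mulVec, Matrix.mul_adjugate,
    Matrix.smul_mulVec, Matrix.one_mulVec]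

end Groth.Agent.H39.JacAlg
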