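import Mathlib
import Groth.Prelude.Def_DRing2
import Groth.Agent.H59.NLHomotopy
import Groth.Agent.H35.TorAmpCone
import Groth.Agent.H35.TorDimAmp
import Groth.Agent.H35.TorAmpBounded

set_option autoImplicit false
set_option linter.style.haveILetI false
universe u

namespace Groth.Agent.H39.NLFlatA

open CategoryTheory CategoryTheory.Limits HomologicalComplex Groth.Agent.H59.NLHomotopy

attribute [local instance] HasDerivedCategory.standard

variable {S : Type u} [CommRing S]

section SES

variable {M N : ModuleCat.{u} S} (φ : M ⟶ N)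

/-- inclusion of the degree-0 term -/
noncomputable def incl : (single (ModuleCat.{u} S) (ComplexShape.up ℤ) 0).obj N ⟶ double φ rel :=
  mkHomFromSingle (doubleXIso₁ φ rel ne).inv (fun k hk => by
    have : k = 1 := by simpa using hk.symm
    subst this
    exact (isZero_double_X φ rel 1 (by decide) (by decide)).eq_of_tgt _ _)

/-- projection to the degree-(-1) term -/
noncomputable def proj : double φ rel ⟶ (single (ModuleCat.{u} S) (ComplexShape.up ℤ) (-1)).obj M :=
  mkHomToSingle (doubleXIso₀ φ rel).hom (fun i hi => by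
    have : i = -2 := by
      have := hi
      simp at this
      omega
    subst this
    exact (isZero_double_X φ rel (-2) (by decide) (by decide)).eq_of_src _ _)

theorem incl_proj : incl φ ≫ proj φ = 0 := by
  refine HomologicalComplex.hom_ext _ _ (fun k => ?_)
  by_cases h0 : k = 0
  · subst h0
    exact (isZero_single_obj_X (ComplexShape.up ℤ) (-1) M 0 (by decide)).eq_of_tgt _ _
  · exact (isZero_single_obj_X (ComplexShape.up ℤ) 0 N k h0).eq_of_src _ _

/-- the short complex `0 → N[0] → (M → N) → M[1] → 0` -/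
noncomputable def sc : ShortComplex (CochainComplex (ModuleCat.{u} S) ℤ) :=
  ShortComplex.mk (incl φ) (proj φ) (incl_proj φ)

theorem sc_shortExact : (sc φ).ShortExact := by
  refine HomologicalComplex.shortExact_of_degreewise_shortExact _ (fun k => ?_)
  by_cases h0 : k = 0
  · subst h0
    have hz : IsZero (((sc φ).map (eval _ _ 0)).X₃) := by
      change IsZero (((single (ModuleCat.{u} S) (ComplexShape.up ℤ) (-1)).obj M).X 0)
      exact isZero_single_obj_X (ComplexShape.up ℤ) (-1) M 0 (by decide)
    have hiso : IsIso (((sc φ).map (eval _ _ 0)).f) := by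
      change IsIso ((incl φ).f 0)
      rw [incl, mkHomFromSingle_f]
      infer_instance
    have hg : ((sc φ).map (eval _ _ 0)).g = 0 := hz.eq_of_tgt _ _
    refine ShortComplex.ShortExact.mk' ?_ inferInstance ?_
    · rw [ShortComplex.exact_iff_epi _ hg]
      infer_instance
    · exact ⟨fun _ _ _ => hz.eq_of_src _ _⟩
  · by_cases h1 : k = -1
    · subst h1
      have hz : IsZero (((sc φ).map (eval _ _ (-1))).X₁) := by
        change IsZero (((single (ModuleCat.{u} S) (ComplexShape.up ℤ) 0).obj N).X (-1))
        exact isZero_single_obj_X (ComplexShape.up ℤ) 0 N (-1) (by decide)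
      have hiso : IsIso (((sc φ).map (eval _ _ (-1))).g) := by
        change IsIso ((proj φ).f (-1))
        rw [proj, mkHomToSingle_f]
        infer_instance
      have hf : ((sc φ).map (eval _ _ (-1))).f = 0 := hz.eq_of_src _ _
      refine ShortComplex.ShortExact.mk' ?_ ?_ inferInstance
      · rw [ShortComplex.exact_iff_mono _ hf]
        infer_instance
      · exact ⟨fun _ _ _ => hz.eq_of_tgt _ _⟩
    · have hz1 : IsZero (((sc φ).map (eval _ _ k)).X₁) := by
        change IsZero (((single (ModuleCat.{u} S) (ComplexShape.up ℤ) 0).obj N).X k)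
        exact isZero_single_obj_X (ComplexShape.up ℤ) 0 N k h0
      have hz2 : IsZero (((sc φ).map (eval _ _ k)).X₂) := by
        change IsZero ((double φ rel).X k)
        exact isZero_double_X φ rel k h1 h0
      have hz3 : IsZero (((sc φ).map (eval _ _ k)).X₃) := by
        change IsZero (((single (ModuleCat.{u} S) (ComplexShape.up ℤ) (-1)).obj M).X k)
        exact isZero_single_obj_X (ComplexShape.up ℤ) (-1) M k h1
      refine ShortComplex.ShortExact.mk' (ShortComplex.exact_of_isZero_X₂ _ hz2) ?_ ?_
      · exact ⟨fun _ _ _ => hz1.eq_of_tgt _ _⟩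
      · exact ⟨fun _ _ _ => hz3.eq_of_src _ _⟩

open Groth.Agent.H35.KF in
/-- a module `M` with `M[0]` of tor amplitude in `[0, b]` is flat -/
theorem flat_of_hasTorAmplitudeIn_inD (M : Type u) [AddCommGroup M] [Module S M] (b : ℤ)
    (h : DRing.HasTorAmplitudeIn S 0 b (Dual.inD S M)) : Module.Flat S M := by
  rw [← hasTorDimLE_zero_iff_flat]
  let P := projectiveResolution (ModuleCat.of S M)
  let F := P.cochainComplex
  have hc : ∀ i : ℤ, 0 < i → IsZero (F.X i) := fun i hi =>
    CochainComplex.isZero_of_isStrictlyLE F 0 i hi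
  have hF : ∀ i : ℤ, Module.Flat S (F.X i) := fun i => Groth.Agent.H18.flat_of_projective _
  have : IsIso (DerivedCategory.Q.map P.π') := by
    rw [DerivedCategory.isIso_Q_map_iff_quasiIso (φ := P.π')]
    infer_instance
  let e : DerivedCategory.Q.obj F ≅ Dual.inD S M := @asIso _ _ _ _ (DerivedCategory.Q.map P.π') this
  intro N _ _ p hp
  have hv := torVanishing_of_hasTorAmplitudeIn _ _ _ h F 0 hc hF e
  obtain ⟨k, rfl⟩ : ∃ k, p = k + 1 := ⟨p - 1, by omega⟩
  have h1 := hv (ModuleCat.of S N) (-((k : ℤ) + 1)) (Or.inl (by omega))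
  rw [tensExactAt_cochainComplex_iff] at h1
  obtain ⟨e'⟩ := Groth.Agent.H18.tor_iso_homology_tensCx (ModuleCat.of S M) P (k + 1)
    (ModuleCat.of S N)
  exact ModuleCat.subsingleton_of_isZero (IsZero.of_iso h1 e')

open Groth.Agent.H35.KF in
/-- **Key lemma.**  If the two-term complex `M → N` (degrees `-1, 0`) with `N` flat has tor amplitude in
`[-1, 0]`, then `M` is flat. -/
theorem flat_of_hasTorAmplitudeIn_double (hN : Module.Flat S N)
    (h : DRing.HasTorAmplitudeIn S (-1) 0 (DerivedCategory.Q.obj (double φ rel))) :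
    Module.Flat S M := by
  let T := DerivedCategory.triangleOfSES (sc_shortExact φ)
  have hT : T ∈ distTriang _ := DerivedCategory.triangleOfSES_distinguished _
  have h₁ : DRing.HasTorAmplitudeIn S (-1 + 1) (0 + 1) T.obj₁ := by
    refine ⟨(single (ModuleCat.{u} S) (ComplexShape.up ℤ) 0).obj N, ?_, ?_, ⟨Iso.refl _⟩⟩
    · intro i hi
      exact isZero_single_obj_X (ComplexShape.up ℤ) 0 N i (by omega)
    · intro i
      by_cases hi : i = 0
      · subst hi
        exact isFlat_of_iso (singleObjXSelf (ComplexShape.up ℤ) 0 N).symm hN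
      · exact isFlat_of_isZero (isZero_single_obj_X (ComplexShape.up ℤ) 0 N i hi)
  have h₃ : DRing.HasTorAmplitudeIn S (-1) 0
      ((DerivedCategory.singleFunctor (ModuleCat.{u} S) (-1)).obj M) :=
    hasTorAmplitudeIn_cone (-1) 0 T hT h₁ h
  have e : (shiftFunctor (Dual.D S) (1 : ℤ)).obj
      ((DerivedCategory.singleFunctor (ModuleCat.{u} S) 0).obj M) ≅
      (DerivedCategory.singleFunctor (ModuleCat.{u} S) (-1)).obj M :=
    ((DerivedCategory.singleFunctors (ModuleCat.{u} S)).shiftIso 1 (-1) 0 (by omega)).app M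
  have h₄ := hasTorAmplitudeIn_of_iso e.symm _ _ h₃
  have h₅ := hasTorAmplitudeIn_shift _ (-1) 0 (-1) h₄
  have h₆ := hasTorAmplitudeIn_of_iso
    ((shiftFunctorCompIsoId (Dual.D S) 1 (-1) (by omega)).app
      ((DerivedCategory.singleFunctor (ModuleCat.{u} S) 0).obj M)) _ _ h₅
  have h₇ : DRing.HasTorAmplitudeIn S 0 1 (Dual.inD S M) := by
    have e2 : (-1 : ℤ) - -1 = 0 := by omega
    have e3 : (0 : ℤ) - -1 = 1 := by omega
    rw [e2, e3] at h₆
    exact h₆
  exact flat_of_hasTorAmplitudeIn_inD M 1 h₇

end SES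

end Groth.Agent.H39.NLFlatA
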