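import Mathlib
import Groth.Prelude.Def_DRing2
import Groth.Agent.H59.NLHomotopy
import Groth.Agent.H39.NLFlatA

set_option autoImplicit false
set_option linter.style.haveILetI false
universe u

namespace Groth.Agent.H39.JacExt

open CategoryTheory CategoryTheory.Limits HomologicalComplex Groth.Agent.H59.NLHomotopy
  Groth.Agent.H39.NLFlatA Pretriangulated

attribute [local instance] HasDerivedCategory.standard

variable {S : Type u} [CommRing S] {M Ω : ModuleCat.{u} S} (δ : M ⟶ Ω) (h : Ω ⟶ M) (g : S)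

/-- `g • proj` is null-homotopic when `δ ≫ h = g`. -/
noncomputable def homotopyProj (hδ : δ ≫ h = g • 𝟙 M) : Homotopy (g • proj δ) 0 := by
  refine homotopyOfDouble (g • proj δ) 0
    (h ≫ (singleObjXSelf (ComplexShape.up ℤ) (-1) M).inv) ?_ ?_
  · rw [HomologicalComplex.zero_f, add_zero, ← Category.assoc δ, hδ]
    change g • (proj δ).f (-1) = _
    rw [proj, mkHomToSingle_f]
    simp [Linear.smul_comp, Linear.comp_smul]
  · exact (isZero_single_obj_X (ComplexShape.up ℤ) (-1) M 0 (by decide)).eq_of_tgt _ _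

/-- `g • 𝟙` is null-homotopic when `δ ≫ h = g` and `h ≫ δ = g`. -/
noncomputable def homotopyId (hδ : δ ≫ h = g • 𝟙 M) (hδ' : h ≫ δ = g • 𝟙 Ω) :
    Homotopy (g • 𝟙 (double δ rel)) 0 := by
  refine homotopyOfDouble (g • 𝟙 (double δ rel)) 0
    (h ≫ (doubleXIso₀ δ rel).inv) ?_ ?_
  · rw [HomologicalComplex.zero_f, add_zero, ← Category.assoc δ, hδ]
    change g • (𝟙 (double δ rel) : _ ⟶ _).f (-1) = _
    simp [Linear.smul_comp, Linear.comp_smul]
  · rw [HomologicalComplex.zero_f, add_zero, double_d δ rel ne]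
    change g • (𝟙 (double δ rel) : _ ⟶ _).f 0 = _
    simp only [Category.assoc, Iso.inv_hom_id_assoc]
    rw [← Category.assoc h, hδ']
    simp [Linear.smul_comp, Linear.comp_smul]

theorem smul_id_eq_zero (hδ : δ ≫ h = g • 𝟙 M) (hδ' : h ≫ δ = g • 𝟙 Ω) :
    g • 𝟙 (DerivedCategory.Q.obj (double δ rel)) = 0 := by
  have := DerivedCategory.Q_map_eq_of_homotopy _ (homotopyId δ h g hδ hδ')
  rw [Functor.map_zero, Functor.map_smul, CategoryTheory.Functor.map_id] at this
  exact this

theorem smul_eq_zero_of_projective [Projective Ω] (hδ : δ ≫ h = g • 𝟙 M) (N : ModuleCat.{u} S)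
    (φ : DerivedCategory.Q.obj (double δ rel) ⟶
      ((DerivedCategory.singleFunctor (ModuleCat.{u} S) 0).obj N)⟦(1 : ℤ)⟧) :
    g • φ = 0 := by
  let T := DerivedCategory.triangleOfSES (sc_shortExact δ)
  have hT : T ∈ distTriang _ := DerivedCategory.triangleOfSES_distinguished _
  have h1 : T.mor₁ ≫ φ = 0 := by
    rw [← cancel_mono (((DerivedCategory.singleFunctors (ModuleCat.{u} S)).shiftIso 1 (-1) 0
      (by omega)).hom.app N), zero_comp]
    exact DerivedCategory.from_singleFunctor_obj_eq_zero_of_projective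
      (L := (CochainComplex.singleFunctor (ModuleCat.{u} S) (-1)).obj N) (n := -1) _ (by omega)
  obtain ⟨ψ, hψ⟩ := Triangle.yoneda_exact₂ T hT φ h1
  have h2 : g • T.mor₂ = 0 := by
    have := DerivedCategory.Q_map_eq_of_homotopy _ (homotopyProj δ h g hδ)
    rw [Functor.map_zero, Functor.map_smul] at this
    exact this
  rw [hψ]
  calc g • (T.mor₂ ≫ ψ) = (g • T.mor₂) ≫ ψ := (Linear.smul_comp _ _ _ _ _ _).symm
    _ = 0 := by rw [h2, zero_comp]

end Groth.Agent.H39.JacExt
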