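import Mathlib
import Groth.Prelude.Def_LCI2
import Groth.Prelude.Def_SheafNL
import Groth.Agent.H39.JacExt
import Groth.Agent.H39.JacAlg

set_option autoImplicit false
set_option linter.style.haveILetI false
universe u

namespace Groth.Agent.H39.JacMain

open CategoryTheory CategoryTheory.Limits HomologicalComplex Groth.Agent.H59.NLHomotopy
  Groth.Agent.H39.JacAlg Groth.Agent.H39.JacExt MvPolynomial

attribute [local instance] HasDerivedCategory.standard

theorem main (A : Type u) [CommRing A] (n m : ℕ) (hmn : m ≤ n)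
    (f : Fin m → MvPolynomial (Fin n) A) :
    (∀ (N : Type u) [AddCommGroup N]
      [Module (MvPolynomial (Fin n) A ⧸ Ideal.span (Set.range f)) N]
      (φ : LCI.NL A (MvPolynomial (Fin n) A ⧸ Ideal.span (Set.range f)) ⟶
        (Dual.inD (MvPolynomial (Fin n) A ⧸ Ideal.span (Set.range f)) N)⟦(1 : ℤ)⟧),
      (Ideal.Quotient.mk (Ideal.span (Set.range f)) (Matrix.det (Matrix.of
        (fun i j : Fin m => MvPolynomial.pderiv (Fin.castLE hmn i) (f j))))) • φ = 0) ∧
    (n = m → (Ideal.Quotient.mk (Ideal.span (Set.range f)) (Matrix.det (Matrix.of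
        (fun i j : Fin m => MvPolynomial.pderiv (Fin.castLE hmn i) (f j))))) •
      𝟙 (LCI.NL A (MvPolynomial (Fin n) A ⧸ Ideal.span (Set.range f))) = 0) := by
  rw [← det_J hmn f]
  let P : Algebra.Extension.{u} A (Bq f) := (gens f).toExtension
  let δ' : ModuleCat.of (Bq f) P.Cotangent ⟶ ModuleCat.of (Bq f) P.CotangentSpace :=
    ModuleCat.ofHom P.cotangentComplex
  let h' : ModuleCat.of (Bq f) P.CotangentSpace ⟶ ModuleCat.of (Bq f) P.Cotangent :=
    ModuleCat.ofHom (hmap hmn f)
  have hδ : δ' ≫ h' = (J hmn f).det • 𝟙 _ := by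
    apply ModuleCat.hom_ext
    exact hmap_comp_delta hmn f
  obtain ⟨e⟩ := nonempty_toD_iso (Q := P) (Q' := (Algebra.Generators.self A (Bq f)).toExtension)
    ((gens f).defaultHom (Algebra.Generators.self A (Bq f))).toExtensionHom
    ((Algebra.Generators.self A (Bq f)).defaultHom (gens f)).toExtensionHom
  have e' : DerivedCategory.Q.obj (double δ' rel) ≅ LCI.NL A (Bq f) := e
  haveI : Module.Free (Bq f) P.CotangentSpace :=
    inferInstanceAs (Module.Free (Bq f) (gens f).toExtension.CotangentSpace)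
  haveI : Projective (ModuleCat.of (Bq f) P.CotangentSpace) :=
    (IsProjective.iff_projective _).1 inferInstance
  refine ⟨fun N _ _ φ => ?_, fun hnm => ?_⟩
  · have h0 := smul_eq_zero_of_projective δ' h' (J hmn f).det hδ (ModuleCat.of (Bq f) N)
      (e'.hom ≫ φ)
    calc (J hmn f).det • φ = (J hmn f).det • (e'.inv ≫ (e'.hom ≫ φ)) := by
          rw [Iso.inv_hom_id_assoc]
      _ = e'.inv ≫ ((J hmn f).det • (e'.hom ≫ φ)) := (Linear.comp_smul _ _ _ _ _ _).symm
      _ = 0 := by rw [h0, comp_zero]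
  · have hδ' : h' ≫ δ' = (J hmn f).det • 𝟙 _ := by
      apply ModuleCat.hom_ext
      exact delta_comp_hmap hmn f hnm
    have h0 := smul_id_eq_zero δ' h' (J hmn f).det hδ hδ'
    calc (J hmn f).det • 𝟙 (LCI.NL A (Bq f))
        = (J hmn f).det • (e'.inv ≫ 𝟙 _ ≫ e'.hom) := by
          rw [Category.id_comp, Iso.inv_hom_id]
      _ = e'.inv ≫ ((J hmn f).det • 𝟙 _) ≫ e'.hom := by
          rw [Linear.smul_comp, Linear.comp_smul]
      _ = 0 := by rw [h0, zero_comp, comp_zero]

end Groth.Agent.H39.JacMain
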