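import Mathlib
import Groth.Agent.S0561
import Groth.Agent.Lead.RegularLocal

/-!
# Transversal intersections in a regular local ring
-/

set_option autoImplicit false
set_option linter.style.haveILetI false
universe u

open IsLocalRing

namespace Groth.Agent.H39

/-- the maximal ideal of a quotient of a local ring is the image of the maximal ideal. -/
theorem map_mk_maximalIdeal {R : Type u} [CommRing R] [IsLocalRing R] (I : Ideal R)
    [IsLocalRing (R ⧸ I)] :
    Ideal.map (Ideal.Quotient.mk I) (maximalIdeal R) = maximalIdeal (R ⧸ I) := by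
  have hloc : IsLocalHom (Ideal.Quotient.mk I) := .of_surjective _ Ideal.Quotient.mk_surjective
  have h := ((IsLocalRing.local_hom_TFAE (Ideal.Quotient.mk I)).out 0 4).mp hloc
  rw [← h, Ideal.map_comap_of_surjective _ Ideal.Quotient.mk_surjective]

/-- In a regular local ring of dimension `n`, an ideal with regular quotient of dimension `a` is
generated by at most `n - a` elements. -/
theorem exists_finset_span_eq_of_regular_quotient (R : Type u) [CommRing R] [IsRegularLocalRing R]
    (n : ℕ) (hn : ringKrullDim R = n) (I : Ideal R) [IsRegularLocalRing (R ⧸ I)] (a : ℕ)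
    (ha : ringKrullDim (R ⧸ I) = a) :
    ∃ s : Finset R, Ideal.span (s : Set R) = I ∧ s.card + a ≤ n := by
  classical
  obtain ⟨x, c, hc, hx, hI⟩ := Groth.Agent.S0561.result R n hn I
  refine ⟨Finset.univ.image (fun i : Fin c => x (Fin.castLE hc i)), ?_, ?_⟩
  · rw [Finset.coe_image, Finset.coe_univ, Set.image_univ, ← hI]
  · have hcard : (Finset.univ.image (fun i : Fin c => x (Fin.castLE hc i))).card ≤ c := by
      refine Finset.card_image_le.trans ?_
      simp
    -- the maximal ideal of `R ⧸ I` is generated by the images of `x j`, `c ≤ j`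
    set T : Finset (R ⧸ I) := Finset.univ.image
      (fun j : Fin (n - c) => Ideal.Quotient.mk I (x ⟨c + j, by omega⟩)) with hT
    have hTcard : T.card ≤ n - c := by
      refine Finset.card_image_le.trans ?_
      simp
    have hmax : maximalIdeal (R ⧸ I) ≤ Ideal.span (T : Set (R ⧸ I)) := by
      rw [← map_mk_maximalIdeal I, ← hx, Ideal.map_span, Ideal.span_le]
      rintro _ ⟨_, ⟨j, rfl⟩, rfl⟩
      by_cases hj : j.val < c
      · have : x j ∈ I := by
          rw [hI]
          apply Ideal.subset_span
          exact ⟨⟨j.val, hj⟩, by congr 1⟩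
        rw [Ideal.Quotient.eq_zero_iff_mem.mpr this]
        exact zero_mem _
      · apply Ideal.subset_span
        rw [hT, Finset.coe_image]
        refine ⟨⟨j.val - c, by omega⟩, by simp, ?_⟩
        simp only
        congr 2
        apply Fin.ext
        simp only
        omega
    have hmax' : maximalIdeal (R ⧸ I) = Ideal.span (T : Set (R ⧸ I)) := by
      refine le_antisymm hmax ?_
      rw [Ideal.span_le]
      intro y hy
      rw [hT, Finset.coe_image] at hy
      obtain ⟨j, -, rfl⟩ := hy
      rw [← map_mk_maximalIdeal I]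
      apply Ideal.mem_map_of_mem
      rw [← hx]
      exact Ideal.subset_span ⟨_, rfl⟩
    have h1 : (maximalIdeal (R ⧸ I)).spanFinrank ≤ n - c := by
      rw [hmax']
      refine (Submodule.spanFinrank_span_le_ncard_of_finite (Finset.finite_toSet T)).trans ?_
      rw [Set.ncard_coe_finset]
      exact hTcard
    have h2 := ringKrullDim_le_spanFinrank_maximalIdeal (R ⧸ I)
    rw [ha] at h2
    have h3 : a ≤ (maximalIdeal (R ⧸ I)).spanFinrank := by exact_mod_cast h2
    omega

/-- **Transversal intersection** of regular quotients of a regular local ring is regular. -/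
theorem isRegularLocalRing_quotient_sup_of_transversal {R : Type u} [CommRing R]
    [IsRegularLocalRing R]
    (I J : Ideal R) [IsRegularLocalRing (R ⧸ I)] [IsRegularLocalRing (R ⧸ J)]
    [IsLocalRing (R ⧸ (I ⊔ J))]
    (n a b : ℕ) (hn : ringKrullDim R = n) (ha : ringKrullDim (R ⧸ I) = a)
    (hb : ringKrullDim (R ⧸ J) = b)
    (ht : Module.finrank (IsLocalRing.ResidueField (R ⧸ (I ⊔ J)))
      (IsLocalRing.CotangentSpace (R ⧸ (I ⊔ J))) + n = a + b) :
    IsRegularLocalRing (R ⧸ (I ⊔ J)) ∧
      ringKrullDim (R ⧸ (I ⊔ J)) = ((a + b - n : ℕ) : WithBot ℕ∞) := by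
  classical
  obtain ⟨s, hs, hsc⟩ := exists_finset_span_eq_of_regular_quotient R n hn I a ha
  obtain ⟨s', hs', hsc'⟩ := exists_finset_span_eq_of_regular_quotient R n hn J b hb
  have hne : I ⊔ J ≠ ⊤ := by
    intro h
    have : Nontrivial (R ⧸ (I ⊔ J)) := inferInstance
    exact (Ideal.Quotient.nontrivial_iff.mp this) h
  have hk : (I ⊔ J).spanFinrank ≤ s.card + s'.card := by
    have : I ⊔ J = Ideal.span ((s ∪ s' : Finset R) : Set R) := by
      rw [Finset.coe_union, Ideal.span_union, hs, hs']
    rw [this]
    refine (Submodule.spanFinrank_span_le_ncard_of_finite (Finset.finite_toSet _)).trans ?_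
    rw [Set.ncard_coe_finset]
    exact Finset.card_union_le _ _
  have h1 := ringKrullDim_le_ringKrullDim_add_spanFinrank hne
  have h2 := ringKrullDim_le_spanFinrank_maximalIdeal (R ⧸ (I ⊔ J))
  rw [IsLocalRing.spanFinrank_maximalIdeal_eq_finrank_cotangentSpace] at h2
  set t := Module.finrank (IsLocalRing.ResidueField (R ⧸ (I ⊔ J)))
      (IsLocalRing.CotangentSpace (R ⧸ (I ⊔ J))) with htdef
  obtain ⟨d, hd, hdt⟩ := Groth.Agent.Lead.RLR.exists_nat_eq
    (ringKrullDim_nonneg_of_nontrivial (R := R ⧸ (I ⊔ J))) h2
  rw [hn, hd] at h1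
  have h1' : n ≤ d + (I ⊔ J).spanFinrank := by exact_mod_cast h1
  have hdeq : d = a + b - n := by omega
  have hteq : t = d := by omega
  refine ⟨?_, by rw [hd, hdeq]⟩
  apply IsRegularLocalRing.of_spanFinrank_maximalIdeal_le
  rw [IsLocalRing.spanFinrank_maximalIdeal_eq_finrank_cotangentSpace, hd, ← htdef, hteq]

end Groth.Agent.H39
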