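import Mathlib
import Groth.Agent.H39.Transversal

/-!
# Free Kähler differentials in characteristic zero force regularity

Let `k` be a field of characteristic zero and `R` a Noetherian local `k`-algebra with residue
field `k`.  If `Ω_{R/k}` is free of rank `n`, then `R` is regular of dimension `n`.

* Part A: elements `x₁,…,xₙ` of the maximal ideal admitting dual derivations
  (`∂ᵢ xⱼ = δᵢⱼ`) force `n ≤ dim R` (each `xᵢ` is a non-zero-divisor modulo the previous ones).
* Part B: from a basis of `Ω_{R/k}` one produces such elements generating the maximal ideal.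
-/

set_option autoImplicit false
set_option linter.style.haveILetI false
set_option linter.unusedSectionVars false
universe u

open IsLocalRing

namespace Groth.Agent.H39

section partA

variable {k : Type u} [Field k] [CharZero k]

/-- an element of the maximal ideal with a derivation `∂ x = 1` is a non-zero-divisor
(characteristic zero, Noetherian local). -/
theorem mem_nonZeroDivisors_of_derivation_eq_one {R : Type u} [CommRing R] [Algebra k R]
    [IsLocalRing R] [IsNoetherianRing R] (x : R) (hx : x ∈ maximalIdeal R)
    (d : Derivation k R R) (hd : d x = 1) : x ∈ nonZeroDivisors R := by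
  -- step 1
  have step1 : ∀ (a : ℕ) (y : R), x ^ a * y = 0 → y ∈ Ideal.span ({x} : Set R) := by
    intro a
    induction a with
    | zero =>
      intro y hy
      rw [pow_zero, one_mul] at hy
      rw [hy]
      exact zero_mem _
    | succ a ih =>
      intro y hy
      have h1 : d (x ^ (a + 1) * y) = 0 := by rw [hy, map_zero]
      rw [Derivation.leibniz, Derivation.leibniz_pow, hd] at h1
      simp only [smul_eq_mul, Nat.add_sub_cancel, mul_one, nsmul_eq_mul] at h1
      have h2 : x ^ a * (((a + 1 : ℕ) : R) * y + x * d y) = 0 := by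
        rw [← h1]
        push_cast
        ring
      have h3 := ih _ h2
      have h4 : ((a + 1 : ℕ) : R) * y ∈ Ideal.span ({x} : Set R) := by
        have : x * d y ∈ Ideal.span ({x} : Set R) :=
          Ideal.mul_mem_right _ _ (Ideal.subset_span rfl)
        exact (Ideal.add_mem_iff_left _ this).mp h3
      have hunit : IsUnit (((a + 1 : ℕ) : R)) := by
        have : ((a + 1 : ℕ) : R) = algebraMap k R ((a + 1 : ℕ) : k) := by
          rw [map_natCast]
        rw [this]
        apply IsUnit.map
        rw [isUnit_iff_ne_zero]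
        exact_mod_cast Nat.succ_ne_zero a
      obtain ⟨u, hu⟩ := hunit
      have : y = (↑u⁻¹ : R) * (((a + 1 : ℕ) : R) * y) := by
        rw [← mul_assoc, ← hu, Units.inv_mul, one_mul]
      rw [this]
      exact Ideal.mul_mem_left _ _ h4
  -- step 2
  have step2 : ∀ (j : ℕ) (y : R), (∃ a, x ^ a * y = 0) → y ∈ Ideal.span ({x} : Set R) ^ j := by
    intro j
    induction j with
    | zero =>
      intro y _
      rw [pow_zero, Ideal.one_eq_top]
      trivial
    | succ j ih =>
      rintro y ⟨a, ha⟩
      have hy := step1 a y ha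
      rw [Ideal.mem_span_singleton'] at hy
      obtain ⟨y₁, rfl⟩ := hy
      have h1 : x ^ (a + 1) * y₁ = 0 := by
        rw [← ha]
        ring
      have h2 := ih y₁ ⟨a + 1, h1⟩
      rw [pow_succ]
      exact Ideal.mul_mem_mul h2 (Ideal.subset_span rfl)
  rw [mem_nonZeroDivisors_iff_right]
  intro y hy
  have hne : Ideal.span ({x} : Set R) ≠ ⊤ := by
    intro h
    have : Ideal.span ({x} : Set R) ≤ maximalIdeal R := by
      rw [Ideal.span_le]
      intro z hz
      rw [Set.mem_singleton_iff] at hz
      rw [hz]
      exact hx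
    rw [h] at this
    exact (IsLocalRing.maximalIdeal.isMaximal R).ne_top (top_le_iff.mp this)
  have hbot := Ideal.iInf_pow_eq_bot_of_isLocalRing (Ideal.span ({x} : Set R)) hne
  have hmem : y ∈ ⨅ i, Ideal.span ({x} : Set R) ^ i := by
    rw [Ideal.mem_iInf]
    intro j
    exact step2 j y ⟨1, by rw [pow_one, mul_comm]; exact hy⟩
  rw [hbot] at hmem
  exact hmem

/-- elements of the maximal ideal with dual derivations bound the dimension from below. -/
theorem le_ringKrullDim_of_derivations : ∀ (n : ℕ) (R : Type u) [CommRing R] [Algebra k R]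
    [IsLocalRing R] [IsNoetherianRing R] (x : Fin n → R) (_ : ∀ j, x j ∈ maximalIdeal R)
    (d : Fin n → Derivation k R R)
    (_ : ∀ i j, d i (x j) = if i = j then 1 else 0), (n : WithBot ℕ∞) ≤ ringKrullDim R := by
  intro n
  induction n with
  | zero =>
    intro R _ _ _ _ x _ d _
    exact ringKrullDim_nonneg_of_nontrivial
  | succ n ih =>
    intro R _ _ _ _ x hx d hd
    have hnzd := mem_nonZeroDivisors_of_derivation_eq_one (x 0) (hx 0) (d 0)
      (by simpa using hd 0 0)
    set I := Ideal.span ({x 0} : Set R) with hI
    have hIm : I ≤ maximalIdeal R := by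
      rw [hI, Ideal.span_le]
      intro z hz
      rw [Set.mem_singleton_iff] at hz
      rw [hz]
      exact hx 0
    have hIne : I ≠ ⊤ := by
      intro h
      rw [h] at hIm
      exact (IsLocalRing.maximalIdeal.isMaximal R).ne_top (top_le_iff.mp hIm)
    haveI : IsLocalRing (R ⧸ I) := Groth.Agent.Lead.RLR.isLocalRing_quotient R I hIne
    have hf : Function.Surjective (Ideal.Quotient.mkₐ k I) := Ideal.Quotient.mkₐ_surjective k I
    have hdI : ∀ (i : Fin n) (r : R), Ideal.Quotient.mkₐ k I r = 0 →
        Ideal.Quotient.mkₐ k I (d i.succ r) = 0 := by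
      intro i r hr
      have hr' : r ∈ I := Ideal.Quotient.eq_zero_iff_mem.mp hr
      rw [hI, Ideal.mem_span_singleton'] at hr'
      obtain ⟨c, rfl⟩ := hr'
      have h0 : d i.succ (x 0) = 0 := by
        rw [hd i.succ 0, if_neg (Fin.succ_ne_zero i)]
      rw [Derivation.leibniz, h0, smul_zero, zero_add, smul_eq_mul]
      exact Ideal.Quotient.eq_zero_iff_mem.mpr (Ideal.mul_mem_right _ _ (Ideal.subset_span rfl))
    have key := ih (R ⧸ I) (fun j => Ideal.Quotient.mkₐ k I (x j.succ))
      (fun j => by
        rw [← map_mk_maximalIdeal I]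
        exact Ideal.mem_map_of_mem _ (hx j.succ))
      (fun i => Derivation.liftOfSurjective hf (hdI i))
      (fun i j => by
        rw [Derivation.liftOfSurjective_apply, hd i.succ j.succ]
        by_cases hij : i = j
        · rw [if_pos hij, if_pos (by rw [hij]), map_one]
        · rw [if_neg hij, if_neg (fun h => hij (Fin.succ_injective _ h)), map_zero])
    have hdim := ringKrullDim_quotient_span_singleton_succ_eq_ringKrullDim_of_mem_nonZeroDivisors
      hnzd (hx 0)
    rw [← hdim]
    push_cast
    exact add_le_add_left key 1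

end partA

section partB

variable (k R : Type u) [Field k] [CommRing R] [Algebra k R] [IsLocalRing R] [IsNoetherianRing R]

open KaehlerDifferential in
/-- coordinate derivations attached to a trivialization of `Ω_{R/k}`. -/
noncomputable def coordDer {n : ℕ} (e : Ω[R⁄k] ≃ₗ[R] (Fin n → R)) (i : Fin n) :
    Derivation k R R :=
  ((LinearMap.proj i : (Fin n → R) →ₗ[R] R) ∘ₗ e.toLinearMap).compDer (KaehlerDifferential.D k R)

open KaehlerDifferential in
theorem coordDer_apply {n : ℕ} (e : Ω[R⁄k] ≃ₗ[R] (Fin n → R)) (i : Fin n) (r : R) :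
    coordDer k R e i r = e (KaehlerDifferential.D k R r) i := rfl

open KaehlerDifferential in
/-- a functional on `Rⁿ` taking values in the maximal ideal on all `e (D r)` has coefficients in the
maximal ideal. -/
theorem coeff_mem_of_forall_mem {n : ℕ} (e : Ω[R⁄k] ≃ₗ[R] (Fin n → R)) (c : Fin n → R)
    (h : ∀ r : R, ∑ i, c i * coordDer k R e i r ∈ maximalIdeal R) (i : Fin n) :
    c i ∈ maximalIdeal R := by
  classical
  have key : ∀ ω : Ω[R⁄k], ∑ i, c i * e ω i ∈ maximalIdeal R := by
    intro ω
    have hω : ω ∈ Submodule.span R (Set.range (KaehlerDifferential.D k R)) := by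
      rw [KaehlerDifferential.span_range_derivation]
      trivial
    induction hω using Submodule.span_induction with
    | mem x hx =>
      obtain ⟨r, rfl⟩ := hx
      exact h r
    | zero => simp
    | add x y _ _ hx hy =>
      have : ∑ i, c i * e (x + y) i = ∑ i, c i * e x i + ∑ i, c i * e y i := by
        rw [← Finset.sum_add_distrib]
        refine Finset.sum_congr rfl fun i _ => ?_
        rw [map_add, Pi.add_apply, mul_add]
      rw [this]
      exact Ideal.add_mem _ hx hy
    | smul a x _ hx =>
      have : ∑ i, c i * e (a • x) i = a * ∑ i, c i * e x i := by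
        rw [Finset.mul_sum]
        refine Finset.sum_congr rfl fun i _ => ?_
        rw [map_smul, Pi.smul_apply, smul_eq_mul]
        ring
      rw [this]
      exact Ideal.mul_mem_left _ _ hx
  have := key (e.symm (Pi.single i 1))
  rw [LinearEquiv.apply_symm_apply] at this
  simpa [Pi.single_apply] using this

variable {k R}

open KaehlerDifferential in
/-- every vector of `κⁿ` is the residue of the coordinate derivatives of an element of the maximal
ideal, when the residue field is `k`. -/
theorem exists_mem_maximalIdeal_residue_coordDer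
    (hres : Function.Surjective (algebraMap k (ResidueField R))) {n : ℕ}
    (e : Ω[R⁄k] ≃ₗ[R] (Fin n → R)) (v : Fin n → ResidueField R) :
    ∃ y ∈ maximalIdeal R, ∀ i, residue R (coordDer k R e i y) = v i := by
  classical
  -- the set of attained vectors is a subspace
  let W : Submodule (ResidueField R) (Fin n → ResidueField R) :=
    { carrier := {v | ∃ y ∈ maximalIdeal R, ∀ i, residue R (coordDer k R e i y) = v i}
      zero_mem' := ⟨0, zero_mem _, fun i => by simp⟩
      add_mem' := by
        rintro v w ⟨y, hy, hyv⟩ ⟨z, hz, hzw⟩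
        exact ⟨y + z, Ideal.add_mem _ hy hz, fun i => by
          rw [map_add, map_add, hyv, hzw, Pi.add_apply]⟩
      smul_mem' := by
        rintro c v ⟨y, hy, hyv⟩
        obtain ⟨a, rfl⟩ := hres c
        refine ⟨a • y, ?_, fun i => ?_⟩
        · rw [Algebra.smul_def]
          exact Ideal.mul_mem_left _ _ hy
        · rw [Derivation.map_smul, Algebra.smul_def, map_mul, hyv, Pi.smul_apply, smul_eq_mul]
          congr 1 }
  suffices hW : W = ⊤ by
    have : v ∈ W := by rw [hW]; trivial
    exact this
  by_contra hne
  obtain ⟨l, hl0, hl⟩ := Submodule.exists_le_ker_of_lt_top W (lt_top_iff_ne_top.mpr hne)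
  -- coefficients of the functional
  choose c hc using fun i : Fin n =>
    residue_surjective (R := R) (l (fun j => if i = j then 1 else 0))
  have hl' : ∀ w : Fin n → ResidueField R, l w = ∑ i, residue R (c i) * w i := by
    intro w
    rw [LinearMap.pi_apply_eq_sum_univ l w]
    refine Finset.sum_congr rfl fun i _ => ?_
    rw [hc i, smul_eq_mul, mul_comm]
  have hmem : ∀ r : R, ∑ i, c i * coordDer k R e i r ∈ maximalIdeal R := by
    intro r
    obtain ⟨a, ha⟩ := hres (residue R r)
    set y := r - algebraMap k R a with hy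
    have hym : y ∈ maximalIdeal R := by
      rw [← residue_eq_zero_iff, hy, map_sub, ← ha]
      rw [sub_eq_zero]
      rfl
    have hder : ∀ i, coordDer k R e i r = coordDer k R e i y := by
      intro i
      rw [hy, map_sub, Derivation.map_algebraMap, sub_zero]
    have hyW : (fun i => residue R (coordDer k R e i y)) ∈ W := ⟨y, hym, fun i => rfl⟩
    have h0 := hl hyW
    rw [LinearMap.mem_ker, hl'] at h0
    rw [← residue_eq_zero_iff, map_sum]
    rw [← h0]
    refine Finset.sum_congr rfl fun i _ => ?_
    rw [map_mul, hder i]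
  have hcm : ∀ i, c i ∈ maximalIdeal R := coeff_mem_of_forall_mem k R e c hmem
  apply hl0
  refine LinearMap.ext fun w => ?_
  rw [hl' w, LinearMap.zero_apply]
  refine Finset.sum_eq_zero fun i _ => ?_
  rw [(residue_eq_zero_iff (c i)).mpr (hcm i), zero_mul]

end partB

section partC

open scoped Matrix

variable {k R : Type u} [Field k] [CommRing R] [Algebra k R] [IsLocalRing R] [IsNoetherianRing R]

open KaehlerDifferential in
/-- from a trivialization of `Ω_{R/k}` (residue field `k`) one gets generators of the maximal
ideal together with dual derivations. -/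
theorem exists_dual_derivations (hres : Function.Surjective (algebraMap k (ResidueField R)))
    {n : ℕ} (e : Ω[R⁄k] ≃ₗ[R] (Fin n → R)) :
    ∃ (x : Fin n → R) (d : Fin n → Derivation k R R), (∀ j, x j ∈ maximalIdeal R) ∧
      (∀ i j, d i (x j) = if i = j then 1 else 0) ∧
      maximalIdeal R = Ideal.span (Set.range x) := by
  classical
  choose x hxm hx using fun j : Fin n =>
    exists_mem_maximalIdeal_residue_coordDer hres e (Pi.single j 1)
  set M : Matrix (Fin n) (Fin n) R := Matrix.of fun i j => coordDer k R e i (x j) with hM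
  have hMres : M.map (residue R) = 1 := by
    ext i j
    rw [Matrix.map_apply, hM, Matrix.of_apply, hx j i, Matrix.one_apply, Pi.single_apply]
  have hdet : IsUnit M.det := by
    have h1 : residue R M.det = 1 := by
      rw [RingHom.map_det, RingHom.mapMatrix_apply, hMres, Matrix.det_one]
    by_contra hnu
    have h2 : M.det ∈ maximalIdeal R := (mem_maximalIdeal _).mpr hnu
    rw [← residue_eq_zero_iff, h1] at h2
    exact one_ne_zero h2
  have hinvmul : M⁻¹ * M = 1 := Matrix.nonsing_inv_mul M hdet
  have hmulinv : M * M⁻¹ = 1 := Matrix.mul_nonsing_inv M hdet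
  let d : Fin n → Derivation k R R := fun i =>
    ((LinearMap.proj i : (Fin n → R) →ₗ[R] R) ∘ₗ (Matrix.mulVecLin M⁻¹) ∘ₗ
      e.toLinearMap).compDer (KaehlerDifferential.D k R)
  have hd_apply : ∀ i r, d i r = (M⁻¹ *ᵥ e (D k R r)) i := fun i r => rfl
  have heD : ∀ j, e (D k R (x j)) = fun i => M i j := fun j => rfl
  have hd : ∀ i j, d i (x j) = if i = j then 1 else 0 := by
    intro i j
    rw [hd_apply, heD]
    have : (M⁻¹ *ᵥ fun l => M l j) i = (M⁻¹ * M) i j := by
      rw [Matrix.mul_apply]
      rfl
    rw [this, hinvmul, Matrix.one_apply]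
  refine ⟨x, d, hxm, hd, ?_⟩
  -- the augmentation `R → k`
  have hinj : Function.Injective (algebraMap k (ResidueField R)) :=
    (algebraMap k (ResidueField R)).injective
  let σ : k ≃+* ResidueField R :=
    RingEquiv.ofBijective (algebraMap k (ResidueField R)) ⟨hinj, hres⟩
  let ε : R →+* k := σ.symm.toRingHom.comp (residue R)
  have hε : ∀ r, algebraMap k (ResidueField R) (ε r) = residue R r :=
    fun r => σ.apply_symm_apply (residue R r)
  have hεalg : ∀ a : k, ε (algebraMap k R a) = a := by
    intro a
    apply hinj
    rw [hε]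
    rfl
  have hτ : ∀ r : R, r - algebraMap k R (ε r) ∈ maximalIdeal R := by
    intro r
    rw [← residue_eq_zero_iff, map_sub, sub_eq_zero, ← hε r]
    rfl
  set 𝔪 := maximalIdeal R with h𝔪
  let lin : R →ₗ[k] 𝔪.Cotangent :=
    { toFun := fun r => 𝔪.toCotangent ⟨r - algebraMap k R (ε r), hτ r⟩
      map_add' := fun r s => by
        rw [← map_add]
        congr 1
        apply Subtype.ext
        simp only [Submodule.coe_add, map_add]
        ring
      map_smul' := fun a r => by
        simp only [RingHom.id_apply]
        rw [← algebraMap_smul R a (𝔪.toCotangent _), ← map_smul]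
        congr 1
        apply Subtype.ext
        simp only [SetLike.val_smul, smul_eq_mul]
        rw [Algebra.smul_def, map_mul, hεalg, map_mul]
        ring }
  have hlin : ∀ r, lin r = 𝔪.toCotangent ⟨r - algebraMap k R (ε r), hτ r⟩ := fun r => rfl
  have hleib : ∀ r s, lin (r * s) = r • lin s + s • lin r := by
    intro r s
    rw [hlin, hlin, hlin, ← map_smul, ← map_smul, ← map_add, Ideal.toCotangent_eq]
    have : ((⟨r * s - algebraMap k R (ε (r * s)), hτ _⟩ : 𝔪) : R) -
        ((r • (⟨s - algebraMap k R (ε s), hτ s⟩ : 𝔪) +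
          s • (⟨r - algebraMap k R (ε r), hτ r⟩ : 𝔪) : 𝔪) : R) =
        -((r - algebraMap k R (ε r)) * (s - algebraMap k R (ε s))) := by
      simp only [Submodule.coe_add, SetLike.val_smul, smul_eq_mul, map_mul]
      ring
    rw [this, pow_two]
    exact neg_mem (Ideal.mul_mem_mul (hτ r) (hτ s))
  let dt : Derivation k R 𝔪.Cotangent := Derivation.mk' lin hleib
  have hℓ : ∀ r, dt.liftKaehlerDifferential (D k R r) = lin r :=
    fun r => Derivation.liftKaehlerDifferential_comp_D dt r
  have hlin_m : ∀ y (hy : y ∈ 𝔪), lin y = 𝔪.toCotangent ⟨y, hy⟩ := by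
    intro y hy
    rw [hlin]
    congr 1
    apply Subtype.ext
    show y - algebraMap k R (ε y) = y
    have : ε y = 0 := by
      apply hinj
      rw [hε, map_zero]
      exact (residue_eq_zero_iff y).mpr hy
    rw [this, map_zero, sub_zero]
  apply le_antisymm
  · apply Submodule.le_of_le_smul_of_le_jacobson_bot (IsNoetherian.noetherian 𝔪) (I := 𝔪)
      (maximalIdeal_le_jacobson ⊥)
    intro y hy
    set c := M⁻¹ *ᵥ e (D k R y) with hc
    have hDy : D k R y = ∑ j, c j • D k R (x j) := by
      apply e.injective
      rw [map_sum]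
      simp_rw [map_smul, heD]
      have : (∑ j, c j • fun i => M i j) = M *ᵥ c := by
        ext i
        simp [Matrix.mulVec, dotProduct, Finset.sum_apply, mul_comm]
      rw [this, hc, Matrix.mulVec_mulVec, hmulinv, Matrix.one_mulVec]
    have h1 : 𝔪.toCotangent ⟨y, hy⟩ = 𝔪.toCotangent (∑ j, c j • ⟨x j, hxm j⟩) := by
      rw [← hlin_m y hy, ← hℓ, hDy, map_sum, map_sum]
      refine Finset.sum_congr rfl fun j _ => ?_
      rw [map_smul, map_smul, hℓ, hlin_m (x j) (hxm j)]
    rw [Ideal.toCotangent_eq] at h1
    have h2 : y = (∑ j, c j * x j) + (y - ∑ j, c j * x j) := by ring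
    rw [h2]
    apply Submodule.add_mem_sup
    · exact Ideal.sum_mem _ fun j _ => Ideal.mul_mem_left _ _ (Ideal.subset_span ⟨j, rfl⟩)
    · rw [smul_eq_mul, ← pow_two]
      convert h1 using 2
      simp
  · rw [Ideal.span_le]
    rintro _ ⟨j, rfl⟩
    exact hxm j

/-- **Free differentials in characteristic zero**: `R` is regular of dimension `n`. -/
theorem isRegularLocalRing_of_kaehler_free [CharZero k]
    (hres : Function.Surjective (algebraMap k (ResidueField R)))
    (n : ℕ) (e : KaehlerDifferential k R ≃ₗ[R] (Fin n → R)) :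
    IsRegularLocalRing R ∧ ringKrullDim R = n := by
  classical
  obtain ⟨x, d, hxm, hd, hm⟩ := exists_dual_derivations hres e
  have hge : (n : WithBot ℕ∞) ≤ ringKrullDim R := le_ringKrullDim_of_derivations n R x hxm d hd
  have hle : (maximalIdeal R).spanFinrank ≤ n := by
    rw [hm]
    have : Set.range x = ((Finset.univ.image x : Finset R) : Set R) := by simp
    rw [this]
    refine (Submodule.spanFinrank_span_le_ncard_of_finite (Finset.finite_toSet _)).trans ?_
    rw [Set.ncard_coe_finset]
    refine Finset.card_image_le.trans ?_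
    simp
  have hle' : ((maximalIdeal R).spanFinrank : WithBot ℕ∞) ≤ (n : WithBot ℕ∞) := by
    exact_mod_cast hle
  refine ⟨IsRegularLocalRing.of_spanFinrank_maximalIdeal_le _ (hle'.trans hge), ?_⟩
  exact le_antisymm ((ringKrullDim_le_spanFinrank_maximalIdeal R).trans hle') hge

end partC

end Groth.Agent.H39
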