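import Mathlib
import Groth.Agent.H39.KoszulFlatBC

set_option autoImplicit false
set_option linter.style.haveILetI false
universe u

open AlgebraicGeometry CategoryTheory CategoryTheory.Limits

namespace Groth.Agent.H39.KoszulAtBC

open Groth.Agent.H39.KoszulFlatBC

/-- **S8658**: flat base change of lci morphisms in the factorisation sense. -/
theorem isKoszulAt_baseChange_flat {X Y X' Y' : Scheme.{u}} (f : X ⟶ Y) (g : Y' ⟶ Y) [Flat g]
    (f' : X' ⟶ Y') (g' : X' ⟶ X) (hsq : IsPullback g' f' f g)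
    (hf : ∀ x : X, Synt.IsKoszulAt f x) : ∀ x' : X', Synt.IsKoszulAt f' x' := by
  intro x'
  obtain ⟨U, P, i, π, hxU, hlft, hreg, hsm, hfac⟩ := hf (g' x')
  haveI := hsm
  haveI := hlft
  -- the big pullback square over `U`
  have H1 : IsPullback (g' ∣_ U) (g' ⁻¹ᵁ U).ι U.ι g' := isPullback_morphismRestrict g' U
  have H2 : IsPullback (g' ∣_ U) ((g' ⁻¹ᵁ U).ι ≫ f') (U.ι ≫ f) g := H1.paste_vert hsq
  -- the right square
  have H3 : IsPullback (pullback.fst π g) (pullback.snd π g) π g := IsPullback.of_hasPullback π g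
  -- the induced map
  have hcomm : ((g' ∣_ U) ≫ i) ≫ π = ((g' ⁻¹ᵁ U).ι ≫ f') ≫ g := by
    rw [Category.assoc, hfac, H2.w]
  let i' : ((g' ⁻¹ᵁ U : X'.Opens) : Scheme.{u}) ⟶ pullback π g :=
    pullback.lift ((g' ∣_ U) ≫ i) ((g' ⁻¹ᵁ U).ι ≫ f') hcomm
  have hi'1 : i' ≫ pullback.fst π g = (g' ∣_ U) ≫ i := pullback.lift_fst _ _ _
  have hi'2 : i' ≫ pullback.snd π g = (g' ⁻¹ᵁ U).ι ≫ f' := pullback.lift_snd _ _ _
  -- the left square is a pullback
  have H4 : IsPullback (g' ∣_ U) i' i (pullback.fst π g) := by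
    refine IsPullback.of_bot ?_ hi'1.symm H3
    rw [hi'2, hfac]
    exact H2
  refine ⟨g' ⁻¹ᵁ U, pullback π g, i', pullback.snd π g, hxU, ?_, ?_, inferInstance, hi'2⟩
  · exact MorphismProperty.of_isPullback (P := @LocallyOfFiniteType) H2 hlft
  · exact koszulRegularImmersion_baseChange_flat i (pullback.fst π g) i' (g' ∣_ U) H4 hreg

end Groth.Agent.H39.KoszulAtBC
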