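import Mathlib
import Groth.Agent.H39.SmoothFactorBwd2
import Groth.Agent.H39.SmoothFactor

set_option autoImplicit false
set_option linter.style.haveILetI false
universe u

open AlgebraicGeometry CategoryTheory CategoryTheory.Limits

namespace Groth.Agent.H39.KoszulAtLocal

variable {X Z : Scheme.{u}}

/-- restriction of the inclusion of an open to an open inside it is an isomorphism. -/
theorem isIso_ι_restrict (U W : X.Opens) (hW : W ≤ U) : IsIso (U.ι ∣_ W) := by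
  rw [isIso_iff_isOpenImmersion_and_surjective]
  refine ⟨inferInstance, ⟨fun y => ?_⟩⟩
  refine ⟨⟨⟨y.1, hW y.2⟩, y.2⟩, ?_⟩
  apply Subtype.ext
  rw [morphismRestrict_base_coe]
  rfl

/-- transfer of the closed immersion property from `U.ι ≫ i` to `i` over an open whose preimage
lies in `U`. -/
theorem isClosedImmersion_restrict_of_ι_comp (i : X ⟶ Z) (U : X.Opens) (W : Z.Opens)
    (hW : i ⁻¹ᵁ W ≤ U) (hc : IsClosedImmersion ((U.ι ≫ i) ∣_ W)) : IsClosedImmersion (i ∣_ W) := by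
  have h := morphismRestrict_comp U.ι i W
  haveI : IsIso (U.ι ∣_ (i ⁻¹ᵁ W)) := isIso_ι_restrict U (i ⁻¹ᵁ W) hW
  have h2 : i ∣_ W = inv (U.ι ∣_ (i ⁻¹ᵁ W)) ≫ (U.ι ≫ i) ∣_ W := by
    rw [h, IsIso.inv_hom_id_assoc]
  rw [h2]
  exact (MorphismProperty.cancel_left_of_respectsIso @IsClosedImmersion
    (inv (U.ι ∣_ (i ⁻¹ᵁ W))) ((U.ι ≫ i) ∣_ W)).mpr hc

theorem ker_app_ι_comp (i : X ⟶ Z) (U : X.Opens) (W : Z.Opens) (hW : i ⁻¹ᵁ W ≤ U) :
    RingHom.ker ((U.ι ≫ i).app W).hom = RingHom.ker (i.app W).hom := by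
  have h1 : (U.ι ≫ i).app W = i.app W ≫ U.ι.app (i ⁻¹ᵁ W) := Scheme.Hom.comp_app U.ι i W
  have hinj : Function.Injective (U.ι.app (i ⁻¹ᵁ W)).hom := by
    have : IsIso (U.ι.app (i ⁻¹ᵁ W)) := by
      apply Scheme.Hom.isIso_app
      rw [Scheme.Opens.opensRange_ι]
      exact hW
    exact ((ConcreteCategory.isIso_iff_bijective _).mp this).1
  ext a
  rw [RingHom.mem_ker, RingHom.mem_ker, h1]
  constructor
  · intro ha
    apply hinj
    rw [map_zero]
    exact ha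
  · intro ha
    show (U.ι.app (i ⁻¹ᵁ W)).hom ((i.app W).hom a) = 0
    rw [ha, map_zero]

/-- **locality on the source**: if `U.ι ≫ i` is a Koszul-regular immersion at `x ∈ U` and `i` is
an immersion then `i` is a Koszul-regular immersion at `x`. -/
theorem isRegularImmersionAt_koszul_of_ι_comp (i : X ⟶ Z) [IsImmersion i] (U : X.Opens) (x : X)
    (hx : x ∈ U) (h : RegImm.IsRegularImmersionAt .koszul (U.ι ≫ i) ⟨x, hx⟩) :
    RegImm.IsRegularImmersionAt .koszul i x := by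
  obtain ⟨U₁, hxU₁, hcl, rs, hrs, hker⟩ := h
  haveI := hcl
  have hxU₁' : i x ∈ U₁.1 := by simpa using hxU₁
  obtain ⟨O, hO, hOU⟩ := (i.isEmbedding.isInducing.isOpen_iff).mp U.2
  have hxO : i x ∈ (⟨O, hO⟩ : Z.Opens) := by
    show x ∈ i ⁻¹' O
    rw [hOU]
    exact hx
  obtain ⟨g, hgle, hxg⟩ := U₁.2.exists_basicOpen_le (V := ⟨O, hO⟩ ⊓ U₁.1)
    ⟨i x, ⟨hxO, hxU₁'⟩⟩ hxU₁'
  have hle₁ : Z.basicOpen g ≤ U₁.1 := hgle.trans inf_le_right
  have hpre : i ⁻¹ᵁ (Z.basicOpen g) ≤ U := by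
    intro y hy
    have : i y ∈ O := (hgle hy).1
    have h2 : y ∈ i ⁻¹' O := this
    rw [hOU] at h2
    exact h2
  haveI : IsClosedImmersion ((U.ι ≫ i) ∣_ (Z.basicOpen g)) :=
    ImmCompChart.isClosedImmersion_restrict_of_le (U.ι ≫ i) hle₁
  refine ⟨⟨Z.basicOpen g, U₁.2.basicOpen g⟩, hxg,
    isClosedImmersion_restrict_of_ι_comp i U _ hpre inferInstance,
    rs.map (Z.presheaf.map (homOfLE hle₁).op).hom,
    KoszulFlatBC.isKoszulRegularSeq_map_of_flat _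
      (ImmCompChart.flat_res hle₁ U₁.2 (U₁.2.basicOpen g)) rs hrs, ?_⟩
  rw [← ker_app_ι_comp i U _ hpre,
    ImmCompChart.ker_app_of_le (U.ι ≫ i) hle₁ U₁.2 (U₁.2.basicOpen g), hker, Ideal.map_ofList]

end Groth.Agent.H39.KoszulAtLocal
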