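import Groth.Agent.H79.KoszulCone
import Groth.Prelude.Def_LCI2

set_option autoImplicit false
universe u
open CategoryTheory CochainComplex HomComplex Limits
open Groth.Agent.H79.KoszulCone

namespace Groth.Agent.H39.KoszulBot

variable {A : Type u} [CommRing A]

theorem isZero_X_of_lt (l : List A) (i : ℤ) (hi : i + l.length < 0) :
    IsZero ((Koszul.koszul A l).X i) := by
  induction l generalizing i with
  | nil =>
    exact HomologicalComplex.isZero_single_obj_X (ComplexShape.up ℤ) 0 _ i (by
      simp only [List.length_nil, Nat.cast_zero, add_zero] at hi; omega)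
  | cons f fs ih =>
    change IsZero ((mappingCone (f • 𝟙 (Koszul.koszul A fs))).X i)
    rw [mappingCone.isZero_X_iff]
    simp only [List.length_cons, Nat.cast_add, Nat.cast_one] at hi
    exact ⟨ih (i + 1) (by omega), ih i (by omega)⟩

/-- The bottom term of the Koszul complex is `A`, and the bottom cocycles are the annihilator of
the sequence. -/
theorem exists_bot_equiv : ∀ (l : List A) (n : ℤ) (_ : n + l.length = 0),
    ∃ ε : (Koszul.koszul A l).X n ≃ₗ[A] A, ∀ (m : ℤ) (_ : n + 1 = m)
      (k : (Koszul.koszul A l).X n),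
      ((Koszul.koszul A l).d n m).hom k = 0 ↔ ∀ x ∈ l, x * ε k = 0 := by
  intro l
  induction l with
  | nil =>
    intro n hn
    simp only [List.length_nil, Nat.cast_zero, add_zero] at hn
    subst hn
    have e : (Koszul.koszul A []).X 0 ≅ ModuleCat.of A A :=
      HomologicalComplex.singleObjXSelf (ComplexShape.up ℤ) 0 (ModuleCat.of A A)
    refine ⟨e.toLinearEquiv, ?_⟩
    intro m hm k
    have hd : (Koszul.koszul A []).d 0 m = 0 := by
      apply (HomologicalComplex.isZero_single_obj_X (ComplexShape.up ℤ) 0 (ModuleCat.of A A)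
        m (by omega)).eq_of_tgt
    rw [hd]
    simp
  | cons f fs ih =>
    intro n hn
    simp only [List.length_cons, Nat.cast_add, Nat.cast_one] at hn
    obtain ⟨ε, hε⟩ := ih (n + 1) (by omega)
    let K := Koszul.koszul A fs
    let φ : K ⟶ K := f • 𝟙 K
    have hsub : Subsingleton (K.X n) :=
      ModuleCat.subsingleton_of_isZero (isZero_X_of_lt fs n (by omega))
    have hinj : Function.Injective (fstL φ n (n + 1) rfl) := by
      intro a b hab
      exact ext' φ n (n + 1) rfl a b hab (Subsingleton.elim _ _)
    have hsurj : Function.Surjective (fstL φ n (n + 1) rfl) :=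
      fun p => ⟨inlL φ n (n + 1) rfl p, fstL_inlL φ n (n + 1) rfl p⟩
    let ε' : (mappingCone φ).X n ≃ₗ[A] A :=
      (LinearEquiv.ofBijective (fstL φ n (n + 1) rfl) ⟨hinj, hsurj⟩).trans ε
    have hε' : ∀ k, ε' k = ε (fstL φ n (n + 1) rfl k) := fun k => rfl
    have key : ∀ (m : ℤ) (_ : n + 1 = m) (k : (mappingCone φ).X n),
        ((mappingCone φ).d n m).hom k = 0 ↔ ∀ x ∈ f :: fs, x * ε' k = 0 := by
      intro m hm k
      subst hm
      have h1 := fstL_d φ n (n + 1) (n + 1 + 1) rfl rfl k
      have h2 := sndL_d φ n (n + 1) rfl k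
      have h3 : sndL φ n k = 0 := Subsingleton.elim _ _
      rw [h3, map_zero, add_zero, smul_id_f_apply] at h2
      constructor
      · intro hk
        rw [hk, map_zero] at h1 h2
        have h4 : (K.d (n + 1) (n + 1 + 1)).hom (fstL φ n (n + 1) rfl k) = 0 := by
          rw [eq_comm, neg_eq_zero] at h1
          exact h1
        have h5 := (hε (n + 1 + 1) rfl _).mp h4
        intro x hx
        rw [hε']
        rcases List.mem_cons.mp hx with rfl | hx
        · rw [← smul_eq_mul, ← map_smul, ← h2, map_zero]
        · exact h5 x hx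
      · intro hk
        apply ext' φ (n + 1) (n + 1 + 1) rfl
        · rw [h1, map_zero, neg_eq_zero]
          apply (hε (n + 1 + 1) rfl _).mpr
          intro x hx
          rw [← hε']
          exact hk x (List.mem_cons_of_mem _ hx)
        · rw [h2, map_zero]
          apply ε.injective
          rw [map_smul, map_zero, smul_eq_mul, ← hε']
          exact hk f List.mem_cons_self
    exact ⟨ε', key⟩

/-- A Koszul-regular sequence of positive length has zero annihilator. -/
theorem eq_zero_of_forall_mul_eq_zero (l : List A) (hl : LCI.IsKoszulRegularSeq A l)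
    (hne : l ≠ []) (a : A) (ha : ∀ x ∈ l, x * a = 0) : a = 0 := by
  have hlen : 0 < l.length := List.length_pos_iff.mpr hne
  obtain ⟨n, hn⟩ : ∃ n : ℤ, n + l.length = 0 := ⟨-(l.length : ℤ), by omega⟩
  obtain ⟨ε, hε⟩ := exists_bot_equiv l n hn
  have hker := (hε (n + 1) rfl (ε.symm a)).mpr (by
    intro x hx
    rw [ε.apply_symm_apply]
    exact ha x hx)
  have hH := range_eq_ker_of_isZero_homology (Koszul.koszul A l) n (hl n (by omega))
  have hmem : ε.symm a ∈ LinearMap.ker ((Koszul.koszul A l).d n (n + 1)).hom := hker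
  rw [← hH] at hmem
  obtain ⟨k', hk'⟩ := hmem
  have hsub : Subsingleton ((Koszul.koszul A l).X (n - 1)) :=
    ModuleCat.subsingleton_of_isZero (isZero_X_of_lt l (n - 1) (by omega))
  have h0 : k' = 0 := Subsingleton.elim _ _
  rw [h0, map_zero] at hk'
  have := congrArg ε hk'
  rw [map_zero, ε.apply_symm_apply] at this
  exact this.symm

end Groth.Agent.H39.KoszulBot
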