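import Mathlib
import Groth.Agent.H39.KoszulBot
import Groth.Agent.H39.KoszulQuot
import Groth.Agent.H39.KoszulFlatBC
import Groth.Agent.H39.SmoothSectionCore
import Groth.Agent.H79.KoszulMinGen
import Groth.Agent.H79.KoszulPerm

set_option autoImplicit false
universe u

open Polynomial RingTheory.Sequence

namespace Groth.Agent.H39.KoszulSmoothReg

section poly

variable {A : Type u} [CommRing A]

/-- the polynomial `f₀ + f₁ X + f₂ X² + …` with the entries of the list as coefficients. -/
noncomputable def polyOf : List A → A[X]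
  | [] => 0
  | f :: l => C f + X * polyOf l

theorem coeff_polyOf (l : List A) (j : ℕ) : (polyOf l).coeff j = l.getD j 0 := by
  induction l generalizing j with
  | nil => simp [polyOf]
  | cons f l ih =>
    cases j with
    | zero => simp [polyOf]
    | succ j => simp [polyOf, ih, coeff_C_succ]

theorem mul_eq_zero_of_smul_polyOf (l : List A) (a : A) (h : a • polyOf l = 0) :
    ∀ x ∈ l, x * a = 0 := by
  intro x hx
  obtain ⟨j, hj, rfl⟩ := List.mem_iff_getElem.mp hx
  have h1 := congrArg (fun p => p.coeff j) h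
  simp only [coeff_smul, coeff_polyOf, coeff_zero, smul_eq_mul] at h1
  rw [List.getD_eq_getElem _ _ hj] at h1
  rw [mul_comm]
  exact h1

theorem polyOf_mem (l : List A) : polyOf l ∈ Ideal.ofList (l.map C) := by
  induction l with
  | nil => simp [polyOf]
  | cons f l ih =>
    rw [List.map_cons, Ideal.ofList_cons, polyOf]
    exact Submodule.add_mem _ (Submodule.mem_sup_left (Ideal.mem_span_singleton_self _))
      (Submodule.mem_sup_right (Ideal.mul_mem_left _ _ ih))

theorem map_polyOf {B : Type u} [CommRing B] (ψ : A →+* B) (l : List A) :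
    (polyOf l).map ψ = polyOf (l.map ψ) := by
  induction l with
  | nil => simp [polyOf]
  | cons f l ih => simp [polyOf, ih]

theorem ofList_polyOf (gs : List A[X]) (f : A) (l : List A) :
    Ideal.ofList ((gs ++ [polyOf (f :: l)]) ++ l.map C) =
      Ideal.ofList (gs ++ (f :: l).map C) := by
  rw [List.append_assoc, List.singleton_append, Ideal.ofList_append, Ideal.ofList_append,
    List.map_cons, Ideal.ofList_cons, Ideal.ofList_cons]
  congr 1
  have hX : X * polyOf l ∈ Ideal.ofList (l.map C) := Ideal.mul_mem_left _ _ (polyOf_mem l)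
  apply le_antisymm
  · refine sup_le ?_ le_sup_right
    rw [Ideal.span_singleton_le_iff_mem, polyOf]
    exact Submodule.add_mem _ (Submodule.mem_sup_left (Ideal.mem_span_singleton_self _))
      (Submodule.mem_sup_right hX)
  · refine sup_le ?_ le_sup_right
    rw [Ideal.span_singleton_le_iff_mem]
    have h1 : (C f : A[X]) = polyOf (f :: l) - X * polyOf l := by
      rw [polyOf]; ring
    rw [h1]
    exact Submodule.sub_mem _ (Submodule.mem_sup_left (Ideal.mem_span_singleton_self _))
      (Submodule.mem_sup_right hX)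

theorem polyOf_mem_nonZeroDivisors (l : List A)
    (hann : ∀ a : A, (∀ x ∈ l, x * a = 0) → a = 0) : polyOf l ∈ nonZeroDivisors A[X] :=
  Polynomial.mem_nonZeroDivisors_iff.mpr fun a ha =>
    hann a (mul_eq_zero_of_smul_polyOf l a ha)

theorem isSMulRegular_polyOf (gs fs : List A)
    (hann : ∀ a : A ⧸ Ideal.ofList gs,
      (∀ x ∈ fs.map (Ideal.Quotient.mk (Ideal.ofList gs)), x * a = 0) → a = 0) :
    IsSMulRegular (A[X] ⧸ (Ideal.ofList (gs.map C) • (⊤ : Submodule A[X] A[X]))) (polyOf fs) := by
  rw [isSMulRegular_quotient_iff_mem_of_smul_mem]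
  have hN : (Ideal.ofList (gs.map C) • (⊤ : Submodule A[X] A[X])) =
      (Ideal.ofList gs).map (C : A →+* A[X]) := by
    rw [Ideal.map_ofList]
    exact Ideal.mul_top _
  rw [hN]
  intro p hp
  rw [smul_eq_mul, Ideal.mem_map_C_iff] at hp
  rw [Ideal.mem_map_C_iff]
  have h0 : (polyOf fs * p).map (Ideal.Quotient.mk (Ideal.ofList gs)) = 0 := by
    ext n
    rw [coeff_map, coeff_zero, Ideal.Quotient.eq_zero_iff_mem]
    exact hp n
  rw [Polynomial.map_mul, map_polyOf] at h0
  have h1 := polyOf_mem_nonZeroDivisors _ hann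
  have h2 := (mem_nonZeroDivisors_iff.mp h1).1 _ h0
  intro n
  rw [← Ideal.Quotient.eq_zero_iff_mem, ← coeff_map, h2, coeff_zero]

end poly

theorem flat_C (A : Type u) [CommRing A] : (C : A →+* A[X]).Flat :=
  RingHom.flat_algebraMap_iff.mpr inferInstance

theorem smooth_C (A : Type u) [CommRing A] : (C : A →+* A[X]).Smooth :=
  RingHom.smooth_algebraMap.mpr ⟨inferInstance, inferInstance⟩

theorem comap_C_surjective (A : Type u) [CommRing A] :
    Function.Surjective (PrimeSpectrum.comap (C : A →+* A[X])) := by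
  intro p
  refine ⟨PrimeSpectrum.comap (evalRingHom (0 : A)) p, ?_⟩
  rw [← PrimeSpectrum.comap_comp_apply]
  have : (evalRingHom (0 : A)).comp (C : A →+* A[X]) = RingHom.id A := by
    ext a; simp
  rw [this]
  rfl

/-- Main ring-level statement: a Koszul-regular sequence becomes (ideal-theoretically) a regular
sequence after a smooth surjective-on-spectra extension (an iterated polynomial ring). -/
theorem exists_smooth_regular_aux : ∀ (m : ℕ) (A : Type u) [CommRing A] (gs fs : List A),
    fs.length = m → IsWeaklyRegular A gs → LCI.IsKoszulRegularSeq A (gs ++ fs) →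
    ∃ (B : Type u) (_ : CommRing B) (φ : A →+* B), φ.Smooth ∧
      Function.Surjective (PrimeSpectrum.comap φ) ∧
      ∃ hs : List B, IsWeaklyRegular B (gs.map φ ++ hs) ∧
        Ideal.ofList (gs.map φ ++ hs) = (Ideal.ofList (gs ++ fs)).map φ := by
  intro m
  induction m with
  | zero =>
    intro A _ gs fs hlen hgs hK
    have hfs : fs = [] := List.length_eq_zero_iff.mp hlen
    subst hfs
    refine ⟨A, inferInstance, RingHom.id A, RingHom.Smooth.id A, fun p => ⟨p, rfl⟩, [], ?_, ?_⟩
    · simpa using hgs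
    · simp
  | succ m ih =>
    intro A _ gs fs hlen hgs hK
    obtain ⟨f, fs', rfl⟩ : ∃ f fs', fs = f :: fs' := by
      cases fs with
      | nil => simp at hlen
      | cons f fs' => exact ⟨f, fs', rfl⟩
    have hlen' : fs'.length = m := by simpa using hlen
    -- Koszul-regularity in the quotient by `gs`
    have hKq : LCI.IsKoszulRegularSeq (A ⧸ Ideal.ofList gs)
        ((f :: fs').map (Ideal.Quotient.mk (Ideal.ofList gs))) :=
      Groth.Agent.H39.KoszulQuot.isKoszulRegularSeq_map_of_append
        (φ := Ideal.Quotient.mk (Ideal.ofList gs)) Ideal.Quotient.mk_surjective gs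
        (fun i hi => Groth.Agent.H79.KoszulCone.isZero_homology_of_isWeaklyRegular gs hgs i hi)
        Ideal.mk_ker (f :: fs')
        (Groth.Agent.H79.KoszulPerm.isKoszulRegularSeq_of_perm List.perm_append_comm hK)
    have hann : ∀ a : A ⧸ Ideal.ofList gs,
        (∀ x ∈ (f :: fs').map (Ideal.Quotient.mk (Ideal.ofList gs)), x * a = 0) → a = 0 :=
      fun a ha => Groth.Agent.H39.KoszulBot.eq_zero_of_forall_mul_eq_zero _ hKq (by simp) a ha
    have hreg := isSMulRegular_polyOf gs (f :: fs') hann
    have hgs₁ : IsWeaklyRegular A[X] (gs.map C ++ [polyOf (f :: fs')]) :=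
      (isWeaklyRegular_append_iff _ _ _).mpr
        ⟨Groth.Agent.H39.SmoothSectionCore.isWeaklyRegular_map_of_flat C (flat_C A) gs hgs,
          (isWeaklyRegular_singleton_iff _ _).mpr hreg⟩
    have hK₁ : LCI.IsKoszulRegularSeq A[X] ((gs ++ f :: fs').map C) :=
      Groth.Agent.H39.KoszulFlatBC.isKoszulRegularSeq_map_of_flat C (flat_C A) _ hK
    have hideal : Ideal.ofList ((gs ++ f :: fs').map C) =
        Ideal.ofList ((gs.map C ++ [polyOf (f :: fs')]) ++ fs'.map C) := by
      rw [ofList_polyOf, List.map_append]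
    have hK₂ : LCI.IsKoszulRegularSeq A[X] ((gs.map C ++ [polyOf (f :: fs')]) ++ fs'.map C) :=
      Groth.Agent.H79.KoszulMinGen.regular_of_length_eq _ _ hK₁ hideal (by simp)
    obtain ⟨B, _, φ₁, hsm, hsurj, hs, hreg', hI'⟩ :=
      ih A[X] (gs.map C ++ [polyOf (f :: fs')]) (fs'.map C) (by simpa using hlen') hgs₁ hK₂
    have hlist : (gs.map C ++ [polyOf (f :: fs')]).map φ₁ ++ hs =
        gs.map (φ₁.comp C) ++ (φ₁ (polyOf (f :: fs')) :: hs) := by
      simp
    refine ⟨B, inferInstance, φ₁.comp C, (smooth_C A).comp hsm, ?_,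
      φ₁ (polyOf (f :: fs')) :: hs, ?_, ?_⟩
    · rw [PrimeSpectrum.comap_comp]
      exact (comap_C_surjective A).comp hsurj
    · rw [← hlist]
      exact hreg'
    · rw [← hlist, hI', ← hideal, ← Ideal.map_ofList, Ideal.map_map]

theorem exists_smooth_regular (A : Type u) [CommRing A] (fs : List A)
    (hK : LCI.IsKoszulRegularSeq A fs) :
    ∃ (B : Type u) (_ : CommRing B) (φ : A →+* B), φ.Smooth ∧
      Function.Surjective (PrimeSpectrum.comap φ) ∧
      ∃ hs : List B, IsWeaklyRegular B hs ∧ Ideal.ofList hs = (Ideal.ofList fs).map φ := by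
  obtain ⟨B, _, φ, h1, h2, hs, h3, h4⟩ :=
    exists_smooth_regular_aux fs.length A [] fs rfl (IsWeaklyRegular.nil A A) (by simpa using hK)
  exact ⟨B, inferInstance, φ, h1, h2, hs, by simpa using h3, by simpa using h4⟩

end Groth.Agent.H39.KoszulSmoothReg
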