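import Mathlib
import Groth.Agent.H39.KoszulSmoothReg
import Groth.Agent.H39.RelRegGeom
import Groth.Prelude.Def_RegImm

set_option autoImplicit false
set_option linter.style.haveILetI false
universe u

open AlgebraicGeometry CategoryTheory CategoryTheory.Limits RingTheory.Sequence

namespace Groth.Agent.H39.KoszulSmoothGeom

/-- the sections over `U` of a morphism `Spec B ⟶ U ⊆ X` given by a ring map. -/
theorem appLE_SpecMap_fromSpec {X : Scheme.{u}} {U : X.Opens} (hU : IsAffineOpen U)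
    {B : CommRingCat.{u}} (φ : Γ(X, U) ⟶ B)
    (h : ⊤ ≤ (Spec.map φ ≫ hU.fromSpec) ⁻¹ᵁ U) :
    (Spec.map φ ≫ hU.fromSpec).appLE U ⊤ h = φ ≫ (Scheme.ΓSpecIso B).inv := by
  have h1 := hU.SpecMap_appLE_fromSpec (Spec.map φ ≫ hU.fromSpec) (isAffineOpen_top (Spec B)) h
  rw [IsAffineOpen.fromSpec_top, Scheme.isoSpec_Spec_inv, ← Spec.map_comp_assoc,
    cancel_mono] at h1
  exact Spec.map_injective h1

theorem isRegularImmersionAt_snd_of_chart {Z X X' W : Scheme.{u}} (i : Z ⟶ X)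
    [IsClosedImmersion i] (g : X' ⟶ X) (j : W ⟶ X') [IsOpenImmersion j] [IsAffine W]
    (q : W ⟶ X) (hq : j ≫ g = q) (z' : ↥(pullback i g)) (w : W)
    (hw : j w = pullback.snd i g z')
    (U : X.Opens) (hU : IsAffineOpen U) (hqU : ⊤ ≤ q ⁻¹ᵁ U)
    (rs : List Γ(X, U)) (hker : RingHom.ker (i.app U).hom = Ideal.ofList rs)
    (hs : List Γ(W, ⊤)) (hreg : IsWeaklyRegular Γ(W, ⊤) hs)
    (hI : Ideal.ofList hs = (Ideal.ofList rs).map (q.appLE U ⊤ hqU).hom) :
    RegImm.IsRegularImmersionAt .regular (pullback.snd i g) z' := by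
  subst hq
  have hV : IsAffineOpen (j ''ᵁ ⊤) := (isAffineOpen_top W).image_of_isOpenImmersion j
  have hzV : pullback.snd i g z' ∈ j ''ᵁ ⊤ := ⟨w, trivial, hw⟩
  have hVU : j ''ᵁ ⊤ ≤ g ⁻¹ᵁ U := by
    rintro _ ⟨w', -, rfl⟩
    have : (j ≫ g) w' ∈ U := hqU (show w' ∈ (⊤ : W.Opens) from trivial)
    simpa using this
  have hk := Groth.Agent.H39.RelRegGeom.ker_app_of_isPullback
    (IsPullback.of_hasPullback i g) hVU hU hV
  have hcomp : g.appLE U (j ''ᵁ ⊤) hVU ≫ (j.appIso ⊤).hom = (j ≫ g).appLE U ⊤ hqU := by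
    rw [Scheme.Hom.appIso_hom', Scheme.Hom.appLE_comp_appLE]
  have hg : g.appLE U (j ''ᵁ ⊤) hVU = (j ≫ g).appLE U ⊤ hqU ≫ (j.appIso ⊤).inv := by
    rw [← hcomp, Category.assoc, Iso.hom_inv_id, Category.comp_id]
  have hbij : Function.Bijective (j.appIso ⊤).inv.hom :=
    ConcreteCategory.bijective_of_isIso (j.appIso ⊤).inv
  have hreg' : IsWeaklyRegular Γ(X', j ''ᵁ ⊤) (hs.map (j.appIso ⊤).inv.hom) :=
    Groth.Agent.H39.SmoothSectionCore.isWeaklyRegular_map_of_flat _
      (RingHom.Flat.of_bijective hbij) hs hreg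
  have hI' : RingHom.ker ((pullback.snd i g).app (j ''ᵁ ⊤)).hom =
      Ideal.ofList (hs.map (j.appIso ⊤).inv.hom) := by
    rw [hk, hker, hg, CommRingCat.hom_comp, ← Ideal.map_map, ← hI, Ideal.map_ofList]
  refine ⟨⟨j ''ᵁ ⊤, hV⟩, hzV, inferInstance, hs.map (j.appIso ⊤).inv.hom, ⟨hreg', ?_⟩, hI'⟩
  rw [← hI']
  intro htop
  have h2 : RingHom.ker ((pullback.snd i g).app (j ''ᵁ ⊤)).hom = ⊤ := by
    have h3 : (RingHom.ker ((pullback.snd i g).app (j ''ᵁ ⊤)).hom •
        (⊤ : Submodule Γ(X', j ''ᵁ ⊤) Γ(X', j ''ᵁ ⊤))) =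
        RingHom.ker ((pullback.snd i g).app (j ''ᵁ ⊤)).hom := Ideal.mul_top _
    rw [h3] at htop
    exact htop.symm
  haveI : Nontrivial Γ(pullback i g, (pullback.snd i g) ⁻¹ᵁ (j ''ᵁ ⊤)) :=
    @Scheme.component_nontrivial _ _ ⟨⟨z', hzV⟩⟩
  exact RingHom.ker_ne_top _ h2


/-- For a Koszul-regular closed immersion, some surjective smooth cover makes the base change a
regular immersion. -/
theorem main {Z X : Scheme.{u}} (i : Z ⟶ X) [IsClosedImmersion i]
    (hi : RegImm.IsRegularImmersion RegImm.Kind.koszul i) :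
    ∃ (X' : Scheme.{u}) (g : X' ⟶ X), Smooth g ∧ Surjective g ∧
      RegImm.IsRegularImmersion RegImm.Kind.regular (pullback.snd i g) := by
  -- local data
  have hdata : ∀ z : Z, ∃ (U : X.affineOpens) (B : CommRingCat.{u}) (φ : Γ(X, U.1) ⟶ B)
      (rs : List Γ(X, U.1)) (hs : List B), i z ∈ U.1 ∧
      RingHom.ker (i.app U.1).hom = Ideal.ofList rs ∧ φ.hom.Smooth ∧
      Function.Surjective (PrimeSpectrum.comap φ.hom) ∧ IsWeaklyRegular B hs ∧
      Ideal.ofList hs = (Ideal.ofList rs).map φ.hom := by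
    intro z
    obtain ⟨U, hzU, -, rs, hrs, hker⟩ := hi.2 z
    obtain ⟨B, _, φ, h1, h2, hs, h3, h4⟩ :=
      Groth.Agent.H39.KoszulSmoothReg.exists_smooth_regular Γ(X, U.1) rs hrs
    exact ⟨U, CommRingCat.of B, CommRingCat.ofHom φ, rs, hs, hzU, hker, h1, h2, h3, h4⟩
  choose U B φ rs hs hzU hker hsm hsurj hreg hI using hdata
  -- the open complement of `Z`
  let Oc : X.Opens := ⟨(Set.range i)ᶜ, i.isClosedEmbedding.isClosed_range.isOpen_compl⟩
  let Y : Option Z → Scheme.{u} := fun o =>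
    match o with
    | none => Oc
    | some z => Spec (B z)
  let p : ∀ o, Y o ⟶ X := fun o =>
    match o with
    | none => Oc.ι
    | some z => Spec.map (φ z) ≫ (U z).2.fromSpec
  have hpsm : ∀ o, Smooth (p o) := by
    intro o
    cases o with
    | none => exact inferInstanceAs (Smooth Oc.ι)
    | some z =>
      haveI : Smooth (Spec.map (φ z)) := (HasRingHomProperty.Spec_iff (P := @Smooth)).mpr (hsm z)
      exact inferInstanceAs (Smooth (Spec.map (φ z) ≫ (U z).2.fromSpec))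
  refine ⟨∐ Y, Sigma.desc p, IsZariskiLocalAtSource.sigmaDesc hpsm, ⟨?_⟩, inferInstance, ?_⟩
  · -- surjectivity
    intro x
    by_cases hx : x ∈ Set.range i
    · obtain ⟨z, rfl⟩ := hx
      have h1 : i z ∈ Set.range (U z).2.fromSpec := by
        rw [(U z).2.range_fromSpec]
        exact hzU z
      obtain ⟨q, hq⟩ := h1
      obtain ⟨y, hy⟩ := hsurj z q
      refine ⟨Sigma.ι Y (some z) y, ?_⟩
      rw [← Scheme.Hom.comp_apply, Sigma.ι_desc]
      show (Spec.map (φ z) ≫ (U z).2.fromSpec) y = i z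
      rw [Scheme.Hom.comp_apply, ← hq]
      congr 1
    · refine ⟨Sigma.ι Y none (⟨x, hx⟩ : Oc), ?_⟩
      rw [← Scheme.Hom.comp_apply, Sigma.ι_desc]
      rfl
  · -- regularity of the base change
    intro z'
    obtain ⟨⟨o, y⟩, hy⟩ := (sigmaMk Y).surjective (pullback.snd i (Sigma.desc p) z')
    rw [sigmaMk_mk] at hy
    have hcond : Sigma.desc p (pullback.snd i (Sigma.desc p) z') =
        i (pullback.fst i (Sigma.desc p) z') := by
      rw [← Scheme.Hom.comp_apply, ← Scheme.Hom.comp_apply, pullback.condition]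
    cases o with
    | none =>
      exfalso
      have h1 : Sigma.desc p (Sigma.ι Y none y) = Oc.ι y := by
        rw [← Scheme.Hom.comp_apply, Sigma.ι_desc]
      rw [hy, hcond] at h1
      have h2 : Oc.ι y ∈ Oc := y.2
      rw [← h1] at h2
      exact h2 ⟨_, rfl⟩
    | some z =>
      haveI : IsAffine (Y (some z)) := inferInstanceAs (IsAffine (Spec (B z)))
      have hqU : ⊤ ≤ (Spec.map (φ z) ≫ (U z).2.fromSpec) ⁻¹ᵁ (U z).1 := by
        intro w _
        show (Spec.map (φ z) ≫ (U z).2.fromSpec) w ∈ (U z).1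
        rw [Scheme.Hom.comp_apply]
        have : (U z).2.fromSpec (Spec.map (φ z) w) ∈ Set.range (U z).2.fromSpec := ⟨_, rfl⟩
        rw [(U z).2.range_fromSpec] at this
        exact this
      have hbij : Function.Bijective (Scheme.ΓSpecIso (B z)).inv.hom :=
        ConcreteCategory.bijective_of_isIso (Scheme.ΓSpecIso (B z)).inv
      refine isRegularImmersionAt_snd_of_chart i (Sigma.desc p) (Sigma.ι Y (some z))
        (Spec.map (φ z) ≫ (U z).2.fromSpec) (Sigma.ι_desc p (some z)) z' y hy (U z).1 (U z).2 hqU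
        (rs z) (hker z) ((hs z).map (Scheme.ΓSpecIso (B z)).inv.hom)
        (Groth.Agent.H39.SmoothSectionCore.isWeaklyRegular_map_of_flat _
          (RingHom.Flat.of_bijective hbij) (hs z) (hreg z)) ?_
      rw [appLE_SpecMap_fromSpec, CommRingCat.hom_comp, ← Ideal.map_map, ← hI z,
        Ideal.map_ofList]

end Groth.Agent.H39.KoszulSmoothGeom
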