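import Mathlib
import Groth.Prelude.Def_Dix
import Groth.Agent.H39.ExtTorsion2
import Groth.Agent.S0108

set_option autoImplicit false
universe u
open CategoryTheory CategoryTheory.Limits AlgebraicGeometry
open Dix

namespace Groth.Agent.H39.Kummer

theorem range_H_mu (X : Scheme.{u}) (n : ℕ) (hX : Dix.InvertibleOn X n) (i : ℕ) :
    Set.range ⇑((EtCoh.HF X i).map (EtCoh.muι X n)) =
      {ξ : (EtCoh.HF X i).obj (EtCoh.Gm X) | n • ξ = 0} := by
  have : Epi (n • 𝟙 (EtCoh.Gm X)) :=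
    Groth.Agent.S0108.result X n (Groth.Agent.H39.ExtTorsion2.isUnit_natCast_of_invertibleOn X n hX)
  let φ : EtCoh.Gm X ⟶ EtCoh.Gm X := n • 𝟙 (EtCoh.Gm X)
  let S1 : ShortComplex (EtCoh.Ab X) := ShortComplex.mk (kernel.ι φ) φ (kernel.condition φ)
  have hS1 : S1.ShortExact :=
    { exact := ShortComplex.exact_kernel φ
      mono_f := inferInstanceAs (Mono (kernel.ι φ))
      epi_g := inferInstanceAs (Epi (n • 𝟙 (EtCoh.Gm X))) }
  ext ξ
  simp only [Set.mem_range, Set.mem_ofPred_eq]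
  constructor
  · rintro ⟨v, rfl⟩
    change n • (Sheaf.H.map (EtCoh.muι X n) i v) = 0
    rw [Sheaf.H.map_apply, ← Groth.Agent.H39.ExtTorsion.comp_mk₀_nsmul_id, Abelian.Ext.comp_assoc_of_third_deg_zero,
      Abelian.Ext.mk₀_comp_mk₀]
    have : EtCoh.muι X n ≫ (n • 𝟙 (EtCoh.Gm X)) = 0 := kernel.condition φ
    rw [this, Abelian.Ext.mk₀_zero, Abelian.Ext.comp_zero]
  · intro h
    have hy : Abelian.Ext.comp (ξ : Abelian.Ext _ (EtCoh.Gm X) i) (Abelian.Ext.mk₀ φ) (add_zero i) = 0 := by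
      rw [Groth.Agent.H39.ExtTorsion.comp_mk₀_nsmul_id]
      exact h
    obtain ⟨v', hv⟩ := Abelian.Ext.covariant_sequence_exact₂ _ hS1 _ hy
    exact ⟨v', hv⟩

end Groth.Agent.H39.Kummer
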