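import Mathlib
import Groth.Agent.H39.KoszulAtLocal

set_option autoImplicit false
set_option linter.style.haveILetI false
universe u

open AlgebraicGeometry CategoryTheory CategoryTheory.Limits

namespace Groth.Agent.H39.LCIIntoSmooth

/-- **S8656**: an immersion of an lci (factorisation sense) `Y`-scheme into a smooth `Y`-scheme is
Koszul-regular. -/
theorem koszulRegularImmersion_of_lci_into_smooth {X Y Z : Scheme.{u}} (f : X ⟶ Y)
    (hf : ∀ x : X, Synt.IsKoszulAt f x) (p : Z ⟶ Y) [Smooth p] (i : X ⟶ Z) [IsImmersion i]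
    (h : i ≫ p = f) : RegImm.IsRegularImmersion .koszul i := by
  refine ⟨inferInstance, fun x => ?_⟩
  obtain ⟨U, P, i', π, hxU, -, hreg, hsm, hfac⟩ := hf x
  haveI := hsm
  haveI := hreg.1
  let k : (U : Scheme.{u}) ⟶ pullback p π :=
    pullback.lift (U.ι ≫ i) i' (by rw [Category.assoc, h, hfac])
  have hk1 : k ≫ pullback.fst p π = U.ι ≫ i := pullback.lift_fst _ _ _
  have hk2 : k ≫ pullback.snd p π = i' := pullback.lift_snd _ _ _
  haveI : IsImmersion (k ≫ pullback.snd p π) := by rw [hk2]; infer_instance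
  haveI : IsImmersion k := IsImmersion.of_comp k (pullback.snd p π)
  haveI : Smooth (pullback.snd p π) := inferInstance
  haveI : Smooth (pullback.fst p π) := inferInstance
  have hkreg : RegImm.IsRegularImmersion .koszul k :=
    SmoothFactor.koszul_of_comp_smooth i' k (pullback.snd p π) hk2 hreg
  haveI : IsImmersion (U.ι ≫ i) := inferInstance
  have hUi : RegImm.IsRegularImmersion .koszul (U.ι ≫ i) :=
    SmoothFactorBwd2.koszul_comp_smooth (U.ι ≫ i) k (pullback.fst p π) hk1 hkreg
  exact KoszulAtLocal.isRegularImmersionAt_koszul_of_ι_comp i U x hxU (hUi.2 ⟨x, hxU⟩)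

end Groth.Agent.H39.LCIIntoSmooth
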