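import Mathlib
import Groth.Agent.H39.LCISmooth
import Groth.Agent.H39.RegSpread2
import Groth.Agent.H25.RegQuot

set_option autoImplicit false
set_option linter.style.haveILetI false
universe u

open Groth.Agent.H39.LCISmooth

namespace Groth.Agent.H39.LCIRegular

/-- a finite type algebra between regular rings is a local complete intersection. -/
theorem isLCI_of_isRegularRing (A B : Type u) [CommRing A] [CommRing B] [Algebra A B]
    [Algebra.FiniteType A B] [IsRegularRing A]
    (hB : ∀ (q : Ideal B) [q.IsPrime], IsRegularLocalRing (Localization.AtPrime q)) :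
    LCI.IsLCI A B := by
  obtain ⟨n, α, hα⟩ := Algebra.FiniteType.iff_quotient_mvPolynomial''.mp
    (inferInstance : Algebra.FiniteType A B)
  refine ⟨inferInstance, n, α, hα, ?_⟩
  intro 𝔮 h𝔮
  have hα' : Function.Surjective α.toRingHom := hα
  -- the prime of `B`
  haveI hq' : (𝔮.asIdeal.map α.toRingHom).IsPrime := Ideal.map_isPrime_of_surjective hα' h𝔮
  have hcomap : (𝔮.asIdeal.map α.toRingHom).comap α.toRingHom = 𝔮.asIdeal := by
    rw [Ideal.comap_map_of_surjective' α.toRingHom hα']
    exact sup_eq_left.mpr h𝔮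
  haveI := hB (𝔮.asIdeal.map α.toRingHom)
  set ψ : Localization.AtPrime 𝔮.asIdeal →+* Localization.AtPrime (𝔮.asIdeal.map α.toRingHom) :=
    Localization.localRingHom 𝔮.asIdeal (𝔮.asIdeal.map α.toRingHom) α.toRingHom hcomap.symm
    with hψ
  have hψsurj : Function.Surjective ψ := by
    have h1 := RingHom.surjective_localRingHom_of_surjective α.toRingHom hα'
      (𝔮.asIdeal.map α.toRingHom)
    have h2 : ∀ (p : Ideal (MvPolynomial (Fin n) A)) [p.IsPrime]
        (e : p = (𝔮.asIdeal.map α.toRingHom).comap α.toRingHom),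
        Function.Surjective (Localization.localRingHom p (𝔮.asIdeal.map α.toRingHom)
          α.toRingHom e) := by
      intro p _ e
      subst e
      exact h1
    exact h2 𝔮.asIdeal hcomap.symm
  have hker : RingHom.ker ψ = (RingHom.ker α.toRingHom).map
      (algebraMap _ (Localization.AtPrime 𝔮.asIdeal)) := by
    refine RegSpread2.ker_eq_map_ker_of_localization α.toRingHom hα' 𝔮.asIdeal
      (𝔮.asIdeal.map α.toRingHom) hcomap ψ ?_
    refine RingHom.ext fun x => ?_
    rw [RingHom.comp_apply, RingHom.comp_apply, hψ]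
    exact Localization.localRingHom_to_map _ _ _ _ x
  -- regularity of the quotient
  let eq : (Localization.AtPrime 𝔮.asIdeal ⧸ (RingHom.ker α.toRingHom).map
      (algebraMap _ (Localization.AtPrime 𝔮.asIdeal))) ≃+*
      Localization.AtPrime (𝔮.asIdeal.map α.toRingHom) :=
    (Ideal.quotEquivOfEq hker.symm).trans (RingHom.quotientKerEquivOfSurjective hψsurj)
  haveI : IsRegularLocalRing (Localization.AtPrime 𝔮.asIdeal ⧸ (RingHom.ker α.toRingHom).map
      (algebraMap _ (Localization.AtPrime 𝔮.asIdeal))) :=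
    IsRegularLocalRing.of_ringEquiv eq.symm
  have hreg : CInt.IsRegularIdeal ((RingHom.ker α.toRingHom).map
      (algebraMap _ (Localization.AtPrime 𝔮.asIdeal))) :=
    Groth.Agent.H25.RegQuot.isRegularIdeal_of_regular _ _
  obtain ⟨f, hf, hC⟩ := RegSpread2.isRegularIdeal_away_of_atPrime (MvPolynomial (Fin n) A)
    𝔮.asIdeal (Localization.AtPrime 𝔮.asIdeal) (RingHom.ker α.toRingHom) h𝔮 hreg
  obtain ⟨rs, hrs, hrsK⟩ := hC (Localization.Away f)
  exact ⟨f, hf, rs, (fun i hi => Groth.Agent.H79.KoszulCone.isZero_homology_of_isWeaklyRegular rs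
    hrs.toIsWeaklyRegular i hi), hrsK.symm⟩

end Groth.Agent.H39.LCIRegular
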