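import Mathlib
import Groth.Agent.H39.LCIRegular

set_option autoImplicit false
set_option linter.style.haveILetI false
universe u

open AlgebraicGeometry CategoryTheory CategoryTheory.Limits

namespace Groth.Agent.H39.LCIRegularGeom

/-- localizations of sections over an affine open of a scheme with regular stalks are regular. -/
theorem isRegularLocalRing_localization_of_stalks {X : Scheme.{u}}
    (hX : ∀ x : X, IsRegularLocalRing ↑(X.presheaf.stalk x)) {U : X.Opens} (hU : IsAffineOpen U)
    (q : Ideal Γ(X, U)) [q.IsPrime] : IsRegularLocalRing (Localization.AtPrime q) := by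
  have hy : hU.fromSpec ⟨q, inferInstance⟩ ∈ U := by
    have : hU.fromSpec ⟨q, inferInstance⟩ ∈ Set.range hU.fromSpec := ⟨_, rfl⟩
    rw [hU.range_fromSpec] at this
    exact this
  letI := TopCat.Presheaf.algebra_section_stalk X.presheaf ⟨hU.fromSpec ⟨q, inferInstance⟩, hy⟩
  haveI h1 : IsLocalization q.primeCompl
      ↑(X.presheaf.stalk (hU.fromSpec ⟨q, inferInstance⟩)) :=
    hU.isLocalization_stalk' ⟨q, inferInstance⟩ hy
  haveI := hX (hU.fromSpec ⟨q, inferInstance⟩)
  let e : ↑(X.presheaf.stalk (hU.fromSpec ⟨q, inferInstance⟩)) ≃ₐ[Γ(X, U)] Localization.AtPrime q :=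
    IsLocalization.algEquiv q.primeCompl _ _
  exact IsRegularLocalRing.of_ringEquiv e.toRingEquiv

/-- **S1493**: a morphism locally of finite type between regular schemes is a local complete
intersection morphism. -/
theorem lci_of_regular {X Y : Scheme.{u}} (f : X ⟶ Y) [LocallyOfFiniteType f]
    [IsLocallyNoetherian X] [IsLocallyNoetherian Y]
    (hX : ∀ x : X, IsRegularLocalRing ↑(X.presheaf.stalk x))
    (hY : ∀ y : Y, IsRegularLocalRing ↑(Y.presheaf.stalk y))
    (U : X.Opens) (V : Y.Opens) (hU : IsAffineOpen U) (hV : IsAffineOpen V) (hUV : U ≤ f ⁻¹ᵁ V) :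
    letI := (f.appLE V U hUV).hom.toAlgebra
    LCI.IsLCI Γ(Y, V) Γ(X, U) := by
  letI := (f.appLE V U hUV).hom.toAlgebra
  haveI : Algebra.FiniteType Γ(Y, V) Γ(X, U) :=
    HasRingHomProperty.appLE (P := @LocallyOfFiniteType) f inferInstance ⟨V, hV⟩ ⟨U, hU⟩ hUV
  haveI : IsNoetherianRing Γ(Y, V) := IsLocallyNoetherian.component_noetherian ⟨V, hV⟩
  haveI : IsRegularRing Γ(Y, V) :=
    isRegularRing_iff.mpr (fun p _ => isRegularLocalRing_localization_of_stalks hY hV p)
  exact LCIRegular.isLCI_of_isRegularRing Γ(Y, V) Γ(X, U)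
    (fun q _ => isRegularLocalRing_localization_of_stalks hX hU q)

end Groth.Agent.H39.LCIRegularGeom
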