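import Groth.Agent.H28.PCohRing2
import Groth.Agent.H28.PCohTower2
import Groth.Agent.S14613
import Groth.Prelude.Def_ega3

/-!
# Mumford's complex (algebra part, "B1")

Over a Noetherian ring `A`, a bounded-above cochain complex `C` of `A`-modules whose cohomology
modules are all finitely generated receives a quasi-isomorphism from a bounded-above complex of
finite free modules; if moreover `C` is termwise flat, this stays a quasi-isomorphism after
`- ⊗_A M` for every `A`-module `M`.
-/

set_option autoImplicit false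

universe u

open CategoryTheory CategoryTheory.Limits

namespace Groth.Agent.H39.MumfordCx

open Groth.Agent.H28 Groth.Agent.H28.PCohRing Groth.Agent.H28.PCohDer

attribute [local instance] HasDerivedCategory.standard

variable (A : Type u) [CommRing A] [IsNoetherianRing A]

/-- (B1a) bounded above + finite cohomology over a Noetherian ring ⇒ a quasi-isomorphism from a
bounded above complex of finite free modules. -/
theorem exists_finiteFree_quasiIso (C : CochainComplex (ModuleCat.{u} A) ℤ) (b : ℤ)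
    (hb : ∀ i : ℤ, b < i → IsZero (C.X i)) (hfin : ∀ i : ℤ, Module.Finite A (C.homology i)) :
    ∃ (L : CochainComplex (ModuleCat.{u} A) ℤ) (φ : L ⟶ C), QuasiIso φ ∧
      (∀ i : ℤ, Module.Finite A (L.X i) ∧ Module.Free A (L.X i)) ∧
      ∀ i : ℤ, b < i → IsZero (L.X i) := by
  have hPC : PCoh.IsPC (finFree A) (DerivedCategory.Q.obj C) := by
    intro n
    refine (isNPC_iff_of_noetherian A n (DerivedCategory.Q.obj C)).mpr ⟨⟨b, fun i hi => ?_⟩,
      fun i _ => ?_⟩
    · exact IsZero.of_iso (Groth.Agent.H28.PCohCore.isZero_homology_of_isZero_X C i (hb i hi))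
        (homologyQIso C i)
    · have := hfin i
      exact Module.Finite.equiv (homologyQIso C i).symm.toLinearEquiv
  obtain ⟨L, φ, hL, hφ, hz⟩ := PCohTower.exists_strictPCAll_resolution (hql_finFree A)
    (finFree_prod A) (hqs_finFree A) (b + 1) C hPC
    (fun i hi => Groth.Agent.H28.PCohCore.isZero_homology_of_isZero_X C i (hb i (by omega)))
  exact ⟨L, φ, hφ, fun i => hL.2 i, fun i hi => hz i (by omega)⟩

/-- (B1b) if moreover `C` is termwise flat, the comparison stays a quasi-isomorphism after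
tensoring with any module, so `H^p(L ⊗ M) ≅ H^p(C ⊗ M)`. -/
theorem exists_finiteFree_T_iso (C : CochainComplex (ModuleCat.{u} A) ℤ) (b : ℤ)
    (hb : ∀ i : ℤ, b < i → IsZero (C.X i)) (hflat : ∀ i : ℤ, Module.Flat A (C.X i))
    (hfin : ∀ i : ℤ, Module.Finite A (C.homology i)) :
    ∃ L : CochainComplex (ModuleCat.{u} A) ℤ,
      (∀ i : ℤ, Module.Finite A (L.X i) ∧ Module.Free A (L.X i)) ∧
      (∀ i : ℤ, b < i → IsZero (L.X i)) ∧
      ∀ (M : ModuleCat.{u} A) (p : ℤ), Nonempty (CohIII.T L p M ≅ CohIII.T C p M) := by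
  obtain ⟨L, φ, hφ, hL, hz⟩ := exists_finiteFree_quasiIso A C b hb hfin
  refine ⟨L, hL, hz, fun M p => ?_⟩
  have hLflat : ∀ i : ℤ, Module.Flat A (L.X i) := fun i => by
    have := (hL i).2
    infer_instance
  have hq := Groth.Agent.S14613.result A L C hLflat hflat ⟨b, hz⟩ ⟨b, hb⟩ φ M
  have : QuasiIsoAt (((MonoidalCategory.tensorRight M).mapHomologicalComplex
      (ComplexShape.up ℤ)).map φ) p := by
    rw [quasiIso_iff] at hq
    exact hq p
  exact ⟨asIso (HomologicalComplex.homologyMap (((MonoidalCategory.tensorRight M).mapHomologicalComplex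
      (ComplexShape.up ℤ)).map φ) p)⟩

/-- (B1c) the same, packaged as `A`-linear equivalences in the direction needed for the
Mumford-complex statement (S2414): `H^p(C ⊗ M) ≃ₗ H^p(L ⊗ M)`. -/
theorem exists_finiteFree_T_linearEquiv (C : CochainComplex (ModuleCat.{u} A) ℤ) (b : ℤ)
    (hb : ∀ i : ℤ, b < i → IsZero (C.X i)) (hflat : ∀ i : ℤ, Module.Flat A (C.X i))
    (hfin : ∀ i : ℤ, Module.Finite A (C.homology i)) :
    ∃ L : CochainComplex (ModuleCat.{u} A) ℤ,
      (∀ i : ℤ, Module.Finite A (L.X i) ∧ Module.Free A (L.X i)) ∧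
      (∃ b' : ℤ, ∀ i : ℤ, b' < i → IsZero (L.X i)) ∧
      ∀ (M : ModuleCat.{u} A) (p : ℤ), Nonempty (CohIII.T C p M ≃ₗ[A] CohIII.T L p M) := by
  obtain ⟨L, hL, hz, h⟩ := exists_finiteFree_T_iso A C b hb hflat hfin
  refine ⟨L, hL, ⟨b, hz⟩, fun M p => ?_⟩
  obtain ⟨e⟩ := h M p
  exact ⟨e.symm.toLinearEquiv⟩

end Groth.Agent.H39.MumfordCx
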