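import Groth.Agent.H39.MumfordCx
import Groth.Agent.H28.PCohModify
import Groth.Agent.H73.FlatQis

/-!
# Mumford's complex, unbounded version

`C` is a termwise flat cochain complex over a Noetherian ring `A`, with finitely generated
cohomology, such that `H^p(C ⊗ M) = 0` for all `p > N` and all `M` (no bound on the terms of `C`:
this is the situation of the full Čech complex of a flat coherent sheaf on a proper scheme).
Then there is a complex `L` of finite free modules, zero above `N`, with
`H^p(C ⊗ M) ≃ H^p(L ⊗ M)` for all `M`, `p`.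
-/

set_option autoImplicit false

universe u

open CategoryTheory CategoryTheory.Limits MonoidalCategory

namespace Groth.Agent.H39.MumfordCx2

open TensorProduct

section modules

variable {A : Type u} [CommRing A] {X₀ X₁ X₂ : Type u}
  [AddCommGroup X₀] [AddCommGroup X₁] [AddCommGroup X₂]
  [Module A X₀] [Module A X₁] [Module A X₂]

/-- If `X₀ → X₁ → X₂` is a complex which is exact at `X₁` after tensoring with any module, then
the image of `X₁ → X₂` is a pure submodule of `X₂`. -/
theorem injective_rTensor_range_subtype (d₀ : X₀ →ₗ[A] X₁) (d₁ : X₁ →ₗ[A] X₂)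
    (h0 : d₁ ∘ₗ d₀ = 0) (M : Type u) [AddCommGroup M] [Module A M]
    (hex : Function.Exact (d₀.rTensor M) (d₁.rTensor M)) :
    Function.Injective ((LinearMap.range d₁).subtype.rTensor M) := by
  rw [injective_iff_map_eq_zero]
  intro x hx
  obtain ⟨y, rfl⟩ := LinearMap.rTensor_surjective M (LinearMap.surjective_rangeRestrict d₁) x
  have h1 : (LinearMap.range d₁).subtype ∘ₗ d₁.rangeRestrict = d₁ := LinearMap.subtype_comp_codRestrict _ _ _
  have h2 : (d₁.rTensor M) y = 0 := by
    rw [← h1, LinearMap.rTensor_comp, LinearMap.comp_apply]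
    exact hx
  obtain ⟨w, rfl⟩ := (hex y).mp h2
  have h3 : d₁.rangeRestrict ∘ₗ d₀ = 0 := by
    refine LinearMap.ext fun z => Subtype.ext ?_
    simpa using LinearMap.congr_fun h0 z
  rw [← LinearMap.comp_apply, ← LinearMap.rTensor_comp, h3, LinearMap.rTensor_zero,
    LinearMap.zero_apply]

/-- A pure submodule of a flat module is flat. -/
theorem flat_of_pure_submodule [Module.Flat A X₂] (Z : Submodule A X₂)
    (hZ : ∀ (M : Type u) [AddCommGroup M] [Module A M],
      Function.Injective (Z.subtype.rTensor M)) : Module.Flat A Z := by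
  rw [Module.Flat.iff_rTensor_preserves_injective_linearMap]
  intro N N' _ _ _ _ i hi
  have h1 : Function.Injective (i.rTensor X₂) :=
    Module.Flat.rTensor_preserves_injective_linearMap i hi
  have h2 : Function.Injective (Z.subtype.lTensor N) :=
    (LinearMap.lTensor_inj_iff_rTensor_inj N Z.subtype).mpr (hZ N)
  have hcomm : (Z.subtype.lTensor N') ∘ₗ (i.rTensor Z) = (i.rTensor X₂) ∘ₗ (Z.subtype.lTensor N) := by
    rw [LinearMap.lTensor_comp_rTensor, LinearMap.rTensor_comp_lTensor]
  have h3 : Function.Injective ((Z.subtype.lTensor N') ∘ₗ (i.rTensor Z)) := by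
    rw [hcomm]
    exact h1.comp h2
  exact Function.Injective.of_comp h3

/-- The image of `d₁` is flat if `X₀ → X₁ → X₂` is universally exact at `X₁` and `X₂` is flat. -/
theorem flat_range_of_universally_exact [Module.Flat A X₂] (d₀ : X₀ →ₗ[A] X₁) (d₁ : X₁ →ₗ[A] X₂)
    (h0 : d₁ ∘ₗ d₀ = 0)
    (hex : ∀ (M : Type u) [AddCommGroup M] [Module A M],
      Function.Exact (d₀.rTensor M) (d₁.rTensor M)) :
    Module.Flat A (LinearMap.range d₁) :=
  flat_of_pure_submodule _ (fun M _ _ => injective_rTensor_range_subtype d₀ d₁ h0 M (hex M))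

end modules

section complexes

variable (A : Type u) [CommRing A]

/-- the functor `- ⊗ M` on cochain complexes -/
noncomputable abbrev tens (M : ModuleCat.{u} A) :
    CochainComplex (ModuleCat.{u} A) ℤ ⥤ CochainComplex (ModuleCat.{u} A) ℤ :=
  (MonoidalCategory.tensorRight M).mapHomologicalComplex (ComplexShape.up ℤ)

/-- If a termwise flat complex `K` is exact at `q` and universally exact at `q - 1`, then its
module of `q`-cocycles is flat. -/
lemma flat_cycles_of_universally_exactAt (K : CochainComplex (ModuleCat.{u} A) ℤ)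
    (hK : ∀ i, Module.Flat A (K.X i)) (q : ℤ) (hq : K.ExactAt q)
    (huniv : ∀ M : ModuleCat.{u} A, ((tens A M).obj K).ExactAt (q - 1)) :
    Module.Flat A (K.cycles q) := by
  have := hK q
  have hr : Module.Flat A (LinearMap.range (K.d (q - 1) q).hom) := by
    refine flat_range_of_universally_exact (K.d (q - 1 - 1) (q - 1)).hom (K.d (q - 1) q).hom ?_ ?_
    · rw [← ModuleCat.hom_comp, K.d_comp_d]
      rfl
    · intro M _ _
      have h := huniv (ModuleCat.of A M)
      rw [HomologicalComplex.exactAt_iff' _ (q - 1 - 1) (q - 1) q (by simp) (by simp),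
        ShortComplex.ShortExact.moduleCat_exact_iff_function_exact] at h
      exact h
  have hinj : Function.Injective (K.iCycles q).hom :=
    (ModuleCat.mono_iff_injective _).mp inferInstance
  have hex := Groth.Agent.H73.FlatQis.function_exact_of_exactAt A K q hq
  have hid : ∀ z : K.cycles q, (K.d q (q + 1)).hom ((K.iCycles q).hom z) = 0 := by
    intro z
    rw [← LinearMap.comp_apply, ← ModuleCat.hom_comp, K.iCycles_d]
    rfl
  have hti : ∀ x : K.X (q - 1), (K.iCycles q).hom ((K.toCycles (q - 1) q).hom x) =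
      (K.d (q - 1) q).hom x := by
    intro x
    rw [← LinearMap.comp_apply, ← ModuleCat.hom_comp, K.toCycles_i]
  let f : K.cycles q →ₗ[A] LinearMap.range (K.d (q - 1) q).hom :=
    (K.iCycles q).hom.codRestrict _ (fun z => (hex _).mp (hid z))
  have hf : Function.Bijective f := by
    constructor
    · intro z z' h
      exact hinj (congrArg Subtype.val h)
    · rintro ⟨y, x, rfl⟩
      exact ⟨(K.toCycles (q - 1) q).hom x, Subtype.ext (hti x)⟩
  exact Module.Flat.of_linearEquiv (LinearEquiv.ofBijective f hf)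

open CochainComplex HomComplex in
/-- `inr : C ⟶ cone φ` is an isomorphism in the degrees `j` where the source of `φ` vanishes in
degree `j + 1`. -/
lemma isIso_inr_f {L C : CochainComplex (ModuleCat.{u} A) ℤ} (φ : L ⟶ C) (j : ℤ)
    (hj : IsZero (L.X (j + 1))) : IsIso ((mappingCone.inr φ).f j) := by
  refine ⟨(mappingCone.snd φ).v j j (add_zero j), mappingCone.inr_f_snd_v φ j, ?_⟩
  have h0 : (mappingCone.fst φ).1.v j (j + 1) rfl = 0 := hj.eq_of_tgt _ _
  rw [← mappingCone.id_X φ j (j + 1) rfl, h0, zero_comp, zero_add]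

/-- Let `φ : L ⟶ C` be a quasi-isomorphism of termwise flat complexes, `L` zero above `N`, and
`C` universally acyclic above `N`. Then `φ ⊗ M` is a quasi-isomorphism for all `M`. -/
theorem quasiIso_tens_map (L C : CochainComplex (ModuleCat.{u} A) ℤ)
    (hL : ∀ i, Module.Flat A (L.X i)) (hC : ∀ i, Module.Flat A (C.X i)) (N : ℤ)
    (hLb : ∀ i, N < i → IsZero (L.X i))
    (hN : ∀ (M : ModuleCat.{u} A) (p : ℤ), N < p → IsZero (((tens A M).obj C).homology p))
    (φ : L ⟶ C) [QuasiIso φ] (M : ModuleCat.{u} A) :
    QuasiIso ((tens A M).map φ) := by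
  rw [Groth.Agent.H73.quasiIso_iff_acyclic_mappingCone]
  set K := CochainComplex.mappingCone φ with hKdef
  have hK : K.Acyclic := (Groth.Agent.H73.quasiIso_iff_acyclic_mappingCone φ).mp inferInstance
  have hKflat : ∀ i, Module.Flat A (K.X i) := Groth.Agent.H73.FlatQis.flat_mappingCone_X A hL hC φ
  -- universal exactness of `K` above `N`
  have hKuniv : ∀ (M' : ModuleCat.{u} A) (p : ℤ), N < p → ((tens A M').obj K).ExactAt p := by
    intro M' p hp
    have hiso : ∀ j : ℤ, N ≤ j → IsIso (((tens A M').map (CochainComplex.mappingCone.inr φ)).f j) := by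
      intro j hj
      have hh := isIso_inr_f A φ j (hLb (j + 1) (by omega))
      rw [Functor.mapHomologicalComplex_map_f]
      exact Functor.map_isIso (MonoidalCategory.tensorRight M') _
    have h1 := hiso (p - 1) (by omega)
    have h2 := hiso p (by omega)
    have h3 := hiso (p + 1) (by omega)
    have hq : QuasiIsoAt ((tens A M').map (CochainComplex.mappingCone.inr φ)) p :=
      Groth.Agent.H28.PCohCore.quasiIsoAt_of_isIso_f _ (p - 1) p (p + 1) (by omega) rfl
        (@IsIso.epi_of_iso _ _ _ _ _ h1) h2 (@IsIso.mono_of_iso _ _ _ _ _ h3)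
    rw [HomologicalComplex.exactAt_iff_isZero_homology]
    rw [quasiIsoAt_iff_isIso_homologyMap] at hq
    exact IsZero.of_iso (hN M' p hp) (asIso (HomologicalComplex.homologyMap
      ((tens A M').map (CochainComplex.mappingCone.inr φ)) p)).symm
  -- all cycles of `K` are flat
  have hbase : ∀ q : ℤ, N + 2 ≤ q → Module.Flat A (K.cycles q) := fun q hq =>
    flat_cycles_of_universally_exactAt A K hKflat q (hK q) (fun M' => hKuniv M' (q - 1) (by omega))
  have key : ∀ (n : ℕ) (q : ℤ), N + 2 ≤ q + n → Module.Flat A (K.cycles q) := by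
    intro n
    induction n with
    | zero =>
      intro q hq
      exact hbase q (by simpa using hq)
    | succ n ih =>
      intro q hq
      have h1 : Module.Flat A (K.cycles (q + 1)) := ih (q + 1) (by push_cast at hq; omega)
      exact Groth.Agent.H73.flat_cycles_step A K hKflat q
        ((HomologicalComplex.exactAt_iff_isZero_homology _ _).mp (hK (q + 1))) h1
  have hflat : ∀ q : ℤ, Module.Flat A (K.cycles q) := fun q =>
    key (N + 2 - q).toNat q (by omega)
  have hac := Groth.Agent.H73.FlatQis.acyclic_tensor A K hflat hK M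
  intro n
  rw [HomologicalComplex.exactAt_iff_isZero_homology]
  exact IsZero.of_iso ((HomologicalComplex.exactAt_iff_isZero_homology _ _).mp (hac n))
    ((HomologicalComplex.homologyFunctor _ _ n).mapIso
      (CochainComplex.mappingCone.mapHomologicalComplexIso φ
        (MonoidalCategory.tensorRight M))).symm

/-- `H^p(C ⊗ A) ≅ H^p(C)`. -/
noncomputable def tensUnitHomologyIso (C : CochainComplex (ModuleCat.{u} A) ℤ) (p : ℤ) :
    ((tens A (𝟙_ (ModuleCat.{u} A))).obj C).homology p ≅ C.homology p :=
  (HomologicalComplex.homologyFunctor _ _ p).mapIso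
    (((NatIso.mapHomologicalComplex (MonoidalCategory.rightUnitorNatIso (ModuleCat.{u} A))
      (ComplexShape.up ℤ)).app C) ≪≫ (Functor.mapHomologicalComplexIdIso _ _).app C)

end complexes

section noetherian

open Groth.Agent.H28 Groth.Agent.H28.PCohRing Groth.Agent.H28.PCohDer

attribute [local instance] HasDerivedCategory.standard

variable (A : Type u) [CommRing A] [IsNoetherianRing A]

/-- cohomology bounded above (no condition on the terms) and finitely generated over a Noetherian
ring ⇒ a quasi-isomorphism from a bounded above complex of finite free modules. -/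
theorem exists_finiteFree_quasiIso_of_acyclic_above (C : CochainComplex (ModuleCat.{u} A) ℤ)
    (N : ℤ) (hac : ∀ i : ℤ, N < i → IsZero (C.homology i))
    (hfin : ∀ i : ℤ, Module.Finite A (C.homology i)) :
    ∃ (L : CochainComplex (ModuleCat.{u} A) ℤ) (φ : L ⟶ C), QuasiIso φ ∧
      (∀ i : ℤ, Module.Finite A (L.X i) ∧ Module.Free A (L.X i)) ∧
      ∀ i : ℤ, N < i → IsZero (L.X i) := by
  have hPC : PCoh.IsPC (finFree A) (DerivedCategory.Q.obj C) := by
    intro n
    refine (isNPC_iff_of_noetherian A n (DerivedCategory.Q.obj C)).mpr ⟨⟨N, fun i hi => ?_⟩,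
      fun i _ => ?_⟩
    · exact IsZero.of_iso (hac i hi) (homologyQIso C i)
    · have := hfin i
      exact Module.Finite.equiv (homologyQIso C i).symm.toLinearEquiv
  obtain ⟨L, φ, hL, hφ, hz⟩ := PCohTower.exists_strictPCAll_resolution (hql_finFree A)
    (finFree_prod A) (hqs_finFree A) (N + 1) C hPC (fun i hi => hac i (by omega))
  exact ⟨L, φ, hφ, fun i => hL.2 i, fun i hi => hz i (by omega)⟩

/-- **Mumford's complex, unbounded form.** `C` termwise flat, universally acyclic above `N`, with
finitely generated cohomology, over a Noetherian ring: there is a complex `L` of finite free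
modules, zero above `N`, and a morphism `φ : L ⟶ C` which is a quasi-isomorphism after `- ⊗ M`
for every `M`. -/
theorem exists_finiteFree_universal_quasiIso (C : CochainComplex (ModuleCat.{u} A) ℤ) (N : ℤ)
    (hflat : ∀ i : ℤ, Module.Flat A (C.X i))
    (hN : ∀ (M : ModuleCat.{u} A) (p : ℤ), N < p → IsZero (CohIII.T C p M))
    (hfin : ∀ i : ℤ, Module.Finite A (C.homology i)) :
    ∃ (L : CochainComplex (ModuleCat.{u} A) ℤ) (φ : L ⟶ C),
      (∀ i : ℤ, Module.Finite A (L.X i) ∧ Module.Free A (L.X i)) ∧
      (∀ i : ℤ, N < i → IsZero (L.X i)) ∧ QuasiIso φ ∧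
      ∀ M : ModuleCat.{u} A, QuasiIso ((tens A M).map φ) := by
  have hac : ∀ i : ℤ, N < i → IsZero (C.homology i) := fun i hi =>
    IsZero.of_iso (hN (𝟙_ _) i hi) (tensUnitHomologyIso A C i).symm
  obtain ⟨L, φ, hφ, hL, hz⟩ := exists_finiteFree_quasiIso_of_acyclic_above A C N hac hfin
  have hLflat : ∀ i : ℤ, Module.Flat A (L.X i) := fun i => by
    have := (hL i).2
    infer_instance
  exact ⟨L, φ, hL, hz, hφ, fun M => quasiIso_tens_map A L C hLflat hflat N hz hN φ M⟩

/-- The same, as linear equivalences `H^p(C ⊗ M) ≃ₗ H^p(L ⊗ M)` (the shape of S2414). -/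
theorem exists_finiteFree_T_linearEquiv (C : CochainComplex (ModuleCat.{u} A) ℤ) (N : ℤ)
    (hflat : ∀ i : ℤ, Module.Flat A (C.X i))
    (hN : ∀ (M : ModuleCat.{u} A) (p : ℤ), N < p → IsZero (CohIII.T C p M))
    (hfin : ∀ i : ℤ, Module.Finite A (C.homology i)) :
    ∃ L : CochainComplex (ModuleCat.{u} A) ℤ,
      (∀ i : ℤ, Module.Finite A (L.X i) ∧ Module.Free A (L.X i)) ∧
      (∃ b : ℤ, ∀ i : ℤ, b < i → IsZero (L.X i)) ∧
      ∀ (M : ModuleCat.{u} A) (p : ℤ), Nonempty (CohIII.T C p M ≃ₗ[A] CohIII.T L p M) := by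
  obtain ⟨L, φ, hL, hz, -, hq⟩ := exists_finiteFree_universal_quasiIso A C N hflat hN hfin
  refine ⟨L, hL, ⟨N, hz⟩, fun M p => ?_⟩
  have hqM := hq M
  have : QuasiIsoAt ((tens A M).map φ) p := by
    rw [quasiIso_iff] at hqM
    exact hqM p
  exact ⟨(asIso (HomologicalComplex.homologyMap ((tens A M).map φ) p)).symm.toLinearEquiv⟩

end noetherian

end Groth.Agent.H39.MumfordCx2
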