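import Groth.Agent.H39.MumfordCx2

/-!
# Mumford's complex: naturality in the module

The comparison `H^p(L ⊗ M) ≅ H^p(C ⊗ M)` induced by `φ : L ⟶ C` is natural in `M`, i.e. an
isomorphism of functors `CohIII.TFun L p ≅ CohIII.TFun C p`.
-/

set_option autoImplicit false

universe u

open CategoryTheory CategoryTheory.Limits MonoidalCategory

namespace Groth.Agent.H39.MumfordCx3

open Groth.Agent.H39.MumfordCx2

variable (A : Type u) [CommRing A]

/-- naturality square of `φ ⊗ -` against `- ⊗ g` -/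
lemma tensorMap_comp_tens_map {L C : CochainComplex (ModuleCat.{u} A) ℤ} (φ : L ⟶ C)
    {M N : ModuleCat.{u} A} (g : M ⟶ N) :
    CohIII.tensorMap L g ≫ (tens A N).map φ = (tens A M).map φ ≫ CohIII.tensorMap C g :=
  ((NatTrans.mapHomologicalComplex ((tensoringRight (ModuleCat.{u} A)).map g)
    (ComplexShape.up ℤ)).naturality φ).symm

lemma isIso_homologyMap_tens {L C : CochainComplex (ModuleCat.{u} A) ℤ} (φ : L ⟶ C)
    (hφ : ∀ M : ModuleCat.{u} A, QuasiIso ((tens A M).map φ)) (M : ModuleCat.{u} A) (p : ℤ) :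
    IsIso (HomologicalComplex.homologyMap ((tens A M).map φ) p) := by
  have h := hφ M
  rw [quasiIso_iff] at h
  exact (quasiIsoAt_iff_isIso_homologyMap _ _).mp (h p)

/-- A morphism `φ : L ⟶ C` which is a quasi-isomorphism after `- ⊗ M` for all `M` induces an
isomorphism of functors `TFun L p ≅ TFun C p`. -/
noncomputable def tFunIso {L C : CochainComplex (ModuleCat.{u} A) ℤ} (φ : L ⟶ C)
    (hφ : ∀ M : ModuleCat.{u} A, QuasiIso ((tens A M).map φ)) (p : ℤ) :
    CohIII.TFun L p ≅ CohIII.TFun C p :=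
  NatIso.ofComponents
    (fun M => @asIso _ _ _ _ (HomologicalComplex.homologyMap ((tens A M).map φ) p)
      (isIso_homologyMap_tens A φ hφ M p))
    (by
      intro M N g
      change HomologicalComplex.homologyMap (CohIII.tensorMap L g) p ≫
        HomologicalComplex.homologyMap ((tens A N).map φ) p =
        HomologicalComplex.homologyMap ((tens A M).map φ) p ≫
          HomologicalComplex.homologyMap (CohIII.tensorMap C g) p
      rw [← HomologicalComplex.homologyMap_comp, ← HomologicalComplex.homologyMap_comp,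
        tensorMap_comp_tens_map])

/-- **Mumford's complex, functorial form.** -/
theorem exists_finiteFree_TFun_iso [IsNoetherianRing A] (C : CochainComplex (ModuleCat.{u} A) ℤ)
    (N : ℤ) (hflat : ∀ i : ℤ, Module.Flat A (C.X i))
    (hN : ∀ (M : ModuleCat.{u} A) (p : ℤ), N < p → IsZero (CohIII.T C p M))
    (hfin : ∀ i : ℤ, Module.Finite A (C.homology i)) :
    ∃ L : CochainComplex (ModuleCat.{u} A) ℤ,
      (∀ i : ℤ, Module.Finite A (L.X i) ∧ Module.Free A (L.X i)) ∧
      (∀ i : ℤ, N < i → IsZero (L.X i)) ∧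
      ∀ p : ℤ, Nonempty (CohIII.TFun C p ≅ CohIII.TFun L p) := by
  obtain ⟨L, φ, hL, hz, -, hq⟩ := exists_finiteFree_universal_quasiIso A C N hflat hN hfin
  exact ⟨L, hL, hz, fun p => ⟨(tFunIso A φ hq p).symm⟩⟩

end Groth.Agent.H39.MumfordCx3
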