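import Mathlib
import Groth.Prelude.Def_LCI2
import Groth.Prelude.Def_SheafNL
import Groth.Agent.H39.NLFlatA
import Groth.Agent.S7222

set_option autoImplicit false
set_option linter.style.haveILetI false
universe u

namespace Groth.Agent.H39.NLFlatB

open CategoryTheory CategoryTheory.Limits HomologicalComplex Groth.Agent.H59.NLHomotopy TensorProduct

attribute [local instance] HasDerivedCategory.standard

variable {R S : Type u} [CommRing R] [CommRing S] [Algebra R S]

/-- If the naive cotangent complex of an extension with flat cotangent space has tor amplitude in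
`[-1, 0]`, the conormal module is flat. -/
theorem cotangent_flat_of_amp (P : Algebra.Extension.{u} R S) [Module.Flat S P.CotangentSpace]
    (h : DRing.HasTorAmplitudeIn S (-1) 0 (DRing.toD (NLCx.cx P))) : Module.Flat S P.Cotangent := by
  have := Groth.Agent.H39.NLFlatA.flat_of_hasTorAmplitudeIn_double
    (M := ModuleCat.of S P.Cotangent) (N := ModuleCat.of S P.CotangentSpace)
    (ModuleCat.ofHom P.cotangentComplex) inferInstance h
  exact this

/-- Tor amplitude `[-1, 0]` of the naive cotangent complex is preserved by base change of a flat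
algebra. -/
theorem amp_baseChange (A B A' B' : Type u) [CommRing A] [CommRing B]
    [CommRing A'] [CommRing B'] [Algebra A B] [Algebra A' B'] [Algebra A A'] [Algebra B B'] [Algebra A B']
    [IsScalarTower A A' B'] [IsScalarTower A B B'] [Algebra.IsPushout A A' B B'] [Module.Flat A B]
    (h : DRing.HasTorAmplitudeIn B (-1) 0 (LCI.NL A B)) :
    DRing.HasTorAmplitudeIn B' (-1) 0 (LCI.NL A' B') := by
  have hq : QuasiIso (NLCx.bcMapSelf A B A' B') := (Groth.Agent.S7222.result A B A' B').1
  let P := (Algebra.Generators.self A B).toExtension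
  have hfl : Module.Flat B P.Cotangent := cotangent_flat_of_amp P h
  have hiso : IsIso (DerivedCategory.Q.map (NLCx.bcMapSelf A B A' B')) :=
    (DerivedCategory.isIso_Q_map_iff_quasiIso (φ := NLCx.bcMapSelf A B A' B')).2 hq
  refine ⟨NLCx.bcCx P B', ?_, ?_, ⟨@asIso _ _ _ _ _ hiso⟩⟩
  · intro i hi
    exact isZero_double_X _ _ i (by omega) (by omega)
  · intro i
    by_cases h0 : i = -1
    · subst h0
      refine Groth.Agent.H35.KF.isFlat_of_iso
        (doubleXIso₀ (ModuleCat.ofHom (P.cotangentComplex.baseChange B')) rel).symm ?_
      change Module.Flat B' (B' ⊗[B] P.Cotangent)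
      infer_instance
    · by_cases h1 : i = 0
      · subst h1
        refine Groth.Agent.H35.KF.isFlat_of_iso
          (doubleXIso₁ (ModuleCat.ofHom (P.cotangentComplex.baseChange B')) rel ne).symm ?_
        change Module.Flat B' (B' ⊗[B] P.CotangentSpace)
        infer_instance
      · exact Groth.Agent.H35.KF.isFlat_of_isZero (isZero_double_X _ _ i h0 h1)

end Groth.Agent.H39.NLFlatB
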