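import Mathlib
import Groth.Agent.Lead.RegularGlDim

set_option autoImplicit false
universe u
open CategoryTheory

namespace Groth.Agent.H39.PolyPd

/-- Hilbert's syzygy theorem for `k[x_1..x_n]`, any `n` (cf. `Groth.Agent.H97.PolyGlDim`). -/
theorem hasProjectiveDimensionLE (k : Type u) [Field k] (n : ℕ)
    (M : Type u) [AddCommGroup M] [Module (MvPolynomial (Fin n) k) M]
    [Module.Finite (MvPolynomial (Fin n) k) M] :
    HasProjectiveDimensionLE (ModuleCat.of (MvPolynomial (Fin n) k) M) n := by
  have : Module.Finite (MvPolynomial (Fin n) k)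
      (ModuleCat.of (MvPolynomial (Fin n) k) M) := ‹_›
  rw [ModuleCat.hasProjectiveDimensionLE_iff_forall_maximalSpectrum]
  intro m
  have hdimS : ringKrullDim (MvPolynomial (Fin n) k) = ((n : ℕ) : WithBot ℕ∞) := by
    rw [MvPolynomial.ringKrullDim_of_isNoetherianRing, ringKrullDim_eq_zero_of_field]
    simp
  obtain ⟨d, hd, -⟩ :=
    Groth.Agent.Lead.RLR.exists_ringKrullDim_eq (Localization.AtPrime m.asIdeal)
  have hdle : d ≤ n := by
    have h1 : ringKrullDim (Localization.AtPrime m.asIdeal) ≤
        ringKrullDim (MvPolynomial (Fin n) k) := by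
      rw [IsLocalization.AtPrime.ringKrullDim_eq_height m.asIdeal]
      exact Ideal.height_le_ringKrullDim_of_isPrime
    rw [hd, hdimS] at h1
    exact_mod_cast h1
  have h2 := Groth.Agent.Lead.RLR.hasProjectiveDimensionLT (Localization.AtPrime m.asIdeal) d hd
    ((ModuleCat.of (MvPolynomial (Fin n) k) M).localizedModule m.asIdeal.primeCompl)
  exact hasProjectiveDimensionLT_of_ge _ (d + 1) (n + 1) (by omega)

end Groth.Agent.H39.PolyPd
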