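import Mathlib
import Groth.Prelude.Def_LCI2
import Groth.Prelude.Def_SheafNL
import Groth.Agent.H39.NLFlatB
import Groth.Agent.H39.PolyPd
import Groth.Agent.S2189
import Groth.Agent.H79.KoszulCone

set_option autoImplicit false
set_option linter.style.haveILetI false
universe u

namespace Groth.Agent.H39.NLFlatC

open CategoryTheory CategoryTheory.Limits HomologicalComplex Groth.Agent.H59.NLHomotopy TensorProduct

attribute [local instance] HasDerivedCategory.standard

/-- An ideal that is, locally around each prime containing it, generated by a regular sequence, is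
Koszul-regular. -/
theorem isKoszulRegularIdeal_of_regular {R : Type u} [CommRing R] (I : Ideal R)
    (h : ∀ (p : Ideal R) [p.IsPrime], I ≤ p → ∃ g : R, g ∉ p ∧ ∃ rs : List (Localization.Away g),
      RingTheory.Sequence.IsRegular (Localization.Away g) rs ∧
        Ideal.ofList rs = I.map (algebraMap R (Localization.Away g))) :
    LCI.IsKoszulRegularIdeal I := by
  intro 𝔭 h𝔭
  obtain ⟨g, hg, rs, hreg, hI⟩ := h 𝔭.asIdeal h𝔭
  refine ⟨g, hg, rs, fun i hi =>
    Groth.Agent.H79.KoszulCone.isZero_homology_of_isWeaklyRegular rs hreg.toIsWeaklyRegular i hi, ?_⟩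
  rw [← hI]

/-- Projectivity of the conormal module of an extension, as a module over the quotient ring. -/
theorem projective_cotangent_ker {R S : Type u} [CommRing R] [CommRing S] [Algebra R S]
    (P : Algebra.Extension.{u} R S) [Module.Projective S P.Cotangent] :
    Module.Projective (P.Ring ⧸ P.ker) P.ker.Cotangent := by
  let e₁ : (P.Ring ⧸ P.ker) ≃+* S :=
    RingHom.quotientKerEquivOfSurjective P.algebraMap_surjective
  have he : ∀ r : S, e₁.symm r = Ideal.Quotient.mk _ (P.σ r) := by
    intro r
    rw [RingEquiv.symm_apply_eq]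
    change r = algebraMap P.Ring S (P.σ r)
    exact (P.algebraMap_σ r).symm
  haveI : RingHomInvPair (e₁.symm : S →+* (P.Ring ⧸ P.ker)) (e₁ : (P.Ring ⧸ P.ker) →+* S) :=
    ⟨by ext; simp, by ext; simp⟩
  haveI : RingHomInvPair (e₁ : (P.Ring ⧸ P.ker) →+* S) (e₁.symm : S →+* (P.Ring ⧸ P.ker)) :=
    ⟨by ext; simp, by ext; simp⟩
  let e₂ : P.Cotangent ≃ₛₗ[(e₁.symm : S →+* (P.Ring ⧸ P.ker))] P.ker.Cotangent :=
    { toFun := Algebra.Extension.Cotangent.val
      map_add' := fun _ _ => rfl
      map_smul' := by
        intro r x
        rw [Algebra.Extension.Cotangent.val_smul]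
        change _ = e₁.symm r • x.val
        rw [he r]
        rfl
      invFun := Algebra.Extension.Cotangent.of
      left_inv := fun _ => rfl
      right_inv := fun _ => rfl }
  exact Module.Projective.of_equiv e₂


/-- For a finite presentation `G` of an algebra `F` over a field `κ` by a polynomial ring, tor
amplitude `[-1, 0]` of `NL_{F/κ}` implies the kernel is a Koszul-regular ideal. -/
theorem isKoszulRegularIdeal_ker_of_amp (κ F : Type u) [Field κ] [CommRing F] [Algebra κ F]
    [Algebra.FiniteType κ F] (n : ℕ) (G : Algebra.Generators κ F (Fin n))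
    (h : DRing.HasTorAmplitudeIn F (-1) 0 (LCI.NL κ F)) :
    LCI.IsKoszulRegularIdeal G.toExtension.ker := by
  let P : Algebra.Extension.{u} κ F := G.toExtension
  obtain ⟨e⟩ := nonempty_toD_iso (Q := P) (Q' := (Algebra.Generators.self κ F).toExtension)
    (G.defaultHom (Algebra.Generators.self κ F)).toExtensionHom
    ((Algebra.Generators.self κ F).defaultHom G).toExtensionHom
  have h' : DRing.HasTorAmplitudeIn F (-1) 0 (DRing.toD (NLCx.cx P)) :=
    Groth.Agent.H35.KF.hasTorAmplitudeIn_of_iso e.symm _ _ h
  haveI : Module.Free F P.CotangentSpace := inferInstanceAs (Module.Free F G.toExtension.CotangentSpace)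
  haveI : Module.Flat F P.Cotangent := Groth.Agent.H39.NLFlatB.cotangent_flat_of_amp P h'
  haveI : IsNoetherianRing P.Ring := inferInstanceAs (IsNoetherianRing (MvPolynomial (Fin n) κ))
  haveI : IsNoetherianRing F := Algebra.FiniteType.isNoetherianRing κ F
  haveI : Module.Finite F P.Cotangent :=
    Algebra.Extension.Cotangent.finite ((isNoetherianRing_iff_ideal_fg _).1 inferInstance P.ker)
  haveI : Module.FinitePresentation F P.Cotangent := Module.finitePresentation_of_finite F _
  haveI : Module.Projective F P.Cotangent := Module.Flat.projective_of_finitePresentation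
  haveI : Module.Projective (P.Ring ⧸ P.ker) P.ker.Cotangent := projective_cotangent_ker P
  let I : Ideal (MvPolynomial (Fin n) κ) := P.ker
  haveI : Module.Projective (MvPolynomial (Fin n) κ ⧸ I) I.Cotangent := ‹_›
  refine isKoszulRegularIdeal_of_regular I (fun p _ hp => ?_)
  have hpd : HasProjectiveDimensionLT (ModuleCat.of (MvPolynomial (Fin n) κ) I) (n + 1) := by
    haveI : Module.Finite (MvPolynomial (Fin n) κ) I :=
      Module.Finite.iff_fg.2 ((isNoetherianRing_iff_ideal_fg _).1 inferInstance I)
    exact Groth.Agent.H39.PolyPd.hasProjectiveDimensionLE κ n I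
  exact Groth.Agent.S2189.result I (n + 1) hpd p hp


/-- **Field case.** A finite type algebra over a field whose naive cotangent complex has tor
amplitude in `[-1, 0]` is a local complete intersection. -/
theorem isLCI_of_amp_field (κ F : Type u) [Field κ] [CommRing F] [Algebra κ F]
    [Algebra.FiniteType κ F] (h : DRing.HasTorAmplitudeIn F (-1) 0 (LCI.NL κ F)) :
    LCI.IsLCI κ F := by
  obtain ⟨n, f0, hf0⟩ := Algebra.FiniteType.iff_quotient_mvPolynomial''.1
    (inferInstance : Algebra.FiniteType κ F)
  have hf : MvPolynomial.aeval (R := κ) (fun i : Fin n => f0 (MvPolynomial.X i)) = f0 := by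
    apply MvPolynomial.algHom_ext
    intro i
    simp
  have hsurj : Function.Surjective
      (MvPolynomial.aeval (R := κ) (fun i : Fin n => f0 (MvPolynomial.X i))) := by
    rw [hf]
    exact hf0
  let G : Algebra.Generators κ F (Fin n) :=
    Algebra.Generators.ofSurjective (fun i : Fin n => f0 (MvPolynomial.X i)) hsurj
  refine ⟨inferInstance, n, MvPolynomial.aeval (R := κ) G.val, hsurj, ?_⟩
  exact isKoszulRegularIdeal_ker_of_amp κ F n G h

end Groth.Agent.H39.NLFlatC
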