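import Mathlib
import Groth.Prelude.Def_LCI2
import Groth.Prelude.Def_SheafNL
import Groth.Prelude.Def_RegImm
import Groth.Agent.H39.NLFlatC
import Groth.Agent.S9287
import Groth.Agent.S7072
import Groth.Agent.H47.Synt.Fibres

set_option autoImplicit false
set_option linter.style.haveILetI false
universe u

namespace Groth.Agent.H39.NLFlatD

open CategoryTheory CategoryTheory.Limits TensorProduct

attribute [local instance] HasDerivedCategory.standard
attribute [local instance] Algebra.TensorProduct.rightAlgebra

/-- A flat finitely presented algebra whose naive cotangent complex has tor amplitude in `[-1, 0]` is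
a local complete intersection. -/
theorem isLCI_of_amp (A B : Type u) [CommRing A] [CommRing B] [Algebra A B] [Module.Flat A B]
    [Algebra.FinitePresentation A B] (h : DRing.HasTorAmplitudeIn B (-1) 0 (LCI.NL A B)) :
    LCI.IsLCI A B := by
  have hs : Synt.IsSyntomic A B := by
    refine ⟨inferInstance, inferInstance, fun p => ?_⟩
    have h1 : DRing.HasTorAmplitudeIn (p.asIdeal.Fiber B) (-1) 0
        (LCI.NL p.asIdeal.ResidueField (p.asIdeal.Fiber B)) :=
      Groth.Agent.H39.NLFlatB.amp_baseChange A B p.asIdeal.ResidueField (p.asIdeal.Fiber B) h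
    have h2 : LCI.IsLCI p.asIdeal.ResidueField (p.asIdeal.Fiber B) :=
      Groth.Agent.H39.NLFlatC.isLCI_of_amp_field _ _ h1
    exact Groth.Agent.H47.Synt.isLCIOver_of_isSyntomic_field
      (Groth.Agent.H46.LCISynt.isSyntomic_of_flat_of_isLCI _ _ inferInstance h2)
  exact ((Groth.Agent.S9287.result A B).1 hs).2


/-- For a flat finitely presented ring map, tor amplitude `[-1, 0]` of the naive cotangent complex is
equivalent to being a local complete intersection. -/
theorem amp_iff_isLCI (A B : Type u) [CommRing A] [CommRing B] [Algebra A B] [Module.Flat A B]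
    [Algebra.FinitePresentation A B] :
    DRing.HasTorAmplitudeIn B (-1) 0 (LCI.NL A B) ↔ LCI.IsLCI A B :=
  ⟨isLCI_of_amp A B, fun h => (Groth.Agent.S7072.result h).2⟩

end Groth.Agent.H39.NLFlatD
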