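import Mathlib
import Groth.Agent.H39.SmoothFactor
import Groth.Agent.H39.RegImmKoszul
import Groth.Agent.S8663
import Groth.Agent.S1508
import Groth.Agent.S1513

set_option autoImplicit false
set_option linter.style.haveILetI false
universe u

open AlgebraicGeometry CategoryTheory CategoryTheory.Limits

namespace Groth.Agent.H39.PerfectCancel

/-- the graph of an `S`-morphism into a smooth `S`-scheme is a Koszul-regular immersion. -/
theorem isRegularImmersion_koszul_graph {X Y S : Scheme.{u}} (p : X ⟶ S) (q : Y ⟶ S) [Smooth q]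
    (f : X ⟶ Y) (hf : f ≫ q = p) :
    RegImm.IsRegularImmersion .koszul (pullback.lift (𝟙 X) f (by rw [hf]; simp) :
      X ⟶ pullback p q) := by
  set γ : X ⟶ pullback p q := pullback.lift (𝟙 X) f (by rw [hf]; simp) with hγ
  have hγ1 : γ ≫ pullback.fst p q = 𝟙 X := pullback.lift_fst _ _ _
  haveI : Smooth (pullback.fst p q) := inferInstance
  haveI : IsImmersion (γ ≫ pullback.fst p q) := by rw [hγ1]; infer_instance
  haveI : IsImmersion γ := IsImmersion.of_comp γ (pullback.fst p q)
  exact SmoothFactor.isRegularImmersion_koszul_of_section (pullback.fst p q) γ hγ1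

/-- if `g` is smooth and `f ≫ g` is perfect then `f` is perfect. -/
theorem perfectMor_of_comp_perfect_of_smooth {X Y S : Scheme.{u}} (f : X ⟶ Y) (g : Y ⟶ S)
    [Smooth g] (h : MoreMor.IsPerfectMor (f ≫ g)) : MoreMor.IsPerfectMor f := by
  set γ : X ⟶ pullback (f ≫ g) g := pullback.lift (𝟙 X) f (by simp) with hγ
  have hγ2 : γ ≫ pullback.snd (f ≫ g) g = f := pullback.lift_snd _ _ _
  have hreg : RegImm.IsRegularImmersion .koszul γ :=
    isRegularImmersion_koszul_graph (f ≫ g) g f rfl
  have h1 : MoreMor.IsPerfectMor γ :=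
    Groth.Agent.S8663.result γ
      (RegImmKoszul.isKoszulAt_of_regularImmersion γ .koszul (Or.inr rfl) hreg)
  have h2 : MoreMor.IsPerfectMor (pullback.snd (f ≫ g) g) :=
    Groth.Agent.S1513.result (f ≫ g) (pullback.snd (f ≫ g) g) (pullback.fst (f ≫ g) g) g
      (IsPullback.of_hasPullback (f ≫ g) g) h
  have h3 := Groth.Agent.S1508.result γ (pullback.snd (f ≫ g) g) h1 h2
  rwa [hγ2] at h3

end Groth.Agent.H39.PerfectCancel
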