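import Mathlib
import Groth.Agent.H2.Tor1

/-!
# Primitive polynomials in several variables

* a polynomial with a non-zero-divisor coefficient is a non-zero-divisor;
* a primitive polynomial is a non-zero-divisor (localize at maximal ideals);
* the quotient of `A[T₁,…,Tₙ]` by a primitive polynomial is flat over `A`
  (using helper2's `Tor1Zero` library).
-/

set_option autoImplicit false
universe u

open TensorProduct

namespace Groth.Agent.H39

variable {A : Type u} [CommRing A]

/-- a polynomial one of whose coefficients is a non-zero-divisor is a non-zero-divisor. -/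
theorem mvPolynomial_mem_nonZeroDivisors_of_coeff_mem :
    ∀ (n : ℕ) (f : MvPolynomial (Fin n) A) (m : Fin n →₀ ℕ),
      f.coeff m ∈ nonZeroDivisors A → f ∈ nonZeroDivisors (MvPolynomial (Fin n) A) := by
  intro n
  induction n with
  | zero =>
    intro f m hm
    have hm0 : m = 0 := Subsingleton.elim _ _
    rw [hm0] at hm
    rw [MvPolynomial.eq_C_of_isEmpty f, mem_nonZeroDivisors_iff_right]
    intro g hg
    ext k
    have := congrArg (MvPolynomial.coeff k) hg
    rw [mul_comm, MvPolynomial.coeff_C_mul, MvPolynomial.coeff_zero, mul_comm] at this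
    rw [MvPolynomial.coeff_zero]
    exact (mem_nonZeroDivisors_iff_right.mp hm) _ this
  | succ n ih =>
    intro f m hm
    set e := MvPolynomial.finSuccEquiv A n with he
    have h1 : ((e f).coeff (m 0)) ∈ nonZeroDivisors (MvPolynomial (Fin n) A) := by
      apply ih _ (Finsupp.tail m)
      rw [MvPolynomial.finSuccEquiv_coeff_coeff, Finsupp.cons_tail]
      exact hm
    have h2 : e f ∈ nonZeroDivisors (Polynomial (MvPolynomial (Fin n) A)) :=
      Polynomial.mem_nonzeroDivisors_of_coeff_mem _ h1
    rw [mem_nonZeroDivisors_iff_right]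
    intro g hg
    have h3 : e g * e f = 0 := by rw [← map_mul, hg, map_zero]
    have h4 : e g = 0 := (mem_nonZeroDivisors_iff_right.mp h2) _ h3
    exact (EmbeddingLike.map_eq_zero_iff (f := e)).mp h4

/-- a primitive polynomial is a non-zero-divisor. -/
theorem mvPolynomial_mem_nonZeroDivisors_of_primitive (n : ℕ) (f : MvPolynomial (Fin n) A)
    (hf : Ideal.span (Set.range f.coeff) = ⊤) :
    f ∈ nonZeroDivisors (MvPolynomial (Fin n) A) := by
  rw [mem_nonZeroDivisors_iff_right]
  intro g hg
  ext m
  rw [MvPolynomial.coeff_zero]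
  apply eq_zero_of_localization
  intro J hJ
  obtain ⟨m0, hm0⟩ : ∃ m0, f.coeff m0 ∉ J := by
    by_contra hcon
    push Not at hcon
    have hle : Ideal.span (Set.range f.coeff) ≤ J :=
      Ideal.span_le.mpr (by rintro _ ⟨m, rfl⟩; exact hcon m)
    rw [hf] at hle
    exact hJ.ne_top (top_le_iff.mp hle)
  set φ := MvPolynomial.map (σ := Fin n) (algebraMap A (Localization.AtPrime J)) with hφ
  have hunit : IsUnit ((φ f).coeff m0) := by
    rw [hφ, MvPolynomial.coeff_map]
    exact IsLocalization.map_units (Localization.AtPrime J) (⟨f.coeff m0, hm0⟩ : J.primeCompl)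
  have hnzd := mvPolynomial_mem_nonZeroDivisors_of_coeff_mem n (φ f) m0 hunit.mem_nonZeroDivisors
  have h1 : φ g * φ f = 0 := by rw [← map_mul, hg, map_zero]
  have h0 : φ g = 0 := (mem_nonZeroDivisors_iff_right.mp hnzd) _ h1
  have h2 := congrArg (MvPolynomial.coeff m) h0
  rwa [hφ, MvPolynomial.coeff_map, MvPolynomial.coeff_zero] at h2

/-- the quotient by a primitive polynomial is flat. -/
theorem flat_quotient_of_primitive (n : ℕ) (f : MvPolynomial (Fin n) A)
    (hf : Ideal.span (Set.range f.coeff) = ⊤) :
    Module.Flat A (MvPolynomial (Fin n) A ⧸ Ideal.span ({f} : Set (MvPolynomial (Fin n) A))) := by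
  have hnzd := mvPolynomial_mem_nonZeroDivisors_of_primitive n f hf
  let μ : MvPolynomial (Fin n) A →ₗ[A] MvPolynomial (Fin n) A := LinearMap.mulLeft A f
  let π : MvPolynomial (Fin n) A →ₗ[A]
      MvPolynomial (Fin n) A ⧸ Ideal.span ({f} : Set (MvPolynomial (Fin n) A)) :=
    (Ideal.Quotient.mkₐ A (Ideal.span ({f} : Set (MvPolynomial (Fin n) A)))).toLinearMap
  have hμ : Function.Injective μ := by
    rw [injective_iff_map_eq_zero]
    intro x hx
    exact (mem_nonZeroDivisors_iff.mp hnzd).1 x hx
  have hπ : Function.Surjective π := Ideal.Quotient.mkₐ_surjective A _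
  have hex : Function.Exact μ π := by
    intro x
    constructor
    · intro hx
      have hx' : Ideal.Quotient.mk (Ideal.span ({f} : Set (MvPolynomial (Fin n) A))) x = 0 := hx
      rw [Ideal.Quotient.eq_zero_iff_mem, Ideal.mem_span_singleton'] at hx'
      obtain ⟨a, rfl⟩ := hx'
      exact ⟨a, mul_comm _ _⟩
    · rintro ⟨a, rfl⟩
      show Ideal.Quotient.mk (Ideal.span ({f} : Set (MvPolynomial (Fin n) A))) (f * a) = 0
      rw [Ideal.Quotient.eq_zero_iff_mem, Ideal.mem_span_singleton']
      exact ⟨a, mul_comm _ _⟩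
  apply Groth.Agent.H2.flat_of_forall_tor1Zero_quotient
  intro I
  rw [Groth.Agent.H2.tor1Zero_iff_right μ π hμ hex hπ]
  set e := MvPolynomial.algebraTensorAlgEquiv (σ := Fin n) A (A ⧸ I) with he
  set fbar := MvPolynomial.map (σ := Fin n) (algebraMap A (A ⧸ I)) f with hfbar
  have hprim : Ideal.span (Set.range fbar.coeff) = ⊤ := by
    have : Set.range fbar.coeff = (algebraMap A (A ⧸ I)) '' (Set.range f.coeff) := by
      ext y
      constructor
      · rintro ⟨m, rfl⟩
        exact ⟨f.coeff m, ⟨m, rfl⟩, (MvPolynomial.coeff_map _ _ _).symm⟩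
      · rintro ⟨_, ⟨m, rfl⟩, rfl⟩
        exact ⟨m, MvPolynomial.coeff_map _ _ _⟩
    rw [this, ← Ideal.map_span, hf, Ideal.map_top]
  have hfb := mvPolynomial_mem_nonZeroDivisors_of_primitive n fbar hprim
  have hcomm : ∀ w, e (μ.lTensor (A ⧸ I) w) = fbar * e w := by
    intro w
    induction w using TensorProduct.induction_on with
    | zero => simp
    | tmul a p =>
      rw [LinearMap.lTensor_tmul, he, MvPolynomial.algebraTensorAlgEquiv_tmul,
        MvPolynomial.algebraTensorAlgEquiv_tmul]
      show a • MvPolynomial.map _ (f * p) = _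
      rw [map_mul, mul_smul_comm]
    | add x y hx hy => rw [map_add, map_add, hx, hy, map_add, mul_add]
  rw [injective_iff_map_eq_zero]
  intro w hw
  have h1 := hcomm w
  rw [hw, map_zero] at h1
  have h0 : e w = 0 := (mem_nonZeroDivisors_iff.mp hfb).1 _ h1.symm
  exact (EmbeddingLike.map_eq_zero_iff (f := e)).mp h0

end Groth.Agent.H39
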