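import Mathlib.RingTheory.AdicCompletion.Basic
import Mathlib.RingTheory.Ideal.Operations
import Mathlib.RingTheory.Finiteness.Basic
import Mathlib.LinearAlgebra.Pi
import Mathlib.Algebra.Module.Projective

set_option autoImplicit false
universe u v w

namespace Groth.Agent.H39

/-- dependent choice along the naturals, with types varying with the index -/
theorem exists_dep_seq {α : ℕ → Type*} (R : ∀ n, α n → α (n + 1) → Prop) (a0 : α 0)
    (step : ∀ n (a : α n), ∃ a', R n a a') :
    ∃ t : ∀ n, α n, t 0 = a0 ∧ ∀ n, R n (t n) (t (n + 1)) := by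
  classical
  let t : ∀ n, α n := fun n =>
    Nat.rec (motive := α) a0 (fun k a => Classical.choose (step k a)) n
  exact ⟨t, rfl, fun n => Classical.choose_spec (step n (t n))⟩

section pi

variable {A : Type u} [CommRing A] {ι : Type*} [Fintype ι]

theorem pi_mem_smul_top_iff (J : Ideal A) (x : ι → A) :
    x ∈ J • (⊤ : Submodule A (ι → A)) ↔ ∀ j, x j ∈ J := by
  classical
  constructor
  · intro hx
    refine Submodule.smul_induction_on hx ?_ ?_
    · intro a ha y _ j
      simpa using Ideal.mul_mem_right _ _ ha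
    · intro y z hy hz j
      simpa using Ideal.add_mem _ (hy j) (hz j)
  · intro hx
    rw [pi_eq_sum_univ' x]
    refine Submodule.sum_mem _ fun j _ => ?_
    exact Submodule.smul_mem_smul (hx j) Submodule.mem_top

theorem isAdicComplete_pi (I : Ideal A) [IsAdicComplete I A] : IsAdicComplete I (ι → A) := by
  classical
  have hH : IsHausdorff I (ι → A) := by
    refine ⟨fun x hx => ?_⟩
    funext j
    refine IsHausdorff.haus (inferInstance : IsHausdorff I A) (x j) fun n => ?_
    have h1 := hx n
    rw [SModEq.zero, pi_mem_smul_top_iff] at h1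
    rw [SModEq.zero, smul_eq_mul, Ideal.mul_top]
    exact h1 j
  have hP : IsPrecomplete I (ι → A) := by
    refine ⟨fun {g} hg => ?_⟩
    have hc : ∀ j, ∃ a : A, ∀ n, g n j ≡ a [SMOD (I ^ n • ⊤ : Submodule A A)] := by
      intro j
      refine IsPrecomplete.prec (inferInstance : IsPrecomplete I A) (f := fun n => g n j) ?_
      intro m n hmn
      have h1 := hg hmn
      rw [SModEq.sub_mem, pi_mem_smul_top_iff] at h1
      rw [SModEq.sub_mem, smul_eq_mul, Ideal.mul_top]
      exact h1 j
    choose a ha using hc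
    refine ⟨a, fun n => ?_⟩
    rw [SModEq.sub_mem, pi_mem_smul_top_iff]
    intro j
    have h1 := ha j n
    rw [SModEq.sub_mem, smul_eq_mul, Ideal.mul_top] at h1
    exact h1
  exact { toIsHausdorff := hH, toIsPrecomplete := hP }

end pi

section lifting

variable {A : Type u} [CommRing A] (J : Ideal A)
  {M : Type*} {N : Type*} {Q : Type*} [AddCommGroup M] [Module A M] [AddCommGroup N] [Module A N]
  [AddCommGroup Q] [Module A Q]

/-- a retract of a finite free module over `A ⧸ J` lifts along maps from modules killed by `J`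
as soon as the image is in the range. -/
theorem lift_of_retract (hN : ∀ a ∈ J, ∀ x : N, a • x = 0) {m : ℕ}
    (i : M →ₗ[A] (Fin m → A ⧸ J)) (r : (Fin m → A ⧸ J) →ₗ[A] M) (hri : r ∘ₗ i = LinearMap.id)
    (g : N →ₗ[A] Q) (h : M →ₗ[A] Q) (hgh : ∀ x, h x ∈ LinearMap.range g) :
    ∃ h' : M →ₗ[A] N, g ∘ₗ h' = h := by
  classical
  have hc : ∀ j : Fin m, ∃ y : N, g y = h (r (Pi.single j 1)) := fun j => hgh _
  choose y hy using hc
  let φ : Fin m → (A ⧸ J) →ₗ[A] N := fun j =>
    Submodule.liftQ J (LinearMap.toSpanSingleton A N (y j)) (by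
      intro a ha
      rw [LinearMap.mem_ker, LinearMap.toSpanSingleton_apply]
      exact hN a ha _)
  let Φ : (Fin m → A ⧸ J) →ₗ[A] N := ∑ j, (φ j) ∘ₗ (LinearMap.proj j)
  have hΦ : g ∘ₗ Φ = h ∘ₗ r := by
    apply LinearMap.pi_ext'
    intro j
    apply Submodule.linearMap_qext
    apply LinearMap.ext_ring
    simp only [LinearMap.comp_apply, Submodule.mkQ_apply, LinearMap.coe_single]
    have h1 : Φ (Pi.single j (Submodule.Quotient.mk (1 : A))) = y j := by
      simp only [Φ, LinearMap.sum_apply, LinearMap.comp_apply, LinearMap.proj_apply]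
      rw [Finset.sum_eq_single j]
      · rw [Pi.single_eq_same]
        show (Submodule.liftQ J (LinearMap.toSpanSingleton A N (y j)) _)
          (Submodule.Quotient.mk (1 : A)) = y j
        rw [Submodule.liftQ_apply, LinearMap.toSpanSingleton_apply, one_smul]
      · intro b _ hb
        rw [Pi.single_eq_of_ne hb, map_zero]
      · intro hj
        exact absurd (Finset.mem_univ j) hj
    rw [h1, hy]
    rfl
  refine ⟨Φ ∘ₗ i, ?_⟩
  rw [← LinearMap.comp_assoc, hΦ, LinearMap.comp_assoc, hri, LinearMap.comp_id]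

variable {M' : Type*} {P' : Type*} {P : Type*} [AddCommGroup M'] [Module A M']
  [AddCommGroup P'] [Module A P'] [AddCommGroup P] [Module A P]

/-- one step in the construction of a compatible tower of sections -/
theorem section_step (f : M' →ₗ[A] M) (t : P' →ₗ[A] P) (p' : P' →ₗ[A] M') (p : P →ₗ[A] M)
    (hsq : p ∘ₗ t = f ∘ₗ p') (ht : Function.Surjective t)
    (hker : ∀ y, f y = 0 → ∃ w, t w = 0 ∧ p' w = y)
    (hP' : ∀ a ∈ J, ∀ x : P', a • x = 0) {m : ℕ}
    (i : M' →ₗ[A] (Fin m → A ⧸ J)) (r : (Fin m → A ⧸ J) →ₗ[A] M') (hri : r ∘ₗ i = LinearMap.id)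
    (s : M →ₗ[A] P) (hs : p ∘ₗ s = LinearMap.id) :
    ∃ s' : M' →ₗ[A] P', p' ∘ₗ s' = LinearMap.id ∧ t ∘ₗ s' = s ∘ₗ f := by
  obtain ⟨s', hs'⟩ := lift_of_retract J hP' i r hri (LinearMap.prod p' t)
    (LinearMap.prod LinearMap.id (s ∘ₗ f)) (by
      intro y
      obtain ⟨z', hz'⟩ := ht (s (f y))
      have h1 : f (p' z' - y) = 0 := by
        rw [map_sub, ← LinearMap.comp_apply, ← hsq, LinearMap.comp_apply, hz',
          ← LinearMap.comp_apply, hs, LinearMap.id_apply, sub_self]
      obtain ⟨w, hw1, hw2⟩ := hker _ h1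
      refine ⟨z' - w, ?_⟩
      refine Prod.ext ?_ ?_
      · show p' (z' - w) = y
        rw [map_sub, hw2, sub_sub_cancel]
      · show t (z' - w) = s (f y)
        rw [map_sub, hw1, hz', sub_zero])
  refine ⟨s', ?_, ?_⟩
  · have := congrArg (fun φ => (LinearMap.fst A M' P) ∘ₗ φ) hs'
    simp only [← LinearMap.comp_assoc, LinearMap.fst_prod] at this
    exact this
  · have := congrArg (fun φ => (LinearMap.snd A M' P) ∘ₗ φ) hs'
    simp only [← LinearMap.comp_assoc, LinearMap.snd_prod] at this
    exact this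

end lifting

end Groth.Agent.H39
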