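import Mathlib
import Groth.Agent.H39.QRFlat
import Groth.Agent.H39.QRLocal
import Groth.Agent.H39.RegImmStalk3

set_option autoImplicit false
set_option linter.style.haveILetI false
universe u

open AlgebraicGeometry CategoryTheory

namespace Groth.Agent.H39.QRFlatGeom

open Groth.Agent.H39.RegImmStalk3 Groth.Agent.H39.QRFlat

/-- Ring-hom version: `φ : A → B` with `B` Noetherian local, `ψ : B → C` surjective with kernel
generated by a quasi-regular family and `C` nontrivial and flat over `A`; then `φ` is flat. -/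
theorem ringHom_flat_of_qr {A B C : Type u} [CommRing A] [CommRing B] [CommRing C]
    [IsNoetherianRing B] [IsLocalRing B] [Nontrivial C]
    (φ : A →+* B) (ψ : B →+* C) (hψ : Function.Surjective ψ) {c : ℕ} (g : Fin c → B)
    (hg : CAlgX.IsQuasiRegular g) (hker : RingHom.ker ψ = Ideal.span (Set.range g))
    (hfl : (ψ.comp φ).Flat) : φ.Flat := by
  letI := φ.toAlgebra
  letI : Algebra A C := (ψ.comp φ).toAlgebra
  haveI hflC : Module.Flat A C := hfl
  let e : (B ⧸ Groth.Agent.H19.QReg.J g) ≃+* C :=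
    (Ideal.quotEquivOfEq hker.symm).trans (RingHom.quotientKerEquivOfSurjective hψ)
  have he : ∀ b : B, e (Ideal.Quotient.mk _ b) = ψ b := fun b => rfl
  let el : (B ⧸ Groth.Agent.H19.QReg.J g) ≃ₗ[A] C :=
    { e.toAddEquiv with
      map_smul' := by
        intro a x
        obtain ⟨b, rfl⟩ := Ideal.Quotient.mk_surjective x
        change e (a • Ideal.Quotient.mk _ b) = a • e (Ideal.Quotient.mk _ b)
        rw [Algebra.smul_def, Algebra.smul_def, map_mul, he]
        rfl }
  haveI : Module.Flat A (B ⧸ Groth.Agent.H19.QReg.J g) := Module.Flat.of_linearEquiv el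
  have hne : Groth.Agent.H19.QReg.J g ≠ ⊤ := by
    change Ideal.span (Set.range g) ≠ ⊤
    rw [← hker]
    exact RingHom.ker_ne_top ψ
  exact flat_of_qr g hg hne

theorem flat_stalkMap_of_relQuasi {Z X S : Scheme.{u}} (f : X ⟶ S) (i : Z ⟶ X)
    (hi : RegImm.IsRelRegularImmersion RegImm.Kind.quasi f i) (z : ↥Z)
    [IsNoetherianRing ↑(X.presheaf.stalk (i z))] :
    (f.stalkMap (i z)).hom.Flat := by
  obtain ⟨⟨himm, hreg⟩, hflat⟩ := hi
  haveI := himm
  haveI := hflat
  obtain ⟨U, hzU, hcl, rs, hrs, hker⟩ := hreg z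
  haveI := hcl
  obtain ⟨hU', hsurj⟩ :=
    isAffineOpen_preimage_and_surjective_of_isClosedImmersion_restrict i U.1 U.2
  have hk := ker_stalkMap_eq_of_surjective i z U.1 U.2 hzU hU' hsurj
  rw [hker] at hk
  letI := X.presheaf.algebra_section_stalk ⟨i z, hzU⟩
  haveI := U.2.isLocalization_stalk ⟨i z, hzU⟩
  have hqr := Groth.Agent.H39.QRLocal.isQuasiRegular_of_isLocalization
    (U.2.primeIdealOf ⟨i z, hzU⟩).asIdeal.primeCompl (X.presheaf.stalk (i z)) rs.get hrs
  have hk' : RingHom.ker (i.stalkMap z).hom =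
      Ideal.span (Set.range fun k => algebraMap Γ(X, U.1) (X.presheaf.stalk (i z)) (rs.get k)) := by
    rw [hk, Ideal.ofList, Ideal.map_span]
    congr 1
    ext b
    constructor
    · rintro ⟨a, ha, rfl⟩
      obtain ⟨k, rfl⟩ := List.mem_iff_get.mp ha
      exact ⟨k, rfl⟩
    · rintro ⟨k, rfl⟩
      exact ⟨rs.get k, List.get_mem rs k, rfl⟩
  have hsurjst : Function.Surjective (i.stalkMap z).hom := i.stalkMap_surjective z
  have hfl : ((i ≫ f).stalkMap z).hom.Flat := Flat.stalkMap (i ≫ f) z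
  rw [Scheme.Hom.stalkMap_comp] at hfl
  exact ringHom_flat_of_qr (f.stalkMap (i z)).hom (i.stalkMap z).hom hsurjst _ hqr hk' hfl

end Groth.Agent.H39.QRFlatGeom
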