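import Mathlib
import Groth.Agent.H39.QRLocal
import Groth.Agent.H39.RegImmStalk3

set_option autoImplicit false
set_option linter.style.haveILetI false
universe u

open AlgebraicGeometry CategoryTheory RingTheory.Sequence

namespace Groth.Agent.H39.RegImmQuasi

open Groth.Agent.H39.RegImmStalk3

variable {X Y : Scheme.{u}}

theorem isRegularImmersion_regular_iff_quasi [IsLocallyNoetherian X] (j : Y ⟶ X) :
    RegImm.IsRegularImmersion RegImm.Kind.regular j ↔
      RegImm.IsRegularImmersion RegImm.Kind.quasi j := by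
  constructor
  · rintro ⟨h1, h2⟩
    refine ⟨h1, fun z => ?_⟩
    obtain ⟨U, hzU, hcl, rs, hrs, hker⟩ := h2 z
    refine ⟨U, hzU, hcl, rs, ?_, hker⟩
    exact Groth.Agent.H19.QReg.isQuasiRegular_of_isWeaklyRegular rs.get
      (by rw [List.ofFn_get]; exact hrs.toIsWeaklyRegular)
  · rintro ⟨h1, h2⟩
    haveI := h1
    refine ⟨h1, fun z => ?_⟩
    obtain ⟨U, hzU, hcl, rs, hrs, hker⟩ := h2 z
    haveI := hcl
    apply isRegularImmersionAt_of_isRegularIdeal_ker
    obtain ⟨hU', hsurj⟩ :=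
      isAffineOpen_preimage_and_surjective_of_isClosedImmersion_restrict j U.1 U.2
    haveI : IsNoetherianRing Γ(X, U.1) := IsLocallyNoetherian.component_noetherian U
    letI := X.presheaf.algebra_section_stalk ⟨j z, hzU⟩
    haveI := U.2.isLocalization_stalk ⟨j z, hzU⟩
    rw [ker_stalkMap_eq_of_surjective j z U.1 U.2 hzU hU' hsurj, hker]
    refine Groth.Agent.H39.QRLocal.isRegularIdeal_map_atPrime_of_quasiRegular
      (U.2.primeIdealOf ⟨j z, hzU⟩).asIdeal (X.presheaf.stalk (j z)) rs hrs ?_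
    rw [← hker]
    exact ker_app_le_primeIdealOf j z U.1 U.2 hzU hU'

theorem isRegularIdeal_regular_of_quasi [IsLocallyNoetherian X] (I : X.IdealSheafData)
    (h : RegImm.IsRegularIdeal RegImm.Kind.quasi I) :
    RegImm.IsRegularIdeal RegImm.Kind.regular I := by
  intro x hx
  obtain ⟨U, hxU, rs, hrs, hI⟩ := h x hx
  haveI : IsNoetherianRing Γ(X, U.1) := IsLocallyNoetherian.component_noetherian U
  letI := X.presheaf.algebra_section_stalk ⟨x, hxU⟩
  haveI := U.2.isLocalization_stalk ⟨x, hxU⟩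
  have hIp : I.ideal U ≤ (U.2.primeIdealOf ⟨x, hxU⟩).asIdeal := by
    intro a ha
    rw [Scheme.IdealSheafData.mem_support_iff_of_mem (U := U) hxU, Scheme.mem_zeroLocus_iff] at hx
    have h1 := hx a ha
    rw [Scheme.mem_basicOpen _ _ _ hxU] at h1
    by_contra hna
    exact h1 ((IsLocalization.AtPrime.isUnit_to_map_iff (X.presheaf.stalk x)
      (U.2.primeIdealOf ⟨x, hxU⟩).asIdeal a).mpr hna)
  have h1 := Groth.Agent.H39.QRLocal.isRegularIdeal_map_atPrime_of_quasiRegular
    (U.2.primeIdealOf ⟨x, hxU⟩).asIdeal (X.presheaf.stalk x) rs hrs (hI ▸ hIp)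
  rw [← hI] at h1
  obtain ⟨f, hf, H⟩ := Groth.Agent.H39.RegSpread2.isRegularIdeal_away_of_atPrime Γ(X, U.1)
    (U.2.primeIdealOf ⟨x, hxU⟩).asIdeal (X.presheaf.stalk x) (I.ideal U) hIp h1
  haveI := U.2.isLocalization_basicOpen f
  obtain ⟨rs', hrs', hrs'I⟩ := H Γ(X, X.basicOpen f)
  refine ⟨X.affineBasicOpen f, ?_, rs', hrs', ?_⟩
  · change x ∈ X.basicOpen f
    rw [Scheme.mem_basicOpen _ _ _ hxU]
    exact (IsLocalization.AtPrime.isUnit_to_map_iff (X.presheaf.stalk x)
      (U.2.primeIdealOf ⟨x, hxU⟩).asIdeal f).mpr hf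
  · rw [← I.map_ideal_basicOpen U f]
    exact hrs'I.symm

end Groth.Agent.H39.RegImmQuasi
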