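import Mathlib
import Groth.Agent.H39.RegSpread2
import Groth.Prelude.Def_Mor2

set_option autoImplicit false
set_option linter.style.haveILetI false
universe u

open AlgebraicGeometry CategoryTheory RingTheory.Sequence

namespace Groth.Agent.H39.RegImmStalk

variable {X Y : Scheme.{u}}

/-- The kernel of the stalk map of a closed immersion is the stalk of the kernel ideal sheaf. -/
theorem ker_stalkMap_eq (j : Y ⟶ X) [IsClosedImmersion j] (y : Y) (W : X.affineOpens)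
    (hxW : j y ∈ W.1) :
    RingHom.ker (j.stalkMap y).hom =
      (j.ker.ideal W).map (X.presheaf.germ W.1 (j y) hxW).hom := by
  have hU : IsAffineOpen (j ⁻¹ᵁ W.1) := W.2.preimage j
  have hyU : y ∈ j ⁻¹ᵁ W.1 := hxW
  letI := X.presheaf.algebra_section_stalk ⟨j y, hxW⟩
  haveI := W.2.isLocalization_stalk ⟨j y, hxW⟩
  letI := Y.presheaf.algebra_section_stalk ⟨y, hyU⟩
  haveI := hU.isLocalization_stalk ⟨y, hyU⟩
  rw [Scheme.Hom.ker_apply]
  refine Groth.Agent.H39.RegSpread2.ker_eq_map_ker_of_localization (j.app W.1).hom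
    (j.app_surjective W.1 W.2) (W.2.primeIdealOf ⟨j y, hxW⟩).asIdeal
    (hU.primeIdealOf ⟨y, hyU⟩).asIdeal ?_ (j.stalkMap y).hom ?_
  · have := IsAffineOpen.comap_primeIdealOf_appLE W.1 W.2 (j ⁻¹ᵁ W.1) hU le_rfl hyU
    have h2 := congr($(this).1)
    rw [Scheme.Hom.appLE_eq_app] at h2
    exact h2
  · have := Scheme.Hom.germ_stalkMap j W.1 y hxW
    exact congr($(this).hom)

/-- the kernel ideal lies in the prime of a point of the image -/
theorem ker_ideal_le_primeIdealOf (j : Y ⟶ X) [IsClosedImmersion j] (y : Y) (W : X.affineOpens)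
    (hxW : j y ∈ W.1) : j.ker.ideal W ≤ (W.2.primeIdealOf ⟨j y, hxW⟩).asIdeal := by
  have hU : IsAffineOpen (j ⁻¹ᵁ W.1) := W.2.preimage j
  have hyU : y ∈ j ⁻¹ᵁ W.1 := hxW
  have := IsAffineOpen.comap_primeIdealOf_appLE W.1 W.2 (j ⁻¹ᵁ W.1) hU le_rfl hyU
  have h2 := congr($(this).1)
  rw [Scheme.Hom.appLE_eq_app] at h2
  rw [Scheme.Hom.ker_apply, ← h2]
  intro a ha
  rw [PrimeSpectrum.comap_asIdeal, Ideal.mem_comap, (RingHom.mem_ker).mp ha]
  exact zero_mem _

/-- `j` is cut out by a regular sequence on some affine open neighbourhood of `x`. -/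
def RegNear (j : Y ⟶ X) (x : X) : Prop :=
  ∃ W : X.affineOpens, x ∈ W.1 ∧ CInt.IsRegularIdeal (j.ker.ideal W)

theorem regNear_of_isRegularIdeal_ker [IsLocallyNoetherian X] (j : Y ⟶ X) [IsClosedImmersion j]
    (y : Y) (h : CInt.IsRegularIdeal (RingHom.ker (j.stalkMap y).hom)) : RegNear j (j y) := by
  obtain ⟨_, ⟨W, hW : IsAffineOpen W, rfl⟩, hxW, -⟩ :=
    X.isBasis_affineOpens.exists_subset_of_mem_open (Set.mem_univ (j y)) isOpen_univ
  haveI : IsNoetherianRing Γ(X, W) := IsLocallyNoetherian.component_noetherian ⟨W, hW⟩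
  letI := X.presheaf.algebra_section_stalk ⟨j y, hxW⟩
  haveI := hW.isLocalization_stalk ⟨j y, hxW⟩
  rw [ker_stalkMap_eq j y ⟨W, hW⟩ hxW] at h
  obtain ⟨f, hf, H⟩ := Groth.Agent.H39.RegSpread2.isRegularIdeal_away_of_atPrime Γ(X, W)
    (hW.primeIdealOf ⟨j y, hxW⟩).asIdeal (X.presheaf.stalk (j y)) (j.ker.ideal ⟨W, hW⟩)
    (ker_ideal_le_primeIdealOf j y ⟨W, hW⟩ hxW) h
  haveI := hW.isLocalization_basicOpen f
  have h1 := H Γ(X, X.basicOpen f)
  refine ⟨X.affineBasicOpen (U := ⟨W, hW⟩) f, ?_, ?_⟩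
  · change j y ∈ X.basicOpen f
    rw [Scheme.mem_basicOpen _ _ _ hxW]
    exact (IsLocalization.AtPrime.isUnit_to_map_iff (X.presheaf.stalk (j y))
      (hW.primeIdealOf ⟨j y, hxW⟩).asIdeal f).mpr hf
  · rw [← j.ker.map_ideal_basicOpen ⟨W, hW⟩ f]
    exact h1

theorem isRegularIdeal_ker_of_regNear (j : Y ⟶ X) [IsClosedImmersion j]
    (y : Y) (h : RegNear j (j y)) : CInt.IsRegularIdeal (RingHom.ker (j.stalkMap y).hom) := by
  obtain ⟨W, hxW, hreg⟩ := h
  letI := X.presheaf.algebra_section_stalk ⟨j y, hxW⟩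
  haveI := W.2.isLocalization_stalk ⟨j y, hxW⟩
  rw [ker_stalkMap_eq j y W hxW]
  exact Groth.Agent.H39.RegSpread2.isRegularIdeal_map_atPrime
    (W.2.primeIdealOf ⟨j y, hxW⟩).asIdeal (X.presheaf.stalk (j y)) (j.ker.ideal W)
    (ker_ideal_le_primeIdealOf j y W hxW) hreg

theorem regNear_iff [IsLocallyNoetherian X] (j : Y ⟶ X) [IsClosedImmersion j] (y : Y) :
    RegNear j (j y) ↔ CInt.IsRegularIdeal (RingHom.ker (j.stalkMap y).hom) :=
  ⟨isRegularIdeal_ker_of_regNear j y, regNear_of_isRegularIdeal_ker j y⟩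

theorem regNear_of_restrict (j : Y ⟶ X) [IsClosedImmersion j] (y : Y) (V : X.Opens)
    (hyV : j y ∈ V) (h : Mor2.IsRegularClosedImmersion (j ∣_ V)) : RegNear j (j y) := by
  obtain ⟨-, h⟩ := h
  let z : ↥(j ⁻¹ᵁ V) := ⟨y, hyV⟩
  obtain ⟨U', hU', hzU', rs, hrs, hker⟩ := h z
  have hW : IsAffineOpen (V.ι ''ᵁ U') := hU'.image_of_isOpenImmersion V.ι
  refine ⟨⟨V.ι ''ᵁ U', hW⟩, ?_, ?_⟩
  · refine ⟨(j ∣_ V) z, hzU', ?_⟩
    exact morphismRestrict_base_coe j V z
  · rw [Scheme.ker_morphismRestrict_ideal j V ⟨U', hU'⟩] at hker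
    exact ⟨rs, hrs, hker.symm⟩

theorem isRegularIdeal_congr_affineOpens (I : X.IdealSheafData) (W W' : X.affineOpens)
    (h : W = W') (hreg : CInt.IsRegularIdeal (I.ideal W)) : CInt.IsRegularIdeal (I.ideal W') := by
  subst h
  exact hreg

theorem restrict_of_regNear (j : Y ⟶ X) [IsClosedImmersion j] (y : Y) (h : RegNear j (j y)) :
    ∃ V : X.Opens, j y ∈ V ∧ Mor2.IsRegularClosedImmersion (j ∣_ V) := by
  obtain ⟨W, hxW, hreg⟩ := h
  refine ⟨W.1, hxW, inferInstance, fun z => ?_⟩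
  haveI : IsAffine (W.1 : Scheme.{u}) := W.2
  have hW' : IsAffineOpen (W.1.ι ''ᵁ ⊤) := (isAffineOpen_top _).image_of_isOpenImmersion W.1.ι
  have heq : (⟨W.1.ι ''ᵁ ⊤, hW'⟩ : X.affineOpens) = W := Subtype.ext (by simp)
  have h2 := isRegularIdeal_congr_affineOpens j.ker W _ heq.symm hreg
  rw [← Scheme.ker_morphismRestrict_ideal j W.1 ⟨⊤, isAffineOpen_top _⟩] at h2
  obtain ⟨rs, hrs, hrsI⟩ := h2
  exact ⟨⊤, isAffineOpen_top _, trivial, rs, hrs, hrsI.symm⟩

theorem exists_restrict_iff_regNear (j : Y ⟶ X) [IsClosedImmersion j] (y : Y) :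
    (∃ V : X.Opens, j y ∈ V ∧ Mor2.IsRegularClosedImmersion (j ∣_ V)) ↔ RegNear j (j y) :=
  ⟨fun ⟨V, hyV, h⟩ => regNear_of_restrict j y V hyV h, restrict_of_regNear j y⟩

/-- **Key lemma**: on a locally Noetherian scheme, a closed immersion is a regular immersion near
the image of a point iff the kernel of the stalk map at that point is generated by a regular
sequence. -/
theorem exists_restrict_iff_isRegularIdeal_ker [IsLocallyNoetherian X] (j : Y ⟶ X)
    [IsClosedImmersion j] (y : Y) :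
    (∃ V : X.Opens, j y ∈ V ∧ Mor2.IsRegularClosedImmersion (j ∣_ V)) ↔
      CInt.IsRegularIdeal (RingHom.ker (j.stalkMap y).hom) :=
  (exists_restrict_iff_regNear j y).trans (regNear_iff j y)

end Groth.Agent.H39.RegImmStalk
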