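import Mathlib
import Groth.Agent.H94.RegDescentCore
import Groth.Agent.H94.RegDescentKoszul
import Groth.Agent.H94.RegDescentH1
import Groth.Agent.H94.RegDescentQuasi
import Groth.Agent.H47.RegSmooth.Quot
import Groth.Agent.H39.KoszulQuot

/-!
# Ring-level core of "split conormal sequence ⟹ the inner immersion is regular" (helper39)

`R → A = R/I → B = R/J`, `J` generated by a sequence of kind `P` (quasi-regular, `H_1`-regular,
Koszul-regular), `I/qI → J/qJ` injective at a prime `q ⊇ J`.  Then near `q` the ideal `J/I` of `A`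
is generated by a sequence of kind `P` (for Koszul: if `I` is Koszul-regular too).

* `mul_mem_of_smul_one_tmul_mem`: detects `s x ∈ q I` in `B ⊗_A (A ⊗_R I)`.
* `steinitz`, `exists_minimal_gens`: exchange / minimal generators over a local ring.
* `exists_adapted_generators`: generators `fs` of `I` and `fs ++ es` of `J` near `q`.
* `locGen_map_of_split`, `locGen_map_of_split_quasi/_h1/_koszul`.
-/

set_option autoImplicit false
set_option linter.style.haveILetI false
universe u

namespace Groth.Agent.H39.SplitConormalAlg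

open IsLocalRing Groth.Agent.H94.RegDescent

open TensorProduct

theorem map_mem_smul_top {B P Q : Type*} [CommRing B] [AddCommGroup P] [Module B P]
    [AddCommGroup Q] [Module B Q] (L : P →ₗ[B] Q) (𝔞 : Ideal B) {y : P}
    (hy : y ∈ 𝔞 • (⊤ : Submodule B P)) : L y ∈ 𝔞 • (⊤ : Submodule B Q) := by
  have h1 : (𝔞 • (⊤ : Submodule B P)).map L ≤ 𝔞 • ⊤ := by
    rw [Submodule.map_smul'']
    exact Submodule.smul_mono le_rfl le_top
  exact h1 ⟨y, hy, rfl⟩

section alg

variable {R A B : Type u} [CommRing R] [CommRing A] [CommRing B] [Algebra R A] [Algebra R B]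
  [Algebra A B] [IsScalarTower R A B]

/-- `R → A → B` surjections with kernels `I ⊆ J`, `q ⊇ J`.  If `s̄ • (1 ⊗ (1 ⊗ x))` lies in
`q̄ • (B ⊗_A (A ⊗_R I))` then `s x ∈ q I`. -/
theorem mul_mem_of_smul_one_tmul_mem (hRB : Function.Surjective (algebraMap R B)) (q : Ideal R)
    (hJq : RingHom.ker (algebraMap R B) ≤ q) (x : RingHom.ker (algebraMap R A)) (s : R)
    (h : algebraMap R B s • ((1 : B) ⊗ₜ[A] ((1 : A) ⊗ₜ[R] x)) ∈
      (q.map (algebraMap R B)) •
        (⊤ : Submodule B (B ⊗[A] (A ⊗[R] RingHom.ker (algebraMap R A))))) :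
    s * (x : R) ∈ q * RingHom.ker (algebraMap R A) := by
  let I := RingHom.ker (algebraMap R A)
  let c : B ⊗[A] (A ⊗[R] I) ≃ₗ[B] B ⊗[R] I := AlgebraTensorModule.cancelBaseChange R A B B I
  have hker : RingHom.ker (Algebra.ofId R B : R →ₐ[R] B) ≤ q := hJq
  let e : (R ⧸ RingHom.ker (Algebra.ofId R B : R →ₐ[R] B)) ≃ₐ[R] B :=
    Ideal.quotientKerAlgEquivOfSurjective (f := Algebra.ofId R B) hRB
  let g : B →ₗ[R] R ⧸ q := (Ideal.Quotient.factorₐ R hker).toLinearMap ∘ₗ e.symm.toLinearMap
  have hg : ∀ r : R, g (algebraMap R B r) = Ideal.Quotient.mk q r := by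
    intro r
    have h1 : e.symm (algebraMap R B r) = Ideal.Quotient.mk _ r := by
      rw [AlgEquiv.symm_apply_eq]
      rfl
    change Ideal.Quotient.factorₐ R hker (e.symm (algebraMap R B r)) = _
    rw [h1]
    rfl
  let t : (R ⧸ q) ⊗[R] I ≃ₗ[R] I ⧸ (q • (⊤ : Submodule R I)) := quotTensorEquivQuotSMul I q
  let T : B ⊗[A] (A ⊗[R] I) →ₗ[R] I ⧸ (q • (⊤ : Submodule R I)) :=
    t.toLinearMap ∘ₗ (g.rTensor I) ∘ₗ (c.restrictScalars R).toLinearMap
  have hT1 : T ((1 : B) ⊗ₜ[A] ((1 : A) ⊗ₜ[R] x)) = Submodule.Quotient.mk x := by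
    change t ((g.rTensor I) (c ((1 : B) ⊗ₜ[A] ((1 : A) ⊗ₜ[R] x)))) = _
    rw [AlgebraTensorModule.cancelBaseChange_tmul, one_smul, LinearMap.rTensor_tmul,
      ← map_one (algebraMap R B), hg, map_one]
    exact quotTensorEquivQuotSMul_mk_one_tmul q x
  have hTs : ∀ (r : R) (y : B ⊗[A] (A ⊗[R] I)), T (algebraMap R B r • y) = r • T y := by
    intro r y
    rw [algebraMap_smul, map_smul]
  have hkill : ∀ y ∈ (q.map (algebraMap R B)) • (⊤ : Submodule B (B ⊗[A] (A ⊗[R] I))),
      T y = 0 := by
    intro y hy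
    refine Submodule.smul_induction_on hy ?_ ?_
    · intro b hb z _
      obtain ⟨a', ha', rfl⟩ := (Ideal.mem_map_iff_of_surjective _ hRB).mp hb
      rw [hTs]
      obtain ⟨w, hw⟩ := Submodule.Quotient.mk_surjective _ (T z)
      rw [← hw, ← Submodule.Quotient.mk_smul, Submodule.Quotient.mk_eq_zero]
      exact Submodule.smul_mem_smul ha' Submodule.mem_top
    · intro y z hy hz
      rw [map_add, hy, hz, add_zero]
  have h0 := hkill _ h
  rw [hTs, hT1, ← Submodule.Quotient.mk_smul, Submodule.Quotient.mk_eq_zero,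
    Submodule.mem_smul_top_iff] at h0
  exact h0

end alg

open scoped Classical in
/-- Steinitz exchange over a local ring: elements `t` of `N` that are independent modulo `𝔪 N` can
replace as many members of a finite generating set `H`. -/
theorem steinitz {L : Type u} [CommRing L] [IsLocalRing L] (N : Ideal L) (H : Finset L)
    (hH : Ideal.span (H : Set L) = N) (t : Finset L) :
    (∀ y ∈ t, y ∈ N) →
    (∀ c : L → L, ∑ y ∈ t, c y * y ∈ maximalIdeal L * N → ∀ y ∈ t, c y ∈ maximalIdeal L) →
    ∃ E : Finset L, E ⊆ H ∧ t.card + E.card ≤ H.card ∧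
      Ideal.span ((t ∪ E : Finset L) : Set L) = N := by
  have hHN : ∀ e ∈ H, e ∈ N := fun e he => hH ▸ Ideal.subset_span (Finset.mem_coe.mpr he)
  induction t using Finset.induction_on with
  | empty =>
    intro _ _
    exact ⟨H, le_rfl, by simp, by rw [Finset.empty_union]; exact hH⟩
  | insert y₀ t' hy₀ ih =>
    intro htN hind
    have htN' : ∀ y ∈ t', y ∈ N := fun y hy => htN y (Finset.mem_insert_of_mem hy)
    have hind' : ∀ c : L → L, ∑ y ∈ t', c y * y ∈ maximalIdeal L * N →
        ∀ y ∈ t', c y ∈ maximalIdeal L := by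
      intro c hc y hy
      have h1 := hind (Function.update c y₀ 0) ?_ y (Finset.mem_insert_of_mem hy)
      · rwa [Function.update_of_ne (fun h : y = y₀ => hy₀ (h ▸ hy))] at h1
      · rw [Finset.sum_insert hy₀, Function.update_self, zero_mul, zero_add]
        have h2 : ∑ y ∈ t', Function.update c y₀ 0 y * y = ∑ y ∈ t', c y * y := by
          refine Finset.sum_congr rfl fun y hy => ?_
          rw [Function.update_of_ne (fun h : y = y₀ => hy₀ (h ▸ hy))]
        rw [h2]
        exact hc
    obtain ⟨E', hE'H, hcard, hspan⟩ := ih htN' hind'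
    have hy₀N : y₀ ∈ N := htN y₀ (Finset.mem_insert_self _ _)
    have hy₀span : y₀ ∈ Submodule.span L ((t' ∪ E' : Finset L) : Set L) := by
      change y₀ ∈ Ideal.span ((t' ∪ E' : Finset L) : Set L)
      rw [hspan]; exact hy₀N
    obtain ⟨a, -, ha⟩ := Submodule.mem_span_finset.mp hy₀span
    have hsplit : t' ∪ E' = t' ∪ (E' \ t') := by
      ext z; simp only [Finset.mem_union, Finset.mem_sdiff]; tauto
    rw [hsplit, Finset.sum_union Finset.disjoint_sdiff] at ha
    simp only [smul_eq_mul] at ha
    -- some coefficient on `E' \ t'` is a unit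
    have hex : ∃ e₀ ∈ E' \ t', a e₀ ∉ maximalIdeal L := by
      by_contra hcon
      push Not at hcon
      have h1 : ∑ e ∈ E' \ t', a e * e ∈ maximalIdeal L * N := by
        refine Ideal.sum_mem _ fun e he => ?_
        exact Ideal.mul_mem_mul (hcon e he) (hHN e (hE'H (Finset.mem_sdiff.mp he).1))
      let c : L → L := fun y => if y = y₀ then 1 else - a y
      have h2 : ∑ y ∈ insert y₀ t', c y * y = ∑ e ∈ E' \ t', a e * e := by
        rw [Finset.sum_insert hy₀]
        have h3 : ∑ y ∈ t', c y * y = - ∑ y ∈ t', a y * y := by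
          rw [← Finset.sum_neg_distrib]
          refine Finset.sum_congr rfl fun y hy => ?_
          simp only [c, if_neg (fun h : y = y₀ => hy₀ (h ▸ hy))]
          ring
        rw [h3]
        simp only [c, if_pos]
        rw [one_mul]
        nth_rewrite 1 [← ha]
        ring
      have h4 := hind c (by rw [h2]; exact h1) y₀ (Finset.mem_insert_self _ _)
      simp only [c, if_pos] at h4
      exact (Ideal.ne_top_iff_one _).mp (IsLocalRing.maximalIdeal.isMaximal L).ne_top h4
    obtain ⟨e₀, he₀, hae₀⟩ := hex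
    have hu : IsUnit (a e₀) := IsLocalRing.notMem_maximalIdeal.mp hae₀
    obtain ⟨w, hw⟩ := hu
    have he₀E : e₀ ∈ E' := (Finset.mem_sdiff.mp he₀).1
    refine ⟨E'.erase e₀, (Finset.erase_subset _ _).trans hE'H, ?_, ?_⟩
    · rw [Finset.card_insert_of_notMem hy₀, Finset.card_erase_of_mem he₀E]
      have : 0 < E'.card := Finset.card_pos.mpr ⟨e₀, he₀E⟩
      omega
    · set N' : Ideal L := Ideal.span ((insert y₀ t' ∪ E'.erase e₀ : Finset L) : Set L) with hN'
      apply le_antisymm
      · rw [hN', Ideal.span_le]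
        intro z hz
        rcases Finset.mem_union.mp (Finset.mem_coe.mp hz) with hz | hz
        · exact htN z hz
        · exact hHN z (hE'H (Finset.mem_of_mem_erase hz))
      · have hy₀N' : y₀ ∈ N' :=
          Ideal.subset_span (Finset.mem_coe.mpr (Finset.mem_union_left _ (Finset.mem_insert_self _ _)))
        have ht'N' : ∀ y ∈ t', y ∈ N' := fun y hy =>
          Ideal.subset_span (Finset.mem_coe.mpr (Finset.mem_union_left _ (Finset.mem_insert_of_mem hy)))
        have hEN' : ∀ e ∈ E', e ≠ e₀ → e ∈ N' := fun e he hne =>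
          Ideal.subset_span (Finset.mem_coe.mpr (Finset.mem_union_right _
            (Finset.mem_erase.mpr ⟨hne, he⟩)))
        have hkey : a e₀ * e₀ ∈ N' := by
          have h1 : a e₀ * e₀ = y₀ - ∑ y ∈ t', a y * y - ∑ e ∈ (E' \ t').erase e₀, a e * e := by
            rw [← ha, ← Finset.add_sum_erase (E' \ t') _ he₀]
            ring
          rw [h1]
          refine N'.sub_mem (N'.sub_mem hy₀N' (N'.sum_mem fun y hy => N'.mul_mem_left _ (ht'N' y hy)))
            (N'.sum_mem fun e he => N'.mul_mem_left _ ?_)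
          exact hEN' e (Finset.mem_sdiff.mp (Finset.mem_of_mem_erase he)).1 (Finset.ne_of_mem_erase he)
        have he₀N' : e₀ ∈ N' := by
          have h1 : e₀ = (↑w⁻¹ : L) * (a e₀ * e₀) := by
            rw [← mul_assoc, ← hw, Units.inv_mul, one_mul]
          rw [h1]
          exact N'.mul_mem_left _ hkey
        rw [← hspan, Ideal.span_le]
        intro z hz
        rcases Finset.mem_union.mp (Finset.mem_coe.mp hz) with hz | hz
        · exact ht'N' z hz
        · by_cases hze : z = e₀
          · rw [hze]; exact he₀N'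
          · exact hEN' z hz hze

theorem ofList_toList_eq_span {L : Type*} [CommRing L] (t : Finset L) :
    Ideal.ofList t.toList = Ideal.span (t : Set L) := by
  unfold Ideal.ofList
  congr 1
  ext x; simp

theorem ofList_eq_span_toFinset {L : Type*} [CommRing L] [DecidableEq L] (l : List L) :
    Ideal.ofList l = Ideal.span ((l.toFinset : Finset L) : Set L) := by
  unfold Ideal.ofList
  congr 1
  ext x; simp

/-- A minimal generating finset chosen inside a spanning set, over a local ring, is independent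
modulo the maximal ideal. -/
theorem exists_minimal_gens {L : Type u} [CommRing L] [IsLocalRing L] (N : Ideal L) (hN : N.FG)
    (S : Set L) (hS : Ideal.span S = N) :
    ∃ t : Finset L, (t : Set L) ⊆ S ∧ Ideal.span (t : Set L) = N ∧
      (∀ G : Finset L, Ideal.span (G : Set L) = N → t.card ≤ G.card) ∧
      (∀ c : L → L, ∑ y ∈ t, c y * y ∈ maximalIdeal L * N → ∀ y ∈ t, c y ∈ maximalIdeal L) := by
  classical
  have hex : ∃ n : ℕ, ∃ G : Finset L, G.card ≤ n ∧ Ideal.span (G : Set L) = N := by
    obtain ⟨G, hG⟩ := hN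
    exact ⟨G.card, G, le_rfl, hG⟩
  obtain ⟨G, hGn, hG⟩ := Nat.find_spec hex
  have hmin : ∀ G' : Finset L, Ideal.span (G' : Set L) = N → Nat.find hex ≤ G'.card :=
    fun G' hG' => Nat.find_min' hex ⟨G', le_rfl, hG'⟩
  obtain ⟨t, htS, htcard, htspan⟩ :=
    Groth.Agent.H94.RegDescentSel.sel (Nat.find hex) S G hGn (by
      change Ideal.span S = Ideal.span (G : Set L)
      rw [hS, hG])
  have htN : Ideal.span (t : Set L) = N := by
    change Submodule.span L (t : Set L) = N
    rw [htspan]
    exact hS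
  have htcard' : t.card = Nat.find hex := le_antisymm htcard (hmin t htN)
  refine ⟨t, htS, htN, fun G' hG' => htcard'.le.trans (hmin G' hG'), ?_⟩
  intro c hc y₀ hy₀
  by_contra hcy
  have hu : IsUnit (c y₀) := IsLocalRing.notMem_maximalIdeal.mp hcy
  obtain ⟨w, hw⟩ := hu
  set N' : Ideal L := Ideal.span ((t.erase y₀ : Finset L) : Set L) with hN'
  have hN'N : N' ≤ N := by
    rw [← htN]
    exact Ideal.span_mono (Finset.coe_subset.mpr (Finset.erase_subset _ _))
  have hle : N ≤ N' ⊔ maximalIdeal L • N := by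
    refine htN.symm.le.trans (Ideal.span_le.mpr ?_)
    intro y hy
    have hyt : y ∈ t := Finset.mem_coe.mp hy
    by_cases hyy : y = y₀
    · have h1 : c y₀ * y₀ = ∑ y ∈ t, c y * y - ∑ y ∈ t.erase y₀, c y * y := by
        rw [← Finset.add_sum_erase t _ hy₀]; ring
      have h2 : c y₀ * y₀ ∈ N' ⊔ maximalIdeal L • N := by
        rw [h1]
        refine Submodule.sub_mem _ (Submodule.mem_sup_right ?_) (Submodule.mem_sup_left ?_)
        · exact hc
        · exact N'.sum_mem fun z hz => N'.mul_mem_left _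
            (Ideal.subset_span (Finset.mem_coe.mpr hz))
      have h3 : y₀ = (↑w⁻¹ : L) * (c y₀ * y₀) := by
        rw [← mul_assoc, ← hw, Units.inv_mul, one_mul]
      rw [hyy, h3]
      exact Ideal.mul_mem_left _ _ h2
    · exact Submodule.mem_sup_left
        (Ideal.subset_span (Finset.mem_coe.mpr (Finset.mem_erase.mpr ⟨hyy, hyt⟩)))
  have hNN' : N ≤ N' :=
    Submodule.le_of_le_smul_of_le_jacobson_bot hN (IsLocalRing.maximalIdeal_le_jacobson _) hle
  have h4 := hmin (t.erase y₀) (le_antisymm hN'N hNN')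
  rw [Finset.card_erase_of_mem hy₀, ← htcard'] at h4
  have : 0 < t.card := Finset.card_pos.mpr ⟨y₀, hy₀⟩
  omega

variable {P : ∀ (R : Type u) [CommRing R], List R → Prop}

/-- **Adapted generators.**  `I ⊆ J ⊆ q` in `R`, `J` generated by a `P`-sequence `hs`, `I` finitely
generated, and `I/qI → J/qJ` injective at `q` (hypothesis `H3`).  Then near `q` there are
generators `fs` of `I` and `fs ++ es` of `J`, the latter again a `P`-sequence, and `fs` has the
minimal possible length at `q`. -/
theorem exists_adapted_generators (hP : DescOK P) {R : Type u} [CommRing R] (I J q : Ideal R)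
    [q.IsPrime] (hIJ : I ≤ J) (hJq : J ≤ q) (hIfg : I.FG) (hs : List R) (hPhs : P R hs)
    (hJ : J = Ideal.ofList hs)
    (H3 : ∀ x ∈ I, (∃ s, s ∉ q ∧ s * x ∈ q * J) → ∃ s', s' ∉ q ∧ s' * x ∈ q * I) :
    ∃ (g : R) (fs es : List R), g ∉ q ∧ (∀ x ∈ fs, x ∈ I) ∧ (∀ x ∈ es, x ∈ J) ∧
      (∀ x ∈ I, g * x ∈ Ideal.ofList fs) ∧ (∀ x ∈ J, g * x ∈ Ideal.ofList (fs ++ es)) ∧
      (fs ++ es).length = hs.length ∧
      P (Localization.Away g) ((fs ++ es).map (algebraMap R (Localization.Away g))) ∧
      (∀ l : List (Localization.AtPrime q),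
        I.map (algebraMap R (Localization.AtPrime q)) = Ideal.ofList l → fs.length ≤ l.length) := by
  classical
  let L := Localization.AtPrime q
  let alg : R →+* L := algebraMap R L
  have hm : q.map alg = maximalIdeal L := Localization.AtPrime.map_eq_maximalIdeal
  have hunit : ∀ s : R, s ∉ q → IsUnit (alg s) := fun s hs =>
    IsLocalization.map_units L (⟨s, hs⟩ : q.primeCompl)
  have hJfg : J.FG := by rw [hJ]; exact ofList_fg hs
  -- Step 1: injectivity at the local ring
  have H3L : ∀ y ∈ I.map alg, y ∈ maximalIdeal L * J.map alg → y ∈ maximalIdeal L * I.map alg := by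
    intro y hyI hyJ
    obtain ⟨⟨⟨x, hx⟩, ⟨u, hu⟩⟩, hxu⟩ := (IsLocalization.mem_map_algebraMap_iff q.primeCompl L).mp hyI
    have hxu' : y * alg u = alg x := hxu
    rw [← hm, ← Ideal.map_mul] at hyJ ⊢
    have h1 : alg x ∈ (q * J).map alg := by
      rw [← hxu']; exact Ideal.mul_mem_right _ _ hyJ
    obtain ⟨⟨⟨z, hz⟩, ⟨v, hv⟩⟩, hzv⟩ := (IsLocalization.mem_map_algebraMap_iff q.primeCompl L).mp h1
    have hzv' : alg x * alg v = alg z := hzv
    rw [← map_mul] at hzv'
    obtain ⟨⟨w, hw⟩, hwz⟩ := (IsLocalization.eq_iff_exists q.primeCompl L).mp hzv'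
    have hwz' : w * (x * v) = w * z := hwz
    obtain ⟨s', hs', hs'x⟩ := H3 x hx ⟨w * v, fun h =>
      ((inferInstance : q.IsPrime).mem_or_mem h).elim hw hv, by
        have : w * v * x = w * z := by rw [← hwz']; ring
        rw [this]
        exact Ideal.mul_mem_left _ _ hz⟩
    have h2 : alg s' * alg x ∈ (q * I).map alg := by
      rw [← map_mul]; exact Ideal.mem_map_of_mem _ hs'x
    have h3 : alg x ∈ (q * I).map alg := (Ideal.unit_mul_mem_iff_mem _ (hunit s' hs')).mp h2
    rw [← hxu'] at h3
    exact (Ideal.mul_unit_mem_iff_mem _ (hunit u hu)).mp h3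
  -- Step 2: minimal generators of `I L`
  have hILfg : (I.map alg).FG := hIfg.map alg
  obtain ⟨t, htS, htspan, htmin, htind⟩ := exists_minimal_gens (I.map alg) hILfg
    (alg '' (I : Set R)) rfl
  have htI : ∀ y ∈ t, y ∈ I.map alg := fun y hy =>
    htspan ▸ Ideal.subset_span (Finset.mem_coe.mpr hy)
  have hILJL : I.map alg ≤ J.map alg := Ideal.map_mono hIJ
  have htJ : ∀ y ∈ t, y ∈ J.map alg := fun y hy => hILJL (htI y hy)
  have htindJ : ∀ c : L → L, ∑ y ∈ t, c y * y ∈ maximalIdeal L * J.map alg →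
      ∀ y ∈ t, c y ∈ maximalIdeal L := by
    intro c hc
    apply htind c
    apply H3L _ _ hc
    exact Ideal.sum_mem _ fun y hy => Ideal.mul_mem_left _ _ (htI y hy)
  -- Step 3: Steinitz
  have hJL : J.map alg = Ideal.ofList (hs.map alg) := by rw [hJ, Ideal.map_ofList]
  obtain ⟨E, hEH, hcard, hEspan⟩ := steinitz (J.map alg) (hs.map alg).toFinset
    (by rw [← ofList_eq_span_toFinset, hJL]) t htJ htindJ
  -- Step 4: lifts
  have hliftI : ∀ y ∈ t, ∃ x ∈ I, alg x = y := fun y hy => htS (Finset.mem_coe.mpr hy)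
  have hliftH : ∀ e ∈ E, ∃ h ∈ hs, alg h = e := fun e he =>
    List.mem_map.mp (List.mem_toFinset.mp (hEH he))
  let pickI : L → R := fun y => if hy : y ∈ t then (hliftI y hy).choose else 0
  let pickH : L → R := fun e => if he : e ∈ E then (hliftH e he).choose else 0
  have hpickI : ∀ y ∈ t, pickI y ∈ I ∧ alg (pickI y) = y := by
    intro y hy
    simp only [pickI, dif_pos hy]
    exact (hliftI y hy).choose_spec
  have hpickH : ∀ e ∈ E, pickH e ∈ hs ∧ alg (pickH e) = e := by
    intro e he
    simp only [pickH, dif_pos he]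
    exact (hliftH e he).choose_spec
  let fs : List R := t.toList.map pickI
  let es : List R := E.toList.map pickH
  have hfsI : ∀ x ∈ fs, x ∈ I := by
    intro x hx
    obtain ⟨y, hy, rfl⟩ := List.mem_map.mp hx
    exact (hpickI y (Finset.mem_toList.mp hy)).1
  have hesJ : ∀ x ∈ es, x ∈ J := by
    intro x hx
    obtain ⟨e, he, rfl⟩ := List.mem_map.mp hx
    rw [hJ]
    exact Ideal.subset_span (hpickH e (Finset.mem_toList.mp he)).1
  have hfslen : fs.length = t.card := by rw [List.length_map, Finset.length_toList]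
  have heslen : es.length = E.card := by rw [List.length_map, Finset.length_toList]
  have hfsmap : fs.map alg = t.toList := by
    rw [List.map_map]
    conv_rhs => rw [← List.map_id t.toList]
    exact List.map_congr_left fun y hy => (hpickI y (Finset.mem_toList.mp hy)).2
  have hesmap : es.map alg = E.toList := by
    rw [List.map_map]
    conv_rhs => rw [← List.map_id E.toList]
    exact List.map_congr_left fun e he => (hpickH e (Finset.mem_toList.mp he)).2
  have hIgen : I.map alg = Ideal.ofList (fs.map alg) := by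
    rw [hfsmap, ofList_toList_eq_span, htspan]
  have hJgen : J.map alg = Ideal.ofList ((fs ++ es).map alg) := by
    rw [List.map_append, hfsmap, hesmap, Ideal.ofList_append, ofList_toList_eq_span,
      ofList_toList_eq_span, ← Ideal.span_union, ← Finset.coe_union, hEspan]
  -- Step 5: the count
  have hJLne : J.map alg ≠ ⊤ := by
    intro htop
    have h1 : J.map alg ≤ maximalIdeal L := by
      rw [← hm]; exact Ideal.map_mono hJq
    rw [htop] at h1
    exact (IsLocalRing.maximalIdeal.isMaximal L).ne_top (top_le_iff.mp h1)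
  have hPL : P L (hs.map alg) := hP.flat alg
    (flat_algebraMap_of_isLocalization q.primeCompl L) hs hPhs
  have hle1 : hs.length ≤ (fs ++ es).length := by
    have h1 := hP.len (hs.map alg) ((fs ++ es).map alg) hPL (by rw [← hJL, hJgen])
      (by rw [← hJL]; exact hJLne)
    rwa [List.length_map, List.length_map] at h1
  have hle2 : (fs ++ es).length ≤ hs.length := by
    rw [List.length_append, hfslen, heslen]
    refine hcard.trans ((List.toFinset_card_le _).trans ?_)
    rw [List.length_map]
  have hlen : (fs ++ es).length = hs.length := le_antisymm hle2 hle1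
  -- Step 6: spreading out
  obtain ⟨a₁, ha₁, hGI⟩ := exists_mul_mem I hIfg q (Ideal.ofList fs) (by
    rw [Ideal.map_ofList]; exact hIgen.le)
  obtain ⟨a₂, ha₂, hGJ⟩ := exists_mul_mem J hJfg q (Ideal.ofList (fs ++ es)) (by
    rw [Ideal.map_ofList]; exact hJgen.le)
  have hg : a₁ * a₂ ∉ q := fun h => ((inferInstance : q.IsPrime).mem_or_mem h).elim ha₁ ha₂
  have hGI' : ∀ x ∈ I, a₁ * a₂ * x ∈ Ideal.ofList fs := by
    intro x hx
    have : a₁ * a₂ * x = a₂ * (a₁ * x) := by ring
    rw [this]
    exact Ideal.mul_mem_left _ _ (hGI x hx)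
  have hGJ' : ∀ x ∈ J, a₁ * a₂ * x ∈ Ideal.ofList (fs ++ es) := by
    intro x hx
    have : a₁ * a₂ * x = a₁ * (a₂ * x) := by ring
    rw [this]
    exact Ideal.mul_mem_left _ _ (hGJ x hx)
  have hfesJ : ∀ x ∈ fs ++ es, x ∈ J := by
    intro x hx
    rcases List.mem_append.mp hx with hx | hx
    · exact hIJ (hfsI x hx)
    · exact hesJ x hx
  refine ⟨a₁ * a₂, fs, es, hg, hfsI, hesJ, hGI', hGJ', hlen, ?_, ?_⟩
  · let algg : R →+* Localization.Away (a₁ * a₂) := algebraMap R _
    have hu : IsUnit (algg (a₁ * a₂)) := IsLocalization.Away.algebraMap_isUnit (a₁ * a₂)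
    have h1 : J.map algg = Ideal.ofList ((fs ++ es).map algg) :=
      map_eq_ofList_of_isUnit J (fs ++ es) (a₁ * a₂) hfesJ hGJ' algg hu
    have h2 : J.map algg = Ideal.ofList (hs.map algg) := by rw [hJ, Ideal.map_ofList]
    refine hP.swap (hs.map algg) _ (hP.flat algg
      (flat_algebraMap_of_isLocalization (Submonoid.powers (a₁ * a₂)) _) hs hPhs)
      (by rw [← h2, h1]) ?_
    rw [List.length_map, List.length_map, hlen]
  · intro l hl
    have h1 := htmin l.toFinset (by rw [← ofList_eq_span_toFinset, ← hl])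
    rw [hfslen]
    exact h1.trans (List.toFinset_card_le l)

theorem ofList_eq_bot_of_forall_eq_zero {R : Type*} [CommRing R] (l : List R)
    (h : ∀ x ∈ l, x = 0) : Ideal.ofList l = ⊥ := by
  rw [eq_bot_iff]
  exact ofList_le l ⊥ fun x hx => by rw [h x hx]; exact Ideal.zero_mem _

/-- **Local generation of the image ideal** from adapted generators: with a "division" property
`hquot` for the kind `P` (possibly needing the auxiliary property `Q` of the divisor), the image of
`J` in `A = R/I` is generated near `q` by a `P`-sequence. -/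
theorem locGen_map_of_split (hP : DescOK P) {Q : ∀ (R : Type u) [CommRing R], List R → Prop}
    (hquot : ∀ {R R' : Type u} [CommRing R] [CommRing R'] (ts gs : List R) (ψ : R →+* R'),
      Function.Surjective ψ → RingHom.ker ψ = Ideal.ofList ts → Q R ts → P R (ts ++ gs) →
        P R' (gs.map ψ))
    {R A : Type u} [CommRing R] [CommRing A] (φ : R →+* A) (hφ : Function.Surjective φ)
    (J q : Ideal R) [q.IsPrime] (hIJ : RingHom.ker φ ≤ J) (hJq : J ≤ q)
    (hIfg : (RingHom.ker φ).FG) (hs : List R) (hPhs : P R hs) (hJ : J = Ideal.ofList hs)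
    (H3 : ∀ x ∈ RingHom.ker φ, (∃ s, s ∉ q ∧ s * x ∈ q * J) →
      ∃ s', s' ∉ q ∧ s' * x ∈ q * RingHom.ker φ)
    (hQ : ∀ (g : R) (fs : List R), g ∉ q → (∀ x ∈ fs, x ∈ RingHom.ker φ) →
      (∀ x ∈ RingHom.ker φ, g * x ∈ Ideal.ofList fs) →
      (∀ l : List (Localization.AtPrime q),
        (RingHom.ker φ).map (algebraMap R (Localization.AtPrime q)) = Ideal.ofList l →
          fs.length ≤ l.length) →
      Q (Localization.Away g) (fs.map (algebraMap R (Localization.Away g)))) :
    ∃ g : R, g ∉ q ∧ ∃ l : List (Localization.Away (φ g)), P _ l ∧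
      (J.map φ).map (algebraMap A (Localization.Away (φ g))) = Ideal.ofList l := by
  obtain ⟨g, fs, es, hg, hfsI, hesJ, hGI, hGJ, hlen, hPfe, hmin⟩ :=
    exists_adapted_generators hP (RingHom.ker φ) J q hIJ hJq hIfg hs hPhs hJ H3
  refine ⟨g, hg, ?_⟩
  let ψ : Localization.Away g →+* Localization.Away (φ g) := Localization.awayMap φ g
  have hψsurj : Function.Surjective ψ := by
    rw [Localization.awayMap_surjective_iff]
    intro a
    obtain ⟨b, rfl⟩ := hφ a
    exact ⟨b, 0, by rw [pow_zero, one_mul]⟩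
  have hψker : RingHom.ker ψ = (RingHom.ker φ).map (algebraMap R (Localization.Away g)) :=
    IsLocalization.ker_map (Localization.Away (φ g)) φ (Submonoid.map_powers φ g)
  have hcomp : ψ.comp (algebraMap R (Localization.Away g)) =
      (algebraMap A (Localization.Away (φ g))).comp φ := IsLocalization.map_comp _
  have hu : IsUnit (algebraMap R (Localization.Away g) g) :=
    IsLocalization.Away.algebraMap_isUnit g
  have hker' : RingHom.ker ψ = Ideal.ofList (fs.map (algebraMap R (Localization.Away g))) := by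
    rw [hψker]
    exact map_eq_ofList_of_isUnit _ fs g hfsI hGI _ hu
  have hQfs := hQ g fs hg hfsI hGI hmin
  rw [List.map_append] at hPfe
  have hPes := hquot _ _ ψ hψsurj hker' hQfs hPfe
  have hfesJ : ∀ x ∈ fs ++ es, x ∈ J := by
    intro x hx
    rcases List.mem_append.mp hx with hx | hx
    · exact hIJ (hfsI x hx)
    · exact hesJ x hx
  refine ⟨(es.map (algebraMap R (Localization.Away g))).map ψ, hPes, ?_⟩
  rw [Ideal.map_map, ← hcomp, ← Ideal.map_map,
    map_eq_ofList_of_isUnit J (fs ++ es) g hfesJ hGJ _ hu, Ideal.map_ofList, List.map_append,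
    List.map_append, Ideal.ofList_append]
  have h0 : Ideal.ofList ((fs.map (algebraMap R (Localization.Away g))).map ψ) = ⊥ := by
    apply ofList_eq_bot_of_forall_eq_zero
    intro y hy
    obtain ⟨z, hz, rfl⟩ := List.mem_map.mp hy
    have hzker : z ∈ RingHom.ker ψ := by
      rw [hker']; exact Ideal.subset_span hz
    exact (RingHom.mem_ker).mp hzker
  rw [h0, bot_sup_eq]

/-- `quasi` -/
theorem locGen_map_of_split_quasi {R A : Type u} [CommRing R] [CommRing A] (φ : R →+* A)
    (hφ : Function.Surjective φ) (J q : Ideal R) [q.IsPrime] (hIJ : RingHom.ker φ ≤ J)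
    (hJq : J ≤ q) (hIfg : (RingHom.ker φ).FG) (hs : List R)
    (hPhs : CAlgX.IsQuasiRegular hs.get) (hJ : J = Ideal.ofList hs)
    (H3 : ∀ x ∈ RingHom.ker φ, (∃ s, s ∉ q ∧ s * x ∈ q * J) →
      ∃ s', s' ∉ q ∧ s' * x ∈ q * RingHom.ker φ) :
    ∃ g : R, g ∉ q ∧ ∃ l : List (Localization.Away (φ g)), CAlgX.IsQuasiRegular l.get ∧
      (J.map φ).map (algebraMap A (Localization.Away (φ g))) = Ideal.ofList l :=
  locGen_map_of_split (P := fun _ _ l => CAlgX.IsQuasiRegular l.get) descOK_quasi
    (Q := fun _ _ _ => True)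
    (fun ts gs ψ hψ hker _ h =>
      Groth.Agent.H47.RegSmooth.quot_list descOK_quasi Groth.Agent.H47.RegSmooth.quotOK_quasi
        ts.length ts rfl ψ hψ hker gs h)
    φ hφ J q hIJ hJq hIfg hs hPhs hJ H3 (fun _ _ _ _ _ _ => trivial)

/-- `H_1` -/
theorem locGen_map_of_split_h1 {R A : Type u} [CommRing R] [CommRing A] (φ : R →+* A)
    (hφ : Function.Surjective φ) (J q : Ideal R) [q.IsPrime] (hIJ : RingHom.ker φ ≤ J)
    (hJq : J ≤ q) (hIfg : (RingHom.ker φ).FG) (hs : List R)
    (hPhs : CAlgX.IsH1Regular hs.get) (hJ : J = Ideal.ofList hs)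
    (H3 : ∀ x ∈ RingHom.ker φ, (∃ s, s ∉ q ∧ s * x ∈ q * J) →
      ∃ s', s' ∉ q ∧ s' * x ∈ q * RingHom.ker φ) :
    ∃ g : R, g ∉ q ∧ ∃ l : List (Localization.Away (φ g)), CAlgX.IsH1Regular l.get ∧
      (J.map φ).map (algebraMap A (Localization.Away (φ g))) = Ideal.ofList l :=
  locGen_map_of_split (P := fun _ _ l => CAlgX.IsH1Regular l.get) descOK_h1
    (Q := fun _ _ _ => True)
    (fun ts gs ψ hψ hker _ h =>
      Groth.Agent.H47.RegSmooth.quot_list descOK_h1 Groth.Agent.H47.RegSmooth.quotOK_h1
        ts.length ts rfl ψ hψ hker gs h)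
    φ hφ J q hIJ hJq hIfg hs hPhs hJ H3 (fun _ _ _ _ _ _ => trivial)

/-- Koszul: here the ideal `I = ker φ` must itself be generated by a Koszul-regular sequence. -/
theorem locGen_map_of_split_koszul {R A : Type u} [CommRing R] [CommRing A] (φ : R →+* A)
    (hφ : Function.Surjective φ) (J q : Ideal R) [q.IsPrime] (hIJ : RingHom.ker φ ≤ J)
    (hJq : J ≤ q) (fs' : List R) (hfs' : LCI.IsKoszulRegularSeq R fs')
    (hI : RingHom.ker φ = Ideal.ofList fs') (hs : List R)
    (hPhs : LCI.IsKoszulRegularSeq R hs) (hJ : J = Ideal.ofList hs)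
    (H3 : ∀ x ∈ RingHom.ker φ, (∃ s, s ∉ q ∧ s * x ∈ q * J) →
      ∃ s', s' ∉ q ∧ s' * x ∈ q * RingHom.ker φ) :
    ∃ g : R, g ∉ q ∧ ∃ l : List (Localization.Away (φ g)), LCI.IsKoszulRegularSeq _ l ∧
      (J.map φ).map (algebraMap A (Localization.Away (φ g))) = Ideal.ofList l := by
  refine locGen_map_of_split (P := fun R _ l => LCI.IsKoszulRegularSeq R l) descOK_koszul
    (Q := fun R _ l => LCI.IsKoszulRegularSeq R l) ?_ φ hφ J q hIJ hJq
    (by rw [hI]; exact ofList_fg fs') hs hPhs hJ H3 ?_
  · intro R R' _ _ ts gs ψ hψ hker hts h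
    refine Groth.Agent.H39.KoszulQuot.isKoszulRegularSeq_map_of_append ψ hψ ts hts hker gs ?_
    refine descOK_koszul.swap (ts ++ gs) (gs ++ ts) h ?_ ?_
    · rw [Ideal.ofList_append, Ideal.ofList_append, sup_comm]
    · rw [List.length_append, List.length_append, add_comm]
  · intro g fs hg hfsI hGI hmin
    let algg : R →+* Localization.Away g := algebraMap R _
    have hu : IsUnit (algg g) := IsLocalization.Away.algebraMap_isUnit g
    have h1 : (RingHom.ker φ).map algg = Ideal.ofList (fs.map algg) :=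
      map_eq_ofList_of_isUnit _ fs g hfsI hGI algg hu
    have h2 : (RingHom.ker φ).map algg = Ideal.ofList (fs'.map algg) := by
      rw [hI, Ideal.map_ofList]
    have hPfs' : LCI.IsKoszulRegularSeq (Localization.Away g) (fs'.map algg) :=
      descOK_koszul.flat algg (flat_algebraMap_of_isLocalization (Submonoid.powers g) _) fs' hfs'
    -- the ideal is proper in `R_g`
    obtain ⟨θ, -, hθ⟩ := exists_away_to_atPrime g q hg
    have hne : Ideal.ofList (fs'.map algg) ≠ ⊤ := by
      intro htop
      have h3 : ((RingHom.ker φ).map algg).map θ = ⊤ := by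
        rw [h2, htop, Ideal.map_top]
      rw [Ideal.map_map, hθ] at h3
      have h4 : (RingHom.ker φ).map (algebraMap R (Localization.AtPrime q)) ≤
          IsLocalRing.maximalIdeal (Localization.AtPrime q) := by
        rw [← Localization.AtPrime.map_eq_maximalIdeal]
        exact Ideal.map_mono (hIJ.trans hJq)
      rw [h3] at h4
      exact (IsLocalRing.maximalIdeal.isMaximal _).ne_top (top_le_iff.mp h4)
    have hle1 : fs'.length ≤ fs.length := by
      have := descOK_koszul.len (fs'.map algg) (fs.map algg) hPfs' (by rw [← h2, h1]) hne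
      rwa [List.length_map, List.length_map] at this
    have hle2 : fs.length ≤ fs'.length := by
      have := hmin (fs'.map (algebraMap R (Localization.AtPrime q))) (by
        rw [hI, Ideal.map_ofList])
      rwa [List.length_map] at this
    refine descOK_koszul.swap (fs'.map algg) (fs.map algg) hPfs' (by rw [← h2, h1]) ?_
    rw [List.length_map, List.length_map]
    exact le_antisymm hle1 hle2

end Groth.Agent.H39.SplitConormalAlg
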