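import Mathlib
import Groth.Agent.H44.ConormalH1
import Groth.Agent.H47.RegSmooth.Scheme
import Groth.Agent.H39.SplitConormalAlg

/-!
# Split conormal sequence ⟹ the inner immersion is regular (helper39; Stacks 0692 / 063N style)

For quasi-compact immersions `Y' →j Y →f X` with canonical map
`φ₁ : j^*C_{Y/X} ⟶ C_{Y'/X}` admitting linear retractions on the sections over small charts
near `y'`: if `j ≫ f` is quasi-regular (`H_1`-regular, Koszul-regular + `f` Koszul-regular) at `y'`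
then so is `j`.

* `exists_retraction_sections`, `exists_section_sections`, `exists_retraction_of_section`:
  from local retractions / sections of sheaf maps to linear maps on sections.
* `mul_mem_of_retraction`: the chart-level consequence `I ∩ qJ ⊆ qI` of a retraction.
* `isRegularImmersionAt_of_split` and the three kinds
  `isRegularImmersionAt_quasi_of_split`, `isRegularImmersionAt_h1_of_split`,
  `isRegularImmersionAt_koszul_of_split`.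
-/

set_option autoImplicit false
set_option linter.style.haveILetI false
universe u

open CategoryTheory Limits Opposite AlgebraicGeometry TopologicalSpace TensorProduct Scheme.Modules

namespace Groth.Agent.H39.SplitConormalGeom

open Groth.Agent.H44 Groth.Agent.H39.SplitConormalAlg Groth.Agent.H94.RegDescent
open Groth.Agent.H39

section Retraction
variable {Z : Scheme.{u}} {M N K : Z.Modules}

/-- Sections of a morphism between restricted modules, as a linear map over the big scheme. -/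
theorem exists_linearMap_of_restrict (U : Z.Opens)
    (r : (restrictFunctor U.ι).obj N ⟶ (restrictFunctor U.ι).obj M) (O' : (U : Scheme.{u}).Opens) :
    ∃ ρ : Γ(N, U.ι ''ᵁ O') →ₗ[Γ(Z, U.ι ''ᵁ O')] Γ(M, U.ι ''ᵁ O'),
      ∀ x : Γ(N, U.ι ''ᵁ O'), ρ x = (r.app O' x : Γ(M, U.ι ''ᵁ O')) := by
  let ρ₀ : Γ(N, U.ι ''ᵁ O') → Γ(M, U.ι ''ᵁ O') := fun x => r.app O' x
  have hadd : ∀ x y, ρ₀ (x + y) = ρ₀ x + ρ₀ y := fun x y => map_add (r.app O').hom x y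
  have hsmul : ∀ (a : Γ(Z, U.ι ''ᵁ O')) (x : Γ(N, U.ι ''ᵁ O')), ρ₀ (a • x) = a • ρ₀ x := by
    intro a x
    have h1 := Scheme.Modules.Hom.app_smul r (U := O') ((U.ι.appIso O').hom a) x
    have h2 : (U.ι.appIso O').inv ((U.ι.appIso O').hom a) = a := by
      rw [← CommRingCat.comp_apply, Iso.hom_inv_id]; rfl
    have h3 : ∀ (K : Z.Modules) (b : Γ((U : Scheme.{u}), O')) (x : Γ(K, U.ι ''ᵁ O')),
        (b • (show Γ((restrictFunctor U.ι).obj K, O') from x) : Γ((restrictFunctor U.ι).obj K, O')) =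
          (((U.ι.appIso O').inv b) • x : Γ(K, U.ι ''ᵁ O')) := fun K b x => rfl
    rw [h3 N, h3 M, h2] at h1
    exact h1
  exact ⟨{ toFun := ρ₀, map_add' := hadd, map_smul' := hsmul }, fun y => rfl⟩

theorem exists_image_eq (U W : Z.Opens) (hW : W ≤ U) :
    ∃ O' : (U : Scheme.{u}).Opens, W = U.ι ''ᵁ O' := by
  refine ⟨U.ι ⁻¹ᵁ W, ?_⟩
  rw [Scheme.Hom.image_preimage_eq_opensRange_inf, Scheme.Opens.opensRange_ι]
  exact (inf_eq_right.mpr hW).symm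

/-- A local retraction of `ψ : M ⟶ N` over `U` gives linear retractions on sections over every open
`W ≤ U`. -/
theorem exists_retraction_sections (ψ : M ⟶ N) (U : Z.Opens)
    (r : (restrictFunctor U.ι).obj N ⟶ (restrictFunctor U.ι).obj M)
    (hr : (restrictFunctor U.ι).map ψ ≫ r = 𝟙 _) (W : Z.Opens) (hW : W ≤ U) :
    ∃ ρ : Γ(N, W) →ₗ[Γ(Z, W)] Γ(M, W), ∀ y, ρ (ψ.app W y) = y := by
  obtain ⟨O', rfl⟩ := exists_image_eq U W hW
  obtain ⟨ρ, hρ⟩ := exists_linearMap_of_restrict U r O'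
  refine ⟨ρ, fun y => ?_⟩
  rw [hρ]
  have h1 := congr(($hr).app O')
  have h2 := congr(($h1) y)
  rw [Scheme.Modules.Hom.comp_app, ConcreteCategory.comp_apply] at h2
  exact h2

/-- A local section of `χ : N ⟶ K` over `U` gives linear sections on sections over every open
`W ≤ U`. -/
theorem exists_section_sections (χ : N ⟶ K) (U : Z.Opens)
    (σ : (restrictFunctor U.ι).obj K ⟶ (restrictFunctor U.ι).obj N)
    (hσ : σ ≫ (restrictFunctor U.ι).map χ = 𝟙 _) (W : Z.Opens) (hW : W ≤ U) :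
    ∃ τ : Γ(K, W) →ₗ[Γ(Z, W)] Γ(N, W), ∀ k, χ.app W (τ k) = k := by
  obtain ⟨O', rfl⟩ := exists_image_eq U W hW
  obtain ⟨τ, hτ⟩ := exists_linearMap_of_restrict U σ O'
  refine ⟨τ, fun k => ?_⟩
  rw [hτ]
  have h1 := congr(($hσ).app O')
  have h2 := congr(($h1) k)
  rw [Scheme.Modules.Hom.comp_app, ConcreteCategory.comp_apply] at h2
  exact h2

/-- On sections over `W`: a linear section of `χ`, exactness at the middle and injectivity of `ψ`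
give a linear retraction of `ψ`. -/
theorem exists_retraction_of_section (ψ : M ⟶ N) (χ : N ⟶ K) (W : Z.Opens)
    (τ : Γ(K, W) →ₗ[Γ(Z, W)] Γ(N, W)) (hτ : ∀ k, χ.app W (τ k) = k)
    (hinj : Function.Injective (ψ.app W)) (hzero : ∀ y, χ.app W (ψ.app W y) = 0)
    (hex : ∀ x, χ.app W x = 0 → ∃ y, ψ.app W y = x) :
    ∃ ρ : Γ(N, W) →ₗ[Γ(Z, W)] Γ(M, W), ∀ y, ρ (ψ.app W y) = y := by
  have hkey : ∀ n : Γ(N, W), ∃ y, ψ.app W y = n - τ (χ.app W n) := by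
    intro n
    apply hex
    rw [map_sub, hτ, sub_self]
  choose ρ₀ hρ₀ using hkey
  refine ⟨{ toFun := ρ₀, map_add' := ?_, map_smul' := ?_ }, ?_⟩
  · intro n₁ n₂
    apply hinj
    rw [map_add, hρ₀, hρ₀, hρ₀, map_add, map_add]
    abel
  · intro a n
    apply hinj
    rw [RingHom.id_apply, Scheme.Modules.Hom.app_smul, hρ₀, hρ₀, Scheme.Modules.Hom.app_smul,
      LinearMap.map_smul, smul_sub]
  · intro y
    apply hinj
    change ψ.app W (ρ₀ (ψ.app W y)) = _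
    rw [hρ₀, hzero, map_zero, sub_zero]

end Retraction

section alg
variable {R B : Type u} [CommRing R] [CommRing B] [Algebra R B]

/-- In `B ⊗_R J`, the class of an element of `q J` lies in `q̄ (B ⊗_R J)`. -/
theorem one_tmul_mem_smul_top (q : Ideal R) (z : R) (hz : z ∈ q * RingHom.ker (algebraMap R B))
    (hzJ : z ∈ RingHom.ker (algebraMap R B)) :
    ((1 : B) ⊗ₜ[R] (⟨z, hzJ⟩ : RingHom.ker (algebraMap R B))) ∈
      (q.map (algebraMap R B)) • (⊤ : Submodule B (B ⊗[R] RingHom.ker (algebraMap R B))) := by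
  have key : ∃ h : z ∈ RingHom.ker (algebraMap R B),
      ((1 : B) ⊗ₜ[R] (⟨z, h⟩ : RingHom.ker (algebraMap R B))) ∈
        (q.map (algebraMap R B)) • (⊤ : Submodule B (B ⊗[R] RingHom.ker (algebraMap R B))) := by
    refine Submodule.mul_induction_on hz ?_ ?_
    · intro a ha y hy
      have hay : a * y ∈ RingHom.ker (algebraMap R B) := Ideal.mul_mem_left _ _ hy
      refine ⟨hay, ?_⟩
      have h1 : ((1 : B) ⊗ₜ[R] (⟨a * y, hay⟩ : RingHom.ker (algebraMap R B))) =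
          algebraMap R B a • ((1 : B) ⊗ₜ[R] (⟨y, hy⟩ : RingHom.ker (algebraMap R B))) := by
        rw [algebraMap_smul, ← TensorProduct.tmul_smul]
        rfl
      rw [h1]
      exact Submodule.smul_mem_smul (Ideal.mem_map_of_mem _ ha) Submodule.mem_top
    · rintro x y ⟨hx, hx'⟩ ⟨hy, hy'⟩
      refine ⟨Ideal.add_mem _ hx hy, ?_⟩
      have h1 : ((1 : B) ⊗ₜ[R] (⟨x + y, Ideal.add_mem _ hx hy⟩ : RingHom.ker (algebraMap R B))) =
          (1 : B) ⊗ₜ[R] (⟨x, hx⟩ : RingHom.ker (algebraMap R B)) +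
            (1 : B) ⊗ₜ[R] (⟨y, hy⟩ : RingHom.ker (algebraMap R B)) := by
        rw [← TensorProduct.tmul_add]
        rfl
      rw [h1]
      exact Submodule.add_mem _ hx' hy'
  obtain ⟨_, h⟩ := key
  exact h

end alg

section Chart
variable {Y' Y X : Scheme.{u}} {j : Y' ⟶ Y} {f : Y ⟶ X} [IsImmersion j] [IsImmersion f]
  [QuasiCompact j] [QuasiCompact f]
  (φ₁ : (Scheme.Modules.pullback j).obj (Omega.conormal f) ⟶ Omega.conormal (j ≫ f))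
  (hφ₁ : OmegaSh.IsConormalMap (j ≫ f) f (𝟙 X) j φ₁)

set_option maxRecDepth 10000 in
include hφ₁ in
/-- The key consequence of a retraction of `φ₁` on a chart: `I ∩ qJ ⊆ qI`. -/
theorem mul_mem_of_retraction (dc : DoubleChart j f) (geU : f ⁻¹ᵁ dc.V ≤ dc.U)
    (ρ : Γ(Omega.conormal (j ≫ f), j ⁻¹ᵁ dc.U) →ₗ[Γ(Y', j ⁻¹ᵁ dc.U)]
      Γ((Scheme.Modules.pullback j).obj (Omega.conormal f), j ⁻¹ᵁ dc.U))
    (hρ : ∀ y, ρ (φ₁.app (j ⁻¹ᵁ dc.U) y) = y)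
    (q : Ideal Γ(X, dc.V))
    (hJq : RingHom.ker ((j ≫ f).appLE dc.V (j ⁻¹ᵁ dc.U) dc.leW).hom ≤ q)
    (x : Γ(X, dc.V)) (hx : x ∈ RingHom.ker (f.appLE dc.V dc.U dc.e).hom) (s : Γ(X, dc.V))
    (hsx : s * x ∈ q * RingHom.ker ((j ≫ f).appLE dc.V (j ⁻¹ᵁ dc.U) dc.leW).hom) :
    s * x ∈ q * RingHom.ker (f.appLE dc.V dc.U dc.e).hom := by
  letI algRA : Algebra Γ(X, dc.V) Γ(Y, dc.U) := (f.appLE dc.V dc.U dc.e).hom.toAlgebra
  letI algRB : Algebra Γ(X, dc.V) Γ(Y', j ⁻¹ᵁ dc.U) :=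
    ((j ≫ f).appLE dc.V (j ⁻¹ᵁ dc.U) dc.leW).hom.toAlgebra
  letI algAB : Algebra Γ(Y, dc.U) Γ(Y', j ⁻¹ᵁ dc.U) :=
    (j.appLE dc.U (j ⁻¹ᵁ dc.U) le_rfl).hom.toAlgebra
  haveI : IsScalarTower Γ(X, dc.V) Γ(Y, dc.U) Γ(Y', j ⁻¹ᵁ dc.U) :=
    IsScalarTower.of_algebraMap_eq' (by
      change ((j ≫ f).appLE dc.V (j ⁻¹ᵁ dc.U) dc.leW).hom =
        (j.appLE dc.U (j ⁻¹ᵁ dc.U) le_rfl).hom.comp (f.appLE dc.V dc.U dc.e).hom
      rw [← CommRingCat.hom_comp, Scheme.Hom.appLE_comp_appLE])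
  have hRB : Function.Surjective (algebraMap Γ(X, dc.V) Γ(Y', j ⁻¹ᵁ dc.U)) := dc.surjRB
  haveI : (Omega.conormal f).IsQuasicoherent := isQuasicoherent_conormal f
  have hxI : x ∈ RingHom.ker (algebraMap Γ(X, dc.V) Γ(Y, dc.U)) := hx
  have hxJ : x ∈ RingHom.ker (algebraMap Γ(X, dc.V) Γ(Y', j ⁻¹ᵁ dc.U)) :=
    ker_le_ker Γ(X, dc.V) Γ(Y, dc.U) Γ(Y', j ⁻¹ᵁ dc.U) hxI
  -- the section of the ideal sheaf
  let s' : Γ(ClSub.idealMod f.ker, dc.V) := (idealKerEquiv f dc.hV dc.e geU).symm ⟨x, hxI⟩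
  have hs' : idealKerEquiv f dc.hV dc.e geU s' = ⟨x, hxI⟩ := LinearEquiv.apply_symm_apply _ _
  let m₀ : Γ(Omega.conormal f, dc.U) := pullSectLE f (ClSub.idealMod f.ker) dc.V dc.U dc.e s'
  let m : Γ((Scheme.Modules.pullback j).obj (Omega.conormal f), j ⁻¹ᵁ dc.U) :=
    pullSectLE j (Omega.conormal f) dc.U (j ⁻¹ᵁ dc.U) le_rfl m₀
  let sb : Γ(Y', j ⁻¹ᵁ dc.U) := algebraMap Γ(X, dc.V) Γ(Y', j ⁻¹ᵁ dc.U) s
  let CE := conormalEquiv (j ≫ f) dc.hV dc.hW dc.leW dc.ge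
  have h1 : CE (φ₁.app (j ⁻¹ᵁ dc.U) m) =
      (1 : Γ(Y', j ⁻¹ᵁ dc.U)) ⊗ₜ[Γ(X, dc.V)] ⟨x, hxJ⟩ := by
    have hval : ((idealKerEquiv f dc.hV dc.e geU s' : _) : Γ(X, dc.V)) = x :=
      congrArg Subtype.val hs'
    have := transMap_chart_generator φ₁ hφ₁ dc geU s'
    exact this.trans (congrArg (fun z : RingHom.ker (algebraMap Γ(X, dc.V) Γ(Y', j ⁻¹ᵁ dc.U)) =>
      (1 : Γ(Y', j ⁻¹ᵁ dc.U)) ⊗ₜ[Γ(X, dc.V)] z) (Subtype.ext hval))
  -- step 3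
  have hsxJ : s * x ∈ RingHom.ker (algebraMap Γ(X, dc.V) Γ(Y', j ⁻¹ᵁ dc.U)) :=
    Ideal.mul_mem_left _ _ hxJ
  have h2 : CE (φ₁.app (j ⁻¹ᵁ dc.U) (sb • m)) ∈
      (q.map (algebraMap Γ(X, dc.V) Γ(Y', j ⁻¹ᵁ dc.U))) • (⊤ : Submodule Γ(Y', j ⁻¹ᵁ dc.U) _) := by
    rw [Scheme.Modules.Hom.app_smul, LinearEquiv.map_smul, h1]
    have h3 : sb • ((1 : Γ(Y', j ⁻¹ᵁ dc.U)) ⊗ₜ[Γ(X, dc.V)]
        (⟨x, hxJ⟩ : RingHom.ker (algebraMap Γ(X, dc.V) Γ(Y', j ⁻¹ᵁ dc.U)))) =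
        (1 : Γ(Y', j ⁻¹ᵁ dc.U)) ⊗ₜ[Γ(X, dc.V)] ⟨s * x, hsxJ⟩ := by
      change algebraMap Γ(X, dc.V) Γ(Y', j ⁻¹ᵁ dc.U) s • _ = _
      rw [algebraMap_smul, ← TensorProduct.tmul_smul]
      rfl
    rw [h3]
    exact one_tmul_mem_smul_top q (s * x) hsx hsxJ
  have h4 : sb • m ∈ (q.map (algebraMap Γ(X, dc.V) Γ(Y', j ⁻¹ᵁ dc.U))) •
      (⊤ : Submodule Γ(Y', j ⁻¹ᵁ dc.U) _) := by
    have h5 := map_mem_smul_top (ρ ∘ₗ CE.symm.toLinearMap) _ h2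
    rw [LinearMap.comp_apply, LinearEquiv.coe_coe, LinearEquiv.symm_apply_apply, hρ] at h5
    exact h5
  -- step 5
  let E₁ := pullbackSectionsEquiv j (Omega.conormal f) dc.hW dc.hU le_rfl
  let E₂ := conormalEquiv f dc.hV dc.hU dc.e geU
  let E := E₁ ≪≫ₗ LinearEquiv.baseChange Γ(Y, dc.U) Γ(Y', j ⁻¹ᵁ dc.U) _ _ E₂
  have hEm : E m = (1 : Γ(Y', j ⁻¹ᵁ dc.U)) ⊗ₜ[Γ(Y, dc.U)]
      ((1 : Γ(Y, dc.U)) ⊗ₜ[Γ(X, dc.V)] (⟨x, hxI⟩ : RingHom.ker (algebraMap Γ(X, dc.V) Γ(Y, dc.U)))) := by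
    change LinearEquiv.baseChange Γ(Y, dc.U) Γ(Y', j ⁻¹ᵁ dc.U) _ _ E₂ (E₁ m) = _
    rw [show E₁ m = (1 : Γ(Y', j ⁻¹ᵁ dc.U)) ⊗ₜ[Γ(Y, dc.U)] m₀ from
      pullbackSectionsEquiv_pullSectLE j (Omega.conormal f) dc.hW dc.hU le_rfl m₀,
      LinearEquiv.baseChange_tmul]
    congr 1
    exact (conormalEquiv_pullSectLE f dc.hV dc.hU dc.e geU s').trans (by rw [hs'])
  have h6 := map_mem_smul_top E.toLinearMap _ h4
  rw [LinearEquiv.coe_coe, LinearEquiv.map_smul, hEm] at h6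
  exact mul_mem_of_smul_one_tmul_mem hRB q hJq ⟨x, hxI⟩ s h6

end Chart

section AtPoint
variable {X Z : Scheme.{u}}

/-- Point version of `H47.RegSmooth.isRegularImmersionAt_of_locGen`. -/
theorem isRegularImmersionAt_of_locGenAt (k : RegImm.Kind)
    (hP : DescOK.{u} (fun R _ l => k.Seq R l)) (i : Z ⟶ X) (z : Z) (U : X.Opens)
    (hU : IsAffineOpen U) (hzU : i z ∈ U) [IsClosedImmersion (i ∣_ U)]
    (g : Γ(X, U)) (hg : g ∉ (hU.primeIdealOf ⟨i z, hzU⟩).asIdeal)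
    (l : List (Localization.Away g)) (hl : k.Seq _ l)
    (hIl : (RingHom.ker (i.app U).hom).map (algebraMap Γ(X, U) (Localization.Away g)) =
      Ideal.ofList l) :
    RegImm.IsRegularImmersionAt k i z := by
  haveI := hU.isLocalization_basicOpen g
  let e : Localization.Away g ≃ₐ[Γ(X, U)] Γ(X, X.basicOpen g) :=
    IsLocalization.algEquiv (Submonoid.powers g) _ _
  have hle' : X.basicOpen g ≤ U := X.basicOpen_le g
  refine ⟨⟨X.basicOpen g, hU.basicOpen g⟩,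
    (SmoothSectionGeom.mem_basicOpen_iff_notMem_primeIdealOf hU hzU g).mpr hg,
    ImmCompChart.isClosedImmersion_restrict_of_le i hle', l.map e.toRingEquiv.toRingHom,
    hP.flat _ (RingHom.Flat.of_bijective e.bijective) l hl, ?_⟩
  rw [ImmCompChart.ker_app_of_le i hle' hU (hU.basicOpen g)]
  have h1 : (RingHom.ker (i.app U).hom).map (X.presheaf.map (homOfLE hle').op).hom =
      ((RingHom.ker (i.app U).hom).map (algebraMap Γ(X, U) (Localization.Away g))).map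
        e.toRingEquiv.toRingHom := by
    rw [Ideal.map_map]
    congr 1
    ext x
    exact (e.commutes x).symm
  rw [h1, hIl]
  exact Ideal.map_ofList _ l

end AtPoint

section Main
variable {Y' Y X : Scheme.{u}} {j : Y' ⟶ Y} {f : Y ⟶ X} [IsImmersion j] [IsImmersion f]
  [QuasiCompact j] [QuasiCompact f]
  (φ₁ : (Scheme.Modules.pullback j).obj (Omega.conormal f) ⟶ Omega.conormal (j ≫ f))
  (hφ₁ : OmegaSh.IsConormalMap (j ≫ f) f (𝟙 X) j φ₁)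

omit [QuasiCompact j] [QuasiCompact f] in
/-- Transitivity charts inside prescribed opens of `Y'` and `X`. -/
theorem exists_transChart_le' (y' : Y') (W : Y'.Opens) (hy' : y' ∈ W) (O : X.Opens)
    (hO : (j ≫ f).base y' ∈ O) :
    ∃ t : TransChart j f, (j ≫ f).base y' ∈ t.V ∧ j ⁻¹ᵁ (f ⁻¹ᵁ t.V) ≤ W ∧ t.V ≤ O := by
  obtain ⟨Oj, hOj, hOjc⟩ := f.isEmbedding.isInducing.isOpen_iff.1 j.coborderRange.2
  have h1 : (j ≫ f).base y' ∈ ((⟨Oj, hOj⟩ : X.Opens) ⊓ O) ⊓ f.coborderRange := by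
    refine ⟨⟨?_, hO⟩, subset_coborder ⟨j.base y', rfl⟩⟩
    change j.base y' ∈ f.base ⁻¹' Oj
    rw [hOjc]
    exact subset_coborder ⟨y', rfl⟩
  obtain ⟨V, hV, hyV, hVle, hVc, hVW⟩ :=
    exists_affine_le_coborderRange (j ≫ f) y' _ h1 W hy'
  refine ⟨⟨V, hV, hVle.trans inf_le_right, ?_, hVc⟩, hyV, hVW, fun x hx => (hVle hx).1.2⟩
  intro y hy
  have h2 : f.base y ∈ Oj := (hVle hy).1.1
  have h3 : y ∈ f.base ⁻¹' Oj := h2
  rw [hOjc] at h3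
  exact h3

include hφ₁ in
/-- **Generic assembly.** A local retraction of `φ₁` near `y'` and a ring-level statement `hring` of
"locally generated by a sequence of kind `k`" on small charts give regularity of `j` at `y'`. -/
theorem isRegularImmersionAt_of_split (k : RegImm.Kind)
    (hP : DescOK.{u} (fun R _ l => k.Seq R l)) (y' : Y') (U₀ : Y'.Opens) (hy' : y' ∈ U₀)
    (hret : ∀ t : TransChart j f, j ⁻¹ᵁ (f ⁻¹ᵁ t.V) ≤ U₀ →
      ∃ ρ : Γ(Omega.conormal (j ≫ f), j ⁻¹ᵁ (f ⁻¹ᵁ t.V)) →ₗ[Γ(Y', j ⁻¹ᵁ (f ⁻¹ᵁ t.V))]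
          Γ((Scheme.Modules.pullback j).obj (Omega.conormal f), j ⁻¹ᵁ (f ⁻¹ᵁ t.V)),
        ∀ y, ρ (φ₁.app (j ⁻¹ᵁ (f ⁻¹ᵁ t.V)) y) = y)
    (O : X.Opens) (hO : (j ≫ f).base y' ∈ O)
    (hring : ∀ (t : TransChart j f) (hyV : (j ≫ f).base y' ∈ t.V), t.V ≤ O →
      (∀ x ∈ RingHom.ker (f.app t.V).hom, ∀ s : Γ(X, t.V),
        s * x ∈ (t.hV.primeIdealOf ⟨_, hyV⟩).asIdeal * RingHom.ker ((j ≫ f).app t.V).hom →
        s * x ∈ (t.hV.primeIdealOf ⟨_, hyV⟩).asIdeal * RingHom.ker (f.app t.V).hom) →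
      ∃ g : Γ(X, t.V), g ∉ (t.hV.primeIdealOf ⟨_, hyV⟩).asIdeal ∧
        ∃ l : List (Localization.Away ((f.app t.V).hom g)), k.Seq _ l ∧
          ((RingHom.ker ((j ≫ f).app t.V).hom).map (f.app t.V).hom).map
            (algebraMap Γ(Y, f ⁻¹ᵁ t.V) (Localization.Away ((f.app t.V).hom g))) =
              Ideal.ofList l) :
    RegImm.IsRegularImmersionAt k j y' := by
  obtain ⟨t, hyV, htW, htO⟩ := exists_transChart_le' y' U₀ hy' O hO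
  obtain ⟨ρ, hρ⟩ := hret t htW
  have hkf : RingHom.ker (f.appLE t.toDoubleChart.V t.toDoubleChart.U t.toDoubleChart.e).hom =
      RingHom.ker (f.app t.V).hom := by
    change RingHom.ker (f.appLE t.V (f ⁻¹ᵁ t.V) le_rfl).hom = _
    rw [Scheme.Hom.appLE_eq_app]
  have hkjf : RingHom.ker ((j ≫ f).appLE t.toDoubleChart.V (j ⁻¹ᵁ t.toDoubleChart.U)
      t.toDoubleChart.leW).hom = RingHom.ker ((j ≫ f).app t.V).hom := by
    change RingHom.ker ((j ≫ f).appLE t.V ((j ≫ f) ⁻¹ᵁ t.V) le_rfl).hom = _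
    rw [Scheme.Hom.appLE_eq_app]
  have hW' : IsAffineOpen ((j ≫ f) ⁻¹ᵁ t.V) := t.hW
  have hJq : RingHom.ker ((j ≫ f).app t.V).hom ≤ (t.hV.primeIdealOf ⟨_, hyV⟩).asIdeal :=
    RegImmStalk3.ker_app_le_primeIdealOf (j ≫ f) y' t.V t.hV hyV hW'
  have H3 : ∀ x ∈ RingHom.ker (f.app t.V).hom, ∀ s : Γ(X, t.V),
      s * x ∈ (t.hV.primeIdealOf ⟨_, hyV⟩).asIdeal * RingHom.ker ((j ≫ f).app t.V).hom →
      s * x ∈ (t.hV.primeIdealOf ⟨_, hyV⟩).asIdeal * RingHom.ker (f.app t.V).hom := by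
    intro x hx s hsx
    have := mul_mem_of_retraction φ₁ hφ₁ t.toDoubleChart le_rfl ρ hρ
      (t.hV.primeIdealOf ⟨_, hyV⟩).asIdeal (by rw [hkjf]; exact hJq) x (by rw [hkf]; exact hx) s
      (by rw [hkjf]; exact hsx)
    rw [hkf] at this
    exact this
  obtain ⟨g, hg, l, hl, hJl⟩ := hring t hyV htO H3
  -- the kernel of `j` on the chart
  have hcomp : ((j ≫ f).app t.V).hom = (j.app (f ⁻¹ᵁ t.V)).hom.comp (f.app t.V).hom := by
    rw [Scheme.Hom.comp_app]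
    rfl
  have hKer : (RingHom.ker ((j ≫ f).app t.V).hom).map (f.app t.V).hom =
      RingHom.ker (j.app (f ⁻¹ᵁ t.V)).hom := by
    rw [hcomp]
    apply le_antisymm
    · rw [Ideal.map_le_iff_le_comap]
      intro x hx
      exact hx
    · intro y hy
      obtain ⟨x, rfl⟩ := t.surj_f y
      exact Ideal.mem_map_of_mem _ (show x ∈ RingHom.ker _ from hy)
  rw [hKer] at hJl
  haveI : IsClosedImmersion (j ∣_ (f ⁻¹ᵁ t.V)) :=
    RegImmStalk3.isClosedImmersion_restrict_of_le_coborderRange j _ t.hcj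
  have hjy : j.base y' ∈ f ⁻¹ᵁ t.V := hyV
  refine isRegularImmersionAt_of_locGenAt k hP j y' (f ⁻¹ᵁ t.V) t.hfV hjy ((f.app t.V).hom g) ?_
    l hl hJl
  intro hmem
  apply hg
  have h1 := IsAffineOpen.comap_primeIdealOf_appLE (f := f) t.V t.hV (f ⁻¹ᵁ t.V) t.hfV le_rfl hjy
  have h2 : g ∈ ((t.hfV.primeIdealOf ⟨j.base y', hjy⟩).comap
      (f.appLE t.V (f ⁻¹ᵁ t.V) le_rfl).hom).asIdeal := by
    change (f.appLE t.V (f ⁻¹ᵁ t.V) le_rfl).hom g ∈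
      (t.hfV.primeIdealOf ⟨j.base y', hjy⟩).asIdeal
    rw [Scheme.Hom.appLE_eq_app]
    exact hmem
  rw [h1] at h2
  exact h2

omit [QuasiCompact j] [QuasiCompact f] in
/-- the common ring-level bookkeeping on a chart -/
theorem chart_facts (t : TransChart j f) (y' : Y') (hyV : (j ≫ f).base y' ∈ t.V) :
    RingHom.ker (f.app t.V).hom ≤ RingHom.ker ((j ≫ f).app t.V).hom ∧
      RingHom.ker ((j ≫ f).app t.V).hom ≤ (t.hV.primeIdealOf ⟨_, hyV⟩).asIdeal := by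
  have hW' : IsAffineOpen ((j ≫ f) ⁻¹ᵁ t.V) := t.hW
  refine ⟨?_, RegImmStalk3.ker_app_le_primeIdealOf (j ≫ f) y' t.V t.hV hyV hW'⟩
  intro x hx
  rw [RingHom.mem_ker] at hx ⊢
  rw [Scheme.Hom.comp_app]
  change (j.app (f ⁻¹ᵁ t.V)).hom ((f.app t.V).hom x) = 0
  rw [hx, map_zero]

omit [IsImmersion j] [IsImmersion f] [QuasiCompact j] [QuasiCompact f] in
/-- Transport of a presentation of the kernel to a smaller affine open. -/
theorem exists_presentation_of_le (k : RegImm.Kind) (hP : DescOK.{u} (fun R _ l => k.Seq R l))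
    {Z₀ X₀ : Scheme.{u}} (i : Z₀ ⟶ X₀) {U₁ V : X₀.Opens} (hU₁ : IsAffineOpen U₁)
    (hV : IsAffineOpen V) (hle : V ≤ U₁) [IsClosedImmersion (i ∣_ U₁)] (rs : List Γ(X₀, U₁))
    (hrs : k.Seq _ rs) (hker : RingHom.ker (i.app U₁).hom = Ideal.ofList rs) :
    ∃ hs : List Γ(X₀, V), k.Seq _ hs ∧ RingHom.ker (i.app V).hom = Ideal.ofList hs := by
  refine ⟨rs.map (X₀.presheaf.map (homOfLE hle).op).hom,
    hP.flat _ (ImmCompChart.flat_res hle hU₁ hV) rs hrs, ?_⟩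
  rw [ImmCompChart.ker_app_of_le i hle hU₁ hV, hker, Ideal.map_ofList]

omit [IsImmersion j] [QuasiCompact j] [QuasiCompact f] in
theorem ker_app_fg [LocallyOfFinitePresentation f] {V : X.Opens} (hV : IsAffineOpen V)
    (hVc : V ≤ f.coborderRange) : (RingHom.ker (f.app V).hom).FG := by
  have hW := isAffineOpen_preimage_of_le_coborderRange f hV hVc
  have hfp : (f.appLE V (f ⁻¹ᵁ V) le_rfl).hom.FinitePresentation :=
    HasRingHomProperty.appLE (P := @LocallyOfFinitePresentation) f inferInstance ⟨V, hV⟩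
      ⟨_, hW⟩ le_rfl
  have hsurj : Function.Surjective (f.appLE V (f ⁻¹ᵁ V) le_rfl).hom := by
    rw [Scheme.Hom.appLE_eq_app]
    exact app_surjective_of_le_coborderRange f hV hVc
  have h1 : (RingHom.ker (f.appLE V (f ⁻¹ᵁ V) le_rfl).hom).FG := by
    letI := (f.appLE V (f ⁻¹ᵁ V) le_rfl).hom.toAlgebra
    haveI : Algebra.FinitePresentation Γ(X, V) Γ(Y, f ⁻¹ᵁ V) := hfp
    exact Algebra.FinitePresentation.ker_fG_of_surjective (Algebra.ofId Γ(X, V) Γ(Y, f ⁻¹ᵁ V)) hsurj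
  rwa [Scheme.Hom.appLE_eq_app] at h1

include hφ₁ in
/-- **Quasi-regular case.** -/
theorem isRegularImmersionAt_quasi_of_split [LocallyOfFinitePresentation f] (y' : Y')
    (U₀ : Y'.Opens) (hy' : y' ∈ U₀)
    (hret : ∀ t : TransChart j f, j ⁻¹ᵁ (f ⁻¹ᵁ t.V) ≤ U₀ →
      ∃ ρ : Γ(Omega.conormal (j ≫ f), j ⁻¹ᵁ (f ⁻¹ᵁ t.V)) →ₗ[Γ(Y', j ⁻¹ᵁ (f ⁻¹ᵁ t.V))]
          Γ((Scheme.Modules.pullback j).obj (Omega.conormal f), j ⁻¹ᵁ (f ⁻¹ᵁ t.V)),
        ∀ y, ρ (φ₁.app (j ⁻¹ᵁ (f ⁻¹ᵁ t.V)) y) = y)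
    (hjf : RegImm.IsRegularImmersionAt .quasi (j ≫ f) y') :
    RegImm.IsRegularImmersionAt .quasi j y' := by
  obtain ⟨U₁, hyU₁, hcl, rs, hrs, hker⟩ := hjf
  haveI := hcl
  refine isRegularImmersionAt_of_split φ₁ hφ₁ .quasi descOK_quasi y' U₀ hy' hret U₁.1 hyU₁ ?_
  intro t hyV htO H3
  obtain ⟨hs, hPhs, hJ⟩ := exists_presentation_of_le .quasi descOK_quasi (j ≫ f) U₁.2 t.hV htO
    rs hrs hker
  obtain ⟨hIJ, hJq⟩ := chart_facts t y' hyV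
  exact locGen_map_of_split_quasi (f.app t.V).hom t.surj_f _ _ hIJ hJq (ker_app_fg t.hV t.hcf)
    hs hPhs hJ (fun x hx ⟨s, hs, hsx⟩ => ⟨s, hs, H3 x hx s hsx⟩)

include hφ₁ in
/-- **`H_1`-regular case.** -/
theorem isRegularImmersionAt_h1_of_split [LocallyOfFinitePresentation f] (y' : Y')
    (U₀ : Y'.Opens) (hy' : y' ∈ U₀)
    (hret : ∀ t : TransChart j f, j ⁻¹ᵁ (f ⁻¹ᵁ t.V) ≤ U₀ →
      ∃ ρ : Γ(Omega.conormal (j ≫ f), j ⁻¹ᵁ (f ⁻¹ᵁ t.V)) →ₗ[Γ(Y', j ⁻¹ᵁ (f ⁻¹ᵁ t.V))]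
          Γ((Scheme.Modules.pullback j).obj (Omega.conormal f), j ⁻¹ᵁ (f ⁻¹ᵁ t.V)),
        ∀ y, ρ (φ₁.app (j ⁻¹ᵁ (f ⁻¹ᵁ t.V)) y) = y)
    (hjf : RegImm.IsRegularImmersionAt .h1 (j ≫ f) y') :
    RegImm.IsRegularImmersionAt .h1 j y' := by
  obtain ⟨U₁, hyU₁, hcl, rs, hrs, hker⟩ := hjf
  haveI := hcl
  refine isRegularImmersionAt_of_split φ₁ hφ₁ .h1 descOK_h1 y' U₀ hy' hret U₁.1 hyU₁ ?_
  intro t hyV htO H3
  obtain ⟨hs, hPhs, hJ⟩ := exists_presentation_of_le .h1 descOK_h1 (j ≫ f) U₁.2 t.hV htO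
    rs hrs hker
  obtain ⟨hIJ, hJq⟩ := chart_facts t y' hyV
  exact locGen_map_of_split_h1 (f.app t.V).hom t.surj_f _ _ hIJ hJq (ker_app_fg t.hV t.hcf)
    hs hPhs hJ (fun x hx ⟨s, hs, hsx⟩ => ⟨s, hs, H3 x hx s hsx⟩)

include hφ₁ in
/-- **Koszul-regular case** (`f` Koszul-regular at `j y'` too). -/
theorem isRegularImmersionAt_koszul_of_split (y' : Y')
    (U₀ : Y'.Opens) (hy' : y' ∈ U₀)
    (hret : ∀ t : TransChart j f, j ⁻¹ᵁ (f ⁻¹ᵁ t.V) ≤ U₀ →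
      ∃ ρ : Γ(Omega.conormal (j ≫ f), j ⁻¹ᵁ (f ⁻¹ᵁ t.V)) →ₗ[Γ(Y', j ⁻¹ᵁ (f ⁻¹ᵁ t.V))]
          Γ((Scheme.Modules.pullback j).obj (Omega.conormal f), j ⁻¹ᵁ (f ⁻¹ᵁ t.V)),
        ∀ y, ρ (φ₁.app (j ⁻¹ᵁ (f ⁻¹ᵁ t.V)) y) = y)
    (hf : RegImm.IsRegularImmersionAt .koszul f (j.base y'))
    (hjf : RegImm.IsRegularImmersionAt .koszul (j ≫ f) y') :
    RegImm.IsRegularImmersionAt .koszul j y' := by
  obtain ⟨U₁, hyU₁, hcl, rs, hrs, hker⟩ := hjf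
  obtain ⟨U₂, hyU₂, hcl₂, rs₂, hrs₂, hker₂⟩ := hf
  haveI := hcl
  haveI := hcl₂
  refine isRegularImmersionAt_of_split φ₁ hφ₁ .koszul descOK_koszul y' U₀ hy' hret (U₁.1 ⊓ U₂.1)
    ⟨hyU₁, hyU₂⟩ ?_
  intro t hyV htO H3
  obtain ⟨hs, hPhs, hJ⟩ := exists_presentation_of_le .koszul descOK_koszul (j ≫ f) U₁.2 t.hV
    (htO.trans inf_le_left) rs hrs hker
  obtain ⟨fs', hfs', hI⟩ := exists_presentation_of_le .koszul descOK_koszul f U₂.2 t.hV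
    (htO.trans inf_le_right) rs₂ hrs₂ hker₂
  obtain ⟨hIJ, hJq⟩ := chart_facts t y' hyV
  exact locGen_map_of_split_koszul (f.app t.V).hom t.surj_f _ _ hIJ hJq fs' hfs' hI
    hs hPhs hJ (fun x hx ⟨s, hs, hsx⟩ => ⟨s, hs, H3 x hx s hsx⟩)

end Main

end Groth.Agent.H39.SplitConormalGeom
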