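import Mathlib
import Groth.Agent.H39.SplitConormalGeom
import Groth.Agent.H39.RegImmQuasi
import Groth.Agent.H39.RegImmStalk2
import Groth.Agent.H12.QCohAbelian
import Groth.Agent.H12.RestrictLim
import Groth.Agent.H44.AffineHom
import Groth.Agent.H79.KoszulCone
import Groth.Agent.H94.KoszulH1
import Groth.Prelude.Def_RegImm

/-!
# Regular immersions `Z → Y → X`, `X` locally Noetherian: the three equivalent conditions (helper39)

S8921 (Stacks 0693-style): (1) `i`, `j` regular near `z`; (2) `i`, `j ∘ i` regular near `z`;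
(3) `j ∘ i` regular near `z` and the conormal sequence split short exact near `z`.

* `regular_at_iff_isRegularIdeal`, `regular_of_quasi_at`, `quasi_of_regular_at`, `h1_of_regular_at`.
* `exists_restrict_retraction`: linear retraction on an affine open ⟹ retraction of restricted sheaves.
* `exists_splitting_near`: `i` `H_1`-regular at `z` ⟹ conormal sequence split near `z`.
-/

set_option autoImplicit false
set_option linter.style.haveILetI false
universe u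

open CategoryTheory CategoryTheory.Limits AlgebraicGeometry TopologicalSpace Scheme.Modules

namespace Groth.Agent.H39.RegPairTFAE

open Groth.Agent.H44 Groth.Agent.H39.SplitConormalGeom Groth.Agent.H39.RegImmStalk3

section pointwise
variable {X Y : Scheme.{u}}

theorem quasi_of_regular_at (j : Y ⟶ X) (z : Y)
    (h : RegImm.IsRegularImmersionAt .regular j z) : RegImm.IsRegularImmersionAt .quasi j z := by
  obtain ⟨U, hzU, hcl, rs, hrs, hker⟩ := h
  refine ⟨U, hzU, hcl, rs, ?_, hker⟩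
  exact Groth.Agent.H19.QReg.isQuasiRegular_of_isWeaklyRegular rs.get
    (by rw [List.ofFn_get]; exact hrs.toIsWeaklyRegular)

theorem h1_of_regular_at (j : Y ⟶ X) (z : Y)
    (h : RegImm.IsRegularImmersionAt .regular j z) : RegImm.IsRegularImmersionAt .h1 j z := by
  obtain ⟨U, hzU, hcl, rs, hrs, hker⟩ := h
  refine ⟨U, hzU, hcl, rs, ?_, hker⟩
  have hk : LCI.IsKoszulRegularSeq Γ(X, U.1) rs := fun i hi =>
    Groth.Agent.H79.KoszulCone.isZero_homology_of_isWeaklyRegular rs hrs.toIsWeaklyRegular i hi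
  exact Groth.Agent.H94.KoszulH1.isH1Regular_of_isKoszulRegularSeq rs hk

theorem regular_of_quasi_at [IsLocallyNoetherian X] (j : Y ⟶ X) [IsImmersion j] (z : Y)
    (h : RegImm.IsRegularImmersionAt .quasi j z) : RegImm.IsRegularImmersionAt .regular j z := by
  obtain ⟨U, hzU, hcl, rs, hrs, hker⟩ := h
  haveI := hcl
  apply isRegularImmersionAt_of_isRegularIdeal_ker
  obtain ⟨hU', hsurj⟩ :=
    isAffineOpen_preimage_and_surjective_of_isClosedImmersion_restrict j U.1 U.2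
  haveI : IsNoetherianRing Γ(X, U.1) := IsLocallyNoetherian.component_noetherian U
  letI := X.presheaf.algebra_section_stalk ⟨j z, hzU⟩
  haveI := U.2.isLocalization_stalk ⟨j z, hzU⟩
  rw [ker_stalkMap_eq_of_surjective j z U.1 U.2 hzU hU' hsurj, hker]
  refine Groth.Agent.H39.QRLocal.isRegularIdeal_map_atPrime_of_quasiRegular
    (U.2.primeIdealOf ⟨j z, hzU⟩).asIdeal (X.presheaf.stalk (j z)) rs hrs ?_
  rw [← hker]
  exact ker_app_le_primeIdealOf j z U.1 U.2 hzU hU'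

theorem regular_at_iff_isRegularIdeal [IsLocallyNoetherian X] (j : Y ⟶ X) [IsImmersion j]
    (z : Y) : RegImm.IsRegularImmersionAt .regular j z ↔
      CInt.IsRegularIdeal (RingHom.ker (j.stalkMap z).hom) :=
  ⟨isRegularIdeal_ker_stalkMap_of_isRegularImmersionAt j z,
    isRegularImmersionAt_of_isRegularIdeal_ker j z⟩

end pointwise

section partA
variable {Z Y X : Scheme.{u}} (i : Z ⟶ Y) (j : Y ⟶ X) [IsImmersion i] [IsImmersion j]

theorem partA [IsLocallyNoetherian X] (z : Z) :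
    (RegImm.IsRegularImmersionAt .regular i z ∧ RegImm.IsRegularImmersionAt .regular j (i z)) ↔
      (RegImm.IsRegularImmersionAt .regular i z ∧
        RegImm.IsRegularImmersionAt .regular (i ≫ j) z) := by
  haveI : IsLocallyNoetherian Y := LocallyOfFiniteType.isLocallyNoetherian j
  refine and_congr_right fun hi => ?_
  rw [regular_at_iff_isRegularIdeal j (i z), regular_at_iff_isRegularIdeal (i ≫ j) z,
    Scheme.Hom.stalkMap_comp]
  have hψ := (regular_at_iff_isRegularIdeal i z).mp hi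
  exact Groth.Agent.H39.RegImmStalk2.isRegularIdeal_ker_comp_iff (j.stalkMap (i z)).hom
    (j.stalkMap_surjective (i z)) (i.stalkMap z).hom hψ

end partA

section restrictHom
variable {Z : Scheme.{u}} {M N : Z.Modules}

/-- From a linear retraction on the sections over an affine open `W`, a retraction of the restricted
sheaf map. -/
theorem exists_restrict_retraction (ψ : M ⟶ N) [M.IsQuasicoherent] [N.IsQuasicoherent]
    (W : Z.Opens) (hW : IsAffineOpen W)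
    (ρ : Γ(N, W) →ₗ[Γ(Z, W)] Γ(M, W)) (hρ : ∀ y, ρ (ψ.app W y) = y) :
    ∃ r : (restrictFunctor W.ι).obj N ⟶ (restrictFunctor W.ι).obj M,
      (restrictFunctor W.ι).map ψ ≫ r = 𝟙 _ := by
  haveI : IsAffine (W : Scheme.{u}) := hW
  -- transport to the open `W.ι ''ᵁ ⊤`
  have key : ∃ ρ' : Γ(N, W.ι ''ᵁ ⊤) →ₗ[Γ(Z, W.ι ''ᵁ ⊤)] Γ(M, W.ι ''ᵁ ⊤),
      ∀ y, ρ' (ψ.app (W.ι ''ᵁ ⊤) y) = y := by
    rw [Scheme.Opens.ι_image_top]
    exact ⟨ρ, hρ⟩
  obtain ⟨ρ', hρ'⟩ := key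
  let l : Γ((restrictFunctor W.ι).obj N, ⊤) →ₗ[Γ((W : Scheme.{u}), ⊤)]
      Γ((restrictFunctor W.ι).obj M, ⊤) :=
    { toFun := fun x => ρ' x
      map_add' := fun x y => map_add ρ' x y
      map_smul' := fun b x => by
        have h3 : ∀ (K : Z.Modules) (b : Γ((W : Scheme.{u}), ⊤)) (x : Γ(K, W.ι ''ᵁ ⊤)),
            (b • (show Γ((restrictFunctor W.ι).obj K, ⊤) from x) :
              Γ((restrictFunctor W.ι).obj K, ⊤)) =
              (((W.ι.appIso ⊤).inv b) • x : Γ(K, W.ι ''ᵁ ⊤)) := fun K b x => rfl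
        rw [h3 N, RingHom.id_apply, h3 M]
        exact LinearMap.map_smul ρ' _ _ }
  obtain ⟨α, hα⟩ := exists_hom_of_linearMap (M := (restrictFunctor W.ι).obj N)
    (F := (restrictFunctor W.ι).obj M) l
  refine ⟨α, ?_⟩
  apply hom_ext_of_app_top
  intro m
  rw [Scheme.Modules.Hom.comp_app, ConcreteCategory.comp_apply, hα]
  exact hρ' m

end restrictHom

section split
variable {Z Y X : Scheme.{u}} (i : Z ⟶ Y) (j : Y ⟶ X) [IsImmersion i] [IsImmersion j]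
  [QuasiCompact i] [QuasiCompact j]
  (a : (Scheme.Modules.pullback i).obj (Omega.conormal j) ⟶ Omega.conormal (i ≫ j))
  (ha : OmegaSh.IsConormalMap (i ≫ j) j (𝟙 X) i a)
  (b : (Scheme.Modules.pullback (𝟙 Z)).obj (Omega.conormal (i ≫ j)) ⟶ Omega.conormal i)
  (hb : OmegaSh.IsConormalMap i (i ≫ j) j (𝟙 Z) b)

set_option maxHeartbeats 1600000 in
include ha hb in
/-- If `i` is `H_1`-regular at `z`, the conormal sequence is split short exact near `z`. -/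
theorem exists_splitting_near (z : Z) (hi : RegImm.IsRegularImmersionAt .h1 i z) :
    ∃ U : Z.Opens, z ∈ U ∧
      ∀ w : (restrictFunctor U.ι).map a ≫ (restrictFunctor U.ι).map
          ((pullbackId Z).inv.app (Omega.conormal (i ≫ j)) ≫ b) = 0,
        Nonempty (ShortComplex.mk ((restrictFunctor U.ι).map a) ((restrictFunctor U.ι).map
          ((pullbackId Z).inv.app (Omega.conormal (i ≫ j)) ≫ b)) w).Splitting := by
  obtain ⟨U₀, hzU₀, hcl, rs, hrs, hker⟩ := hi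
  haveI := hcl
  obtain ⟨t, hzt, -, htU₀⟩ := exists_transChart_le i j z ⊤ trivial U₀.1 hzU₀
  obtain ⟨c, fA, hfA, hkerA⟩ := exists_h1_presentation_of_le i U₀.2 t.hfV htU₀ rs hrs hker
  have hW : IsAffineOpen (i ⁻¹ᵁ (j ⁻¹ᵁ t.V)) := t.hW
  obtain ⟨χ, hχ⟩ : ∃ χ : Omega.conormal (i ≫ j) ⟶ Omega.conormal i,
      χ = (pullbackId Z).inv.app (Omega.conormal (i ≫ j)) ≫ b := ⟨_, rfl⟩
  -- global exactness
  obtain ⟨hepi, w₀, hex⟩ := trans_seq_exact a ha b hb
  haveI := hepi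
  haveI : Epi χ := by rw [hχ]; exact epi_comp _ _
  -- chart level facts
  have hinj : Function.Injective (a.app (i ⁻¹ᵁ (j ⁻¹ᵁ t.V))) :=
    transMap_app_injective_of_isH1Regular a ha t.toDoubleChart le_rfl t.surj_appLE fA hfA hkerA
  have hchart : Function.Surjective (b.app (i ⁻¹ᵁ (j ⁻¹ᵁ t.V))) ∧
      (∀ y, b.app (i ⁻¹ᵁ (j ⁻¹ᵁ t.V)) (((pullbackId Z).inv.app (Omega.conormal (i ≫ j))).app
        (i ⁻¹ᵁ (j ⁻¹ᵁ t.V)) (a.app (i ⁻¹ᵁ (j ⁻¹ᵁ t.V)) y)) = 0) ∧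
      (∀ x, b.app (i ⁻¹ᵁ (j ⁻¹ᵁ t.V)) (((pullbackId Z).inv.app (Omega.conormal (i ≫ j))).app
        (i ⁻¹ᵁ (j ⁻¹ᵁ t.V)) x) = 0 → ∃ y, a.app (i ⁻¹ᵁ (j ⁻¹ᵁ t.V)) y = x) :=
    trans_seq_chart a ha b hb t.toDoubleChart le_rfl t.surj_appLE
  obtain ⟨hsurjb, hzero, hexW⟩ := hchart
  -- projectivity of the conormal module of `i`
  have hproj : Module.Projective Γ(Z, (i ⁻¹ᵁ (j ⁻¹ᵁ t.V))) Γ(Omega.conormal i, (i ⁻¹ᵁ (j ⁻¹ᵁ t.V))) := by
    letI algAB : Algebra Γ(Y, j ⁻¹ᵁ t.V) Γ(Z, (i ⁻¹ᵁ (j ⁻¹ᵁ t.V))) :=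
      (i.appLE (j ⁻¹ᵁ t.V) (i ⁻¹ᵁ (j ⁻¹ᵁ t.V)) le_rfl).hom.toAlgebra
    have hAB : Function.Surjective (algebraMap Γ(Y, j ⁻¹ᵁ t.V) Γ(Z, (i ⁻¹ᵁ (j ⁻¹ᵁ t.V)))) := by
      change Function.Surjective (i.appLE (j ⁻¹ᵁ t.V) (i ⁻¹ᵁ (j ⁻¹ᵁ t.V)) le_rfl).hom
      rw [Scheme.Hom.appLE_eq_app]
      exact t.surj_j
    have hI : RingHom.ker (algebraMap Γ(Y, j ⁻¹ᵁ t.V) Γ(Z, (i ⁻¹ᵁ (j ⁻¹ᵁ t.V)))) = Ideal.span (Set.range fA) := by
      change RingHom.ker (i.appLE (j ⁻¹ᵁ t.V) (i ⁻¹ᵁ (j ⁻¹ᵁ t.V)) le_rfl).hom = _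
      rw [Scheme.Hom.appLE_eq_app]
      exact hkerA
    obtain ⟨hfin, hfree⟩ := conormal_finite_free_of_isH1Regular hAB fA hfA hI
    let E := conormalEquiv i t.hfV hW le_rfl le_rfl
    exact Module.Projective.of_equiv E.symm
  -- the linear map `χ_(i ⁻¹ᵁ (j ⁻¹ᵁ t.V))` and a section
  let L : Γ(Omega.conormal (i ≫ j), (i ⁻¹ᵁ (j ⁻¹ᵁ t.V))) →ₗ[Γ(Z, (i ⁻¹ᵁ (j ⁻¹ᵁ t.V)))] Γ(Omega.conormal i, (i ⁻¹ᵁ (j ⁻¹ᵁ t.V))) :=
    { toFun := fun x => χ.app (i ⁻¹ᵁ (j ⁻¹ᵁ t.V)) x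
      map_add' := fun x y => map_add (χ.app (i ⁻¹ᵁ (j ⁻¹ᵁ t.V))).hom x y
      map_smul' := fun r x => Scheme.Modules.Hom.app_smul χ r x }
  have hLsurj : Function.Surjective L := by
    intro y
    obtain ⟨x, hx⟩ := hsurjb y
    obtain ⟨x', hx'⟩ := pullId_surjective (Omega.conormal (i ≫ j)) (i ⁻¹ᵁ (j ⁻¹ᵁ t.V)) x
    refine ⟨x', ?_⟩
    change χ.app (i ⁻¹ᵁ (j ⁻¹ᵁ t.V)) x' = y
    rw [hχ, Scheme.Modules.Hom.comp_app, ConcreteCategory.comp_apply, hx', hx]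
  obtain ⟨τ, hτ⟩ := Module.projective_lifting_property L LinearMap.id hLsurj
  have hτ' : ∀ k, χ.app (i ⁻¹ᵁ (j ⁻¹ᵁ t.V)) (τ k) = k := fun k => LinearMap.congr_fun hτ k
  obtain ⟨ρ, hρ⟩ := exists_retraction_of_section a χ (i ⁻¹ᵁ (j ⁻¹ᵁ t.V)) τ hτ' hinj
    (fun y => by
      rw [hχ, Scheme.Modules.Hom.comp_app, ConcreteCategory.comp_apply]
      exact hzero y)
    (fun x hx => hexW x (by
      rw [hχ, Scheme.Modules.Hom.comp_app, ConcreteCategory.comp_apply] at hx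
      exact hx))
  obtain ⟨r, hr⟩ := exists_restrict_retraction a (i ⁻¹ᵁ (j ⁻¹ᵁ t.V)) hW ρ hρ
  subst hχ
  refine ⟨(i ⁻¹ᵁ (j ⁻¹ᵁ t.V)), hzt, fun w => ⟨?_⟩⟩
  have hexU : (ShortComplex.mk ((restrictFunctor (i ⁻¹ᵁ (j ⁻¹ᵁ t.V)).ι).map a)
      ((restrictFunctor (i ⁻¹ᵁ (j ⁻¹ᵁ t.V)).ι).map
        ((pullbackId Z).inv.app (Omega.conormal (i ≫ j)) ≫ b)) w).Exact :=
    hex.map (restrictFunctor (i ⁻¹ᵁ (j ⁻¹ᵁ t.V)).ι)
  have hepiU : Epi ((restrictFunctor (i ⁻¹ᵁ (j ⁻¹ᵁ t.V)).ι).map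
      ((pullbackId Z).inv.app (Omega.conormal (i ≫ j)) ≫ b)) := inferInstance
  exact ShortComplex.Splitting.ofExactOfRetraction _ hexU r hr hepiU

include ha hb in
/-- **S8921.** -/
theorem tfae [IsLocallyNoetherian X] (z : Z) :
    ((RegImm.IsRegularImmersionAt RegImm.Kind.regular i z ∧ RegImm.IsRegularImmersionAt RegImm.Kind.regular j (i z)) ↔
      (RegImm.IsRegularImmersionAt RegImm.Kind.regular i z ∧ RegImm.IsRegularImmersionAt RegImm.Kind.regular (i ≫ j) z)) ∧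
    ((RegImm.IsRegularImmersionAt RegImm.Kind.regular i z ∧ RegImm.IsRegularImmersionAt RegImm.Kind.regular (i ≫ j) z) ↔
      (RegImm.IsRegularImmersionAt RegImm.Kind.regular (i ≫ j) z ∧
        ∃ U : Z.Opens, z ∈ U ∧
          ∀ w : (Scheme.Modules.restrictFunctor U.ι).map a ≫ (Scheme.Modules.restrictFunctor U.ι).map ((Scheme.Modules.pullbackId Z).inv.app (Omega.conormal (i ≫ j)) ≫ b) = 0,
            Nonempty (ShortComplex.mk ((Scheme.Modules.restrictFunctor U.ι).map a) ((Scheme.Modules.restrictFunctor U.ι).map ((Scheme.Modules.pullbackId Z).inv.app (Omega.conormal (i ≫ j)) ≫ b)) w).Splitting)) := by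
  refine ⟨partA i j z, ⟨fun ⟨hi, hij⟩ =>
    ⟨hij, exists_splitting_near i j a ha b hb z (h1_of_regular_at i z hi)⟩,
    fun ⟨hij, U, hzU, hsplit⟩ => ⟨?_, hij⟩⟩⟩
  haveI : IsLocallyNoetherian Y := LocallyOfFiniteType.isLocallyNoetherian j
  haveI : LocallyOfFinitePresentation j :=
    LocallyOfFinitePresentation.iff_locallyOfFiniteType.mpr inferInstance
  obtain ⟨-, w₀, -⟩ := trans_seq_exact a ha b hb
  have wU : (restrictFunctor U.ι).map a ≫ (restrictFunctor U.ι).map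
      ((pullbackId Z).inv.app (Omega.conormal (i ≫ j)) ≫ b) = 0 := by
    rw [← Functor.map_comp, w₀, Functor.map_zero]
  obtain ⟨spl⟩ := hsplit wU
  have hq := isRegularImmersionAt_quasi_of_split a ha z U hzU
    (fun t htW => exists_retraction_sections a U spl.r spl.f_r _ htW) (quasi_of_regular_at _ z hij)
  exact regular_of_quasi_at i z hq

end split

end Groth.Agent.H39.RegPairTFAE
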