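import Mathlib
import Groth.Agent.H29.CM
import Groth.Agent.H14.RegularCM
import Groth.Agent.H72.FlatCM

/-!
# Generators of a height-`c` ideal in a Cohen–Macaulay local ring form a regular sequence
-/

set_option autoImplicit false
set_option linter.style.haveILetI false
set_option linter.unusedSectionVars false
universe u

open IsLocalRing

namespace Groth.Agent.H39.RegSeqCM

/-- A regular local ring is a Cohen–Macaulay module over itself. -/
theorem isCohenMacaulayModule_self (A : Type u) [CommRing A] [IsRegularLocalRing A] :
    LocCoh.IsCohenMacaulayModule A A := by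
  have h : LocCoh.IsCohenMacaulayLocalRing A := by
    rw [Groth.Agent.H72.FlatCM.isCohenMacaulayLocalRing_iff]
    exact le_antisymm (Groth.Agent.H14.ringKrullDim_le_idealDepth_of_isRegularLocalRing A)
      (Groth.Agent.H72.FlatCM.depth_le_ringKrullDim A)
  exact h.supportDim_eq_depth

theorem ofList_ofFn {R : Type u} [CommRing R] {c : ℕ} (f : Fin c → R) :
    Ideal.ofList (List.ofFn f) = Ideal.span (Set.range f) := by
  unfold Ideal.ofList
  congr 1
  ext x
  simp [List.mem_ofFn]

/-- In a Cohen–Macaulay local ring, `c` generators of a proper ideal `J` with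
`dim R/J + c = dim R` form a regular sequence. -/
theorem isRegular_ofFn_of_ringKrullDim_quotient {R : Type u} [CommRing R] [IsLocalRing R]
    [IsNoetherianRing R] (hCM : LocCoh.IsCohenMacaulayModule R R) (J : Ideal R) (hJ : J ≠ ⊤)
    {c : ℕ} (f : Fin c → R) (hspan : Ideal.span (Set.range f) = J)
    (hdim : ringKrullDim (R ⧸ J) + c = ringKrullDim R) :
    RingTheory.Sequence.IsRegular R (List.ofFn f) := by
  have hof : Ideal.ofList (List.ofFn f) = J := (ofList_ofFn f).trans hspan
  have hsm : (Ideal.ofList (List.ofFn f) • ⊤ : Submodule R R) = J := by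
    rw [hof, smul_eq_mul, Ideal.mul_top]
  refine ⟨?_, ?_⟩
  · apply Groth.Agent.H29.CML.isWeaklyRegular_of_supportDim_eq (List.ofFn f) R hCM
    · intro x hx
      have hxJ : x ∈ J := by
        rw [← hof]
        exact Ideal.subset_span hx
      exact IsLocalRing.le_maximalIdeal hJ hxJ
    · rw [hsm, Module.supportDim_self_eq_ringKrullDim,
        Module.supportDim_quotient_eq_ringKrullDim, List.length_ofFn]
      exact hdim
  · rw [hsm]
    exact fun h => hJ h.symm

end Groth.Agent.H39.RegSeqCM
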