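import Mathlib
import Groth.Agent.H94.KoszulFC
import Groth.Agent.H39.QRLocal
import Groth.Agent.H39.RelRegAlg
import Groth.Agent.H19.QuasiRegBC

set_option autoImplicit false
set_option linter.unusedSectionVars false
set_option linter.style.haveILetI false
universe u

namespace Groth.Agent.H39.RelQuasiReg

open RingTheory.Sequence IsLocalRing Groth.Agent.H47.CI Groth.Agent.H47.CMSlice
  Groth.Agent.H49.FlatApprox Groth.Agent.H47.TransReg Groth.Agent.H94.KAt TensorProduct
  Groth.Agent.H94.KoszulFC

/-- **Fibre criterion, regular form**: `F` is a Noetherian local ring with a surjection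
`σ : B_q → F` of kernel `p B_q`; if the image of `I` in `F` is generated by a regular sequence then
`I` is generated by a regular sequence on a principal open neighbourhood of `q`. -/
theorem regAt_of_fibre_regular_gen (H : Hyp4848.{u}) (A : Type u) [CommRing A]
    (B : Type u) [CommRing B] [Algebra A B] [Algebra.FinitePresentation A B]
    (q : Ideal B) [q.IsPrime] (hflat : Module.Flat A (Localization.AtPrime q))
    (I : Ideal B) (hIq : I ≤ q) (hIfg : I.FG) [Module.Flat A (B ⧸ I)]
    (F : Type u) [CommRing F] [IsLocalRing F] [IsNoetherianRing F]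
    (σ : Localization.AtPrime q →+* F) (hσ : Function.Surjective σ)
    (hker : RingHom.ker σ =
      (q.comap (algebraMap A B)).map (algebraMap A (Localization.AtPrime q)))
    (hrs : ∃ rs : List F, IsRegular F rs ∧
      I.map (σ.comp (algebraMap B (Localization.AtPrime q))) = Ideal.ofList rs) :
    ∃ g : B, g ∉ q ∧ ∀ (Bg : Type u) [CommRing Bg] [Algebra B Bg] [IsLocalization.Away g Bg],
      CInt.IsRegularIdeal (I.map (algebraMap B Bg)) := by
  set π : B →+* F := σ.comp (algebraMap B (Localization.AtPrime q)) with hπ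
  obtain ⟨hs, hmemI, hreg, hgen⟩ := exists_list_of_isRegular_noeth I F π hrs
  have hlistπ : (hs.map (algebraMap B (Localization.AtPrime q))).map σ = hs.map π := by
    rw [List.map_map]
    rfl
  have hregSeq : RegSeq ((q.comap (algebraMap A B)).map (algebraMap A (Localization.AtPrime q)))
      (hs.map (algebraMap B (Localization.AtPrime q))) := by
    refine regSeq_of_map σ hσ _ _ hker.le ?_
    have h0 : ((q.comap (algebraMap A B)).map (algebraMap A (Localization.AtPrime q))).map σ
        = ⊥ := by
      rw [Ideal.map_eq_bot_iff_le_ker, hker]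
    rw [h0, hlistπ]
    exact regSeq_bot_of_isWeaklyRegular_self _ hreg.toIsWeaklyRegular
  have hle : I.map (algebraMap B (Localization.AtPrime q)) ≤
      (Ideal.ofList hs).map (algebraMap B (Localization.AtPrime q)) ⊔
        (q.comap (algebraMap A B)).map (algebraMap A (Localization.AtPrime q)) := by
    have h1 : (I.map (algebraMap B (Localization.AtPrime q))).map σ =
        ((Ideal.ofList hs).map (algebraMap B (Localization.AtPrime q))).map σ := by
      rw [Ideal.map_map, Ideal.map_map, ← hπ, ← hgen, Ideal.map_ofList]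
    calc I.map (algebraMap B (Localization.AtPrime q))
        ≤ ((I.map (algebraMap B (Localization.AtPrime q))).map σ).comap σ := Ideal.le_comap_map
      _ = (Ideal.ofList hs).map (algebraMap B (Localization.AtPrime q)) ⊔
            (q.comap (algebraMap A B)).map (algebraMap A (Localization.AtPrime q)) := by
          rw [h1, Ideal.comap_map_of_surjective σ hσ, ← RingHom.ker_eq_comap_bot, hker]
  obtain ⟨g, hg, hw⟩ := exists_away_of_list H A B q (Localization.AtPrime q) hflat I hIfg hs hmemI
    (fun h hh => hIq (hmemI h hh)) hregSeq hle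
  refine ⟨g, hg, fun Bg _ _ _ => ?_⟩
  obtain ⟨hwr, hwgen⟩ := hw Bg
  refine ⟨hs.map (algebraMap B Bg), ⟨hwr, ?_⟩, hwgen⟩
  rw [hwgen, smul_eq_mul, Ideal.mul_top]
  intro htop
  have hdisj : Disjoint (Submonoid.powers g : Set B) (q : Set B) := by
    rw [Set.disjoint_left]
    rintro x ⟨n, rfl⟩ hx
    exact hg (Ideal.IsPrime.mem_of_pow_mem inferInstance n hx)
  have hprime := IsLocalization.isPrime_of_isPrime_disjoint (Submonoid.powers g)
    Bg q inferInstance hdisj
  exact hprime.ne_top (top_le_iff.mp (htop.le.trans (Ideal.map_mono hIq)))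


/-- **T1**: over a flat finitely presented algebra, an ideal generated by a quasi-regular sequence
with flat quotient is generated by a regular sequence near every prime containing it. -/
theorem exists_away_isRegular_of_quasiRegular (H : Hyp4848.{u}) (A : Type u) [CommRing A]
    (B : Type u) [CommRing B] [Algebra A B] [Algebra.FinitePresentation A B] [Module.Flat A B]
    (q : Ideal B) [q.IsPrime] (rs : List B) (hrs : CAlgX.IsQuasiRegular rs.get)
    (I : Ideal B) (hI : I = Ideal.ofList rs) [Module.Flat A (B ⧸ I)] (hIq : I ≤ q) :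
    ∃ g : B, g ∉ q ∧ ∀ (Bg : Type u) [CommRing Bg] [Algebra B Bg] [IsLocalization.Away g Bg],
      CInt.IsRegularIdeal (I.map (algebraMap B Bg)) := by
  classical
  set p : Ideal A := q.comap (algebraMap A B) with hp
  haveI : q.LiesOver p := ⟨rfl⟩
  let Qs : PrimeSpectrum (p.Fiber B) :=
    PrimeSpectrum.primesOverOrderIsoFiber A B p ⟨q, inferInstance, inferInstance⟩
  have hQ : Qs.asIdeal.comap (Groth.Agent.H94.FibLoc.inc (S := B) p) = q := by
    have h1 := (PrimeSpectrum.primesOverOrderIsoFiber A B p).symm_apply_apply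
      ⟨q, inferInstance, inferInstance⟩
    have h2 := congrArg Subtype.val h1
    rw [PrimeSpectrum.coe_primesOverOrderIsoFiber_symm_apply] at h2
    exact h2
  set Q : Ideal (p.Fiber B) := Qs.asIdeal with hQdef
  haveI : Q.IsPrime := Qs.2
  haveI : Algebra.FiniteType p.ResidueField (p.Fiber B) := inferInstance
  haveI : IsNoetherianRing (p.Fiber B) :=
    Algebra.FiniteType.isNoetherianRing p.ResidueField (p.Fiber B)
  haveI : IsNoetherianRing (Localization.AtPrime Q) :=
    IsLocalization.isNoetherianRing Q.primeCompl _ inferInstance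
  have hflat : Module.Flat A
      (Localization.AtPrime (Q.comap (Groth.Agent.H94.FibLoc.inc (S := B) p))) :=
    Module.Flat.trans A B _
  have hpp : (Q.comap (Groth.Agent.H94.FibLoc.inc (S := B) p)).comap (algebraMap A B) = p := by
    rw [hQ]
  -- the fibre sequence
  haveI hfl' : Module.Flat A (B ⧸ Ideal.span (Set.range rs.get)) := by
    rw [Groth.Agent.H39.RelRegAlg.span_range_get, ← hI]
    infer_instance
  have hqr0 := Groth.Agent.H19.QuasiRegBC.main (A := A) rs.get p.ResidueField
    ((Groth.Agent.H19.QReg.isQuasiRegular_iff rs.get).1 hrs)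
  have hqr : CAlgX.IsQuasiRegular (rs.map (Groth.Agent.H94.FibLoc.inc (S := B) p)).get :=
    Groth.Agent.H39.RelRegAlg.isQuasiRegular_get_of_eq_ofFn _
      ((Groth.Agent.H19.QReg.isQuasiRegular_iff _).2 hqr0) _
      (Groth.Agent.H39.RelRegAlg.map_eq_ofFn _ _)
  have hle : Ideal.ofList (rs.map (Groth.Agent.H94.FibLoc.inc (S := B) p)) ≤ Q := by
    rw [← Ideal.map_ofList, ← hI, Ideal.map_le_iff_le_comap, hQ]
    exact hIq
  have hreg := Groth.Agent.H39.QRLocal.isRegularIdeal_map_atPrime_of_quasiRegular Q
    (Localization.AtPrime Q) (rs.map (Groth.Agent.H94.FibLoc.inc (S := B) p)) hqr hle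
  obtain ⟨rs', hrs', hgen'⟩ := hreg
  obtain ⟨g, hg, h1⟩ := regAt_of_fibre_regular_gen H A B
    (Q.comap (Groth.Agent.H94.FibLoc.inc (S := B) p)) hflat I (by rw [hQ]; exact hIq)
    (by rw [hI]; exact ⟨rs.toFinset, by rw [Ideal.ofList]; congr 1; ext; simp⟩)
    (Localization.AtPrime Q)
    (Groth.Agent.H94.FibLoc.sigma p Q) (Groth.Agent.H94.FibLoc.sigma_surjective p Q)
    (by rw [Groth.Agent.H94.FibLoc.ker_sigma, hpp])
    ⟨rs', hrs', by
      rw [Groth.Agent.H94.FibLoc.sigma_comp, ← Ideal.map_map, hgen', hI, Ideal.map_ofList]⟩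
  exact ⟨g, by rwa [hQ] at hg, h1⟩

end Groth.Agent.H39.RelQuasiReg
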