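import Mathlib
import Groth.Agent.H94.KoszulFC
import Groth.Agent.H39.QRLocal
import Groth.Agent.H39.RelRegAlg
import Groth.Agent.H19.QuasiRegBC
import Groth.Agent.H39.RelQuasiReg

set_option autoImplicit false
set_option linter.unusedSectionVars false
set_option linter.style.haveILetI false
universe u

namespace Groth.Agent.H39.RelQuasiReg3

open RingTheory.Sequence IsLocalRing Groth.Agent.H47.CI Groth.Agent.H47.CMSlice
  Groth.Agent.H49.FlatApprox Groth.Agent.H47.TransReg Groth.Agent.H94.KAt TensorProduct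
  Groth.Agent.H94.KoszulFC

theorem flat_atPrime_congr {A B : Type u} [CommRing A] [CommRing B] [Algebra A B]
    (q₁ q₂ : Ideal B) [q₁.IsPrime] [q₂.IsPrime] (h : q₁ = q₂)
    (hf : Module.Flat A (Localization.AtPrime q₁)) : Module.Flat A (Localization.AtPrime q₂) := by
  subst h
  exact hf

/-- **T1**: over a flat finitely presented algebra, an ideal generated by a quasi-regular sequence
with flat quotient is generated by a regular sequence near every prime containing it. -/
theorem exists_away_isRegular_of_quasiRegular' (H : Hyp4848.{u}) (A : Type u) [CommRing A]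
    (B : Type u) [CommRing B] [Algebra A B] [Algebra.FinitePresentation A B]
    (q : Ideal B) [q.IsPrime] (hflatq : Module.Flat A (Localization.AtPrime q)) (rs : List B) (hrs : CAlgX.IsQuasiRegular rs.get)
    (I : Ideal B) (hI : I = Ideal.ofList rs) [Module.Flat A (B ⧸ I)] (hIq : I ≤ q) :
    ∃ g : B, g ∉ q ∧ ∀ (Bg : Type u) [CommRing Bg] [Algebra B Bg] [IsLocalization.Away g Bg],
      CInt.IsRegularIdeal (I.map (algebraMap B Bg)) := by
  classical
  set p : Ideal A := q.comap (algebraMap A B) with hp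
  haveI : q.LiesOver p := ⟨rfl⟩
  let Qs : PrimeSpectrum (p.Fiber B) :=
    PrimeSpectrum.primesOverOrderIsoFiber A B p ⟨q, inferInstance, inferInstance⟩
  have hQ : Qs.asIdeal.comap (Groth.Agent.H94.FibLoc.inc (S := B) p) = q := by
    have h1 := (PrimeSpectrum.primesOverOrderIsoFiber A B p).symm_apply_apply
      ⟨q, inferInstance, inferInstance⟩
    have h2 := congrArg Subtype.val h1
    rw [PrimeSpectrum.coe_primesOverOrderIsoFiber_symm_apply] at h2
    exact h2
  set Q : Ideal (p.Fiber B) := Qs.asIdeal with hQdef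
  haveI : Q.IsPrime := Qs.2
  haveI : Algebra.FiniteType p.ResidueField (p.Fiber B) := inferInstance
  haveI : IsNoetherianRing (p.Fiber B) :=
    Algebra.FiniteType.isNoetherianRing p.ResidueField (p.Fiber B)
  haveI : IsNoetherianRing (Localization.AtPrime Q) :=
    IsLocalization.isNoetherianRing Q.primeCompl _ inferInstance
  have hflat : Module.Flat A
      (Localization.AtPrime (Q.comap (Groth.Agent.H94.FibLoc.inc (S := B) p))) :=
    flat_atPrime_congr q _ hQ.symm hflatq
  have hpp : (Q.comap (Groth.Agent.H94.FibLoc.inc (S := B) p)).comap (algebraMap A B) = p := by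
    rw [hQ]
  -- the fibre sequence
  haveI hfl' : Module.Flat A (B ⧸ Ideal.span (Set.range rs.get)) := by
    rw [Groth.Agent.H39.RelRegAlg.span_range_get, ← hI]
    infer_instance
  have hqr0 := Groth.Agent.H19.QuasiRegBC.main (A := A) rs.get p.ResidueField
    ((Groth.Agent.H19.QReg.isQuasiRegular_iff rs.get).1 hrs)
  have hqr : CAlgX.IsQuasiRegular (rs.map (Groth.Agent.H94.FibLoc.inc (S := B) p)).get :=
    Groth.Agent.H39.RelRegAlg.isQuasiRegular_get_of_eq_ofFn _
      ((Groth.Agent.H19.QReg.isQuasiRegular_iff _).2 hqr0) _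
      (Groth.Agent.H39.RelRegAlg.map_eq_ofFn _ _)
  have hle : Ideal.ofList (rs.map (Groth.Agent.H94.FibLoc.inc (S := B) p)) ≤ Q := by
    rw [← Ideal.map_ofList, ← hI, Ideal.map_le_iff_le_comap, hQ]
    exact hIq
  have hreg := Groth.Agent.H39.QRLocal.isRegularIdeal_map_atPrime_of_quasiRegular Q
    (Localization.AtPrime Q) (rs.map (Groth.Agent.H94.FibLoc.inc (S := B) p)) hqr hle
  obtain ⟨rs', hrs', hgen'⟩ := hreg
  obtain ⟨g, hg, h1⟩ := Groth.Agent.H39.RelQuasiReg.regAt_of_fibre_regular_gen H A B
    (Q.comap (Groth.Agent.H94.FibLoc.inc (S := B) p)) hflat I (by rw [hQ]; exact hIq)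
    (by rw [hI]; exact ⟨rs.toFinset, by rw [Ideal.ofList]; congr 1; ext; simp⟩)
    (Localization.AtPrime Q)
    (Groth.Agent.H94.FibLoc.sigma p Q) (Groth.Agent.H94.FibLoc.sigma_surjective p Q)
    (by rw [Groth.Agent.H94.FibLoc.ker_sigma, hpp])
    ⟨rs', hrs', by
      rw [Groth.Agent.H94.FibLoc.sigma_comp, ← Ideal.map_map, hgen', hI, Ideal.map_ofList]⟩
  exact ⟨g, by rwa [hQ] at hg, h1⟩

end Groth.Agent.H39.RelQuasiReg3
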