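import Mathlib
import Groth.Prelude.Def_RegImm
import Groth.Agent.H39.RelQuasiReg
import Groth.Agent.H39.RelRegGeom
import Groth.Agent.H39.ImmCompChart
import Groth.Agent.S4848

set_option autoImplicit false
set_option linter.style.haveILetI false
universe u

open AlgebraicGeometry CategoryTheory CategoryTheory.Limits

namespace Groth.Agent.H39.RelQuasiRegGeom

open Groth.Agent.H39.RegImmStalk3 Groth.Agent.H39.RelRegAlg Groth.Agent.H39.RelRegGeom
  Groth.Agent.H39.ImmCompChart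

theorem hyp4848 : Groth.Agent.H49.FlatApprox.Hyp4848.{u} := by
  intro A₀ _ ι _ G _ _ g A _ _ _ _ hcolim B₀ _ _ _ M₀ _ _ _ _ _
  exact Groth.Agent.S4848.result G g A hcolim (B₀ := B₀) M₀

/-- A relative quasi-regular immersion into a flat, locally finitely presented `S`-scheme is a
regular immersion at every point. -/
theorem isRegularImmersionAt_of_relQuasi {Z X S : Scheme.{u}} (f : X ⟶ S) [Flat f]
    [LocallyOfFinitePresentation f] (i : Z ⟶ X)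
    (hi : RegImm.IsRelRegularImmersion RegImm.Kind.quasi f i) (z : Z) :
    RegImm.IsRegularImmersionAt RegImm.Kind.regular i z := by
  obtain ⟨⟨himm, hreg⟩, hflat⟩ := hi
  haveI := himm
  haveI := hflat
  obtain ⟨U, hzU, hcl, rs, hrs, hker⟩ := hreg z
  haveI := hcl
  obtain ⟨_, ⟨V, hV, rfl⟩, hsV, -⟩ := S.isBasis_affineOpens.exists_subset_of_mem_open
    (Set.mem_univ (f (i z))) isOpen_univ
  obtain ⟨h, hhle, hxh⟩ := U.2.exists_basicOpen_le (V := U.1 ⊓ f ⁻¹ᵁ V)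
    ⟨i z, ⟨hzU, hsV⟩⟩ hzU
  set U₁ : X.Opens := X.basicOpen h with hU₁def
  have hU₁ : IsAffineOpen U₁ := U.2.basicOpen h
  have hU₁U : U₁ ≤ U.1 := X.basicOpen_le h
  have hU₁V : U₁ ≤ f ⁻¹ᵁ V := hhle.trans inf_le_right
  haveI := U.2.isLocalization_basicOpen h
  have hrs₁ : RegImm.Kind.quasi.Seq Γ(X, U₁) (rs.map (algebraMap Γ(X, U.1) Γ(X, U₁))) :=
    kindSeq_map_of_isLocalization (Submonoid.powers h) Γ(X, U₁) RegImm.Kind.quasi (Or.inr rfl)
      rs hrs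
  haveI hcl₁ : IsClosedImmersion (i ∣_ U₁) := isClosedImmersion_restrict_of_le i hU₁U
  have hker₁ := ker_app_of_le i hU₁U U.2 hU₁
  obtain ⟨hU₁', hsurj₁⟩ :=
    isAffineOpen_preimage_and_surjective_of_isClosedImmersion_restrict i U₁ hU₁
  have hid : (X.presheaf.map (homOfLE hU₁U).op).hom = algebraMap Γ(X, U.1) Γ(X, U₁) := rfl
  rw [hid, hker, Ideal.map_ofList] at hker₁
  have hle : i ⁻¹ᵁ U₁ ≤ (i ≫ f) ⁻¹ᵁ V := by
    intro w hw
    exact hU₁V hw
  have hfl0 : ((i ≫ f).appLE V (i ⁻¹ᵁ U₁) hle).hom.Flat :=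
    HasRingHomProperty.appLE (P := @Flat) (i ≫ f) inferInstance ⟨V, hV⟩
      ⟨i ⁻¹ᵁ U₁, hU₁'⟩ hle
  have hfl : ((i.app U₁).hom.comp (f.appLE V U₁ hU₁V).hom).Flat := by
    have h1 : (i ≫ f).appLE V (i ⁻¹ᵁ U₁) hle = f.appLE V U₁ hU₁V ≫ i.app U₁ := by
      rw [← Scheme.Hom.appLE_eq_app, Scheme.Hom.appLE_comp_appLE]
    rw [h1] at hfl0
    exact hfl0
  -- ring-level data
  letI : Algebra Γ(S, V) Γ(X, U₁) := (f.appLE V U₁ hU₁V).hom.toAlgebra
  haveI : Algebra.FinitePresentation Γ(S, V) Γ(X, U₁) :=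
    HasRingHomProperty.appLE (P := @LocallyOfFinitePresentation) f inferInstance ⟨V, hV⟩
      ⟨U₁, hU₁⟩ hU₁V
  haveI : Module.Flat Γ(S, V) Γ(X, U₁) :=
    HasRingHomProperty.appLE (P := @Flat) f inferInstance ⟨V, hV⟩ ⟨U₁, hU₁⟩ hU₁V
  set I : Ideal Γ(X, U₁) := RingHom.ker (i.app U₁).hom with hIdef
  haveI : Module.Flat Γ(S, V) (Γ(X, U₁) ⧸ I) := by
    let e0 : (Γ(X, U₁) ⧸ I) ≃+* Γ(Z, i ⁻¹ᵁ U₁) :=
      RingHom.quotientKerEquivOfSurjective hsurj₁
    have he0 : ∀ b : Γ(X, U₁), e0 (Ideal.Quotient.mk _ b) = (i.app U₁).hom b := fun b => rfl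
    letI : Algebra Γ(S, V) Γ(Z, i ⁻¹ᵁ U₁) :=
      ((i.app U₁).hom.comp (f.appLE V U₁ hU₁V).hom).toAlgebra
    haveI : Module.Flat Γ(S, V) Γ(Z, i ⁻¹ᵁ U₁) := hfl
    let el : (Γ(X, U₁) ⧸ I) ≃ₗ[Γ(S, V)] Γ(Z, i ⁻¹ᵁ U₁) :=
      { e0.toAddEquiv with
        map_smul' := by
          intro a x
          obtain ⟨b, rfl⟩ := Ideal.Quotient.mk_surjective x
          change e0 (a • Ideal.Quotient.mk _ b) = a • e0 (Ideal.Quotient.mk _ b)
          rw [Algebra.smul_def, Algebra.smul_def, map_mul, he0]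
          rfl }
    exact Module.Flat.of_linearEquiv el
  obtain ⟨g, hg, Hg⟩ := Groth.Agent.H39.RelQuasiReg.exists_away_isRegular_of_quasiRegular
    hyp4848 Γ(S, V) Γ(X, U₁) (hU₁.primeIdealOf ⟨i z, hxh⟩).asIdeal
    (rs.map (algebraMap Γ(X, U.1) Γ(X, U₁))) hrs₁ I hker₁
    (ker_app_le_primeIdealOf i z U₁ hU₁ hxh hU₁')
  haveI := hU₁.isLocalization_basicOpen g
  obtain ⟨rs₂, hrs₂, hrsI⟩ := Hg Γ(X, X.basicOpen g)
  have hU₂U₁ : X.basicOpen g ≤ U₁ := X.basicOpen_le g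
  have hcl₂ : IsClosedImmersion (i ∣_ X.basicOpen g) := isClosedImmersion_restrict_of_le i hU₂U₁
  have hker₂ := ker_app_of_le i hU₂U₁ hU₁ (hU₁.basicOpen g)
  refine ⟨X.affineBasicOpen (U := ⟨U₁, hU₁⟩) g, ?_, hcl₂, rs₂, hrs₂, ?_⟩
  · change i z ∈ X.basicOpen g
    letI := X.presheaf.algebra_section_stalk ⟨i z, hxh⟩
    haveI := hU₁.isLocalization_stalk ⟨i z, hxh⟩
    rw [Scheme.mem_basicOpen _ _ _ hxh]
    exact (IsLocalization.AtPrime.isUnit_to_map_iff (X.presheaf.stalk (i z))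
      (hU₁.primeIdealOf ⟨i z, hxh⟩).asIdeal g).mpr hg
  · change RingHom.ker (i.app (X.basicOpen g)).hom = _
    rw [hker₂]
    exact hrsI.symm

/-- **S8894, first part.** -/
theorem isRegularImmersion_of_relQuasi {Z X S : Scheme.{u}} (f : X ⟶ S) [Flat f]
    [LocallyOfFinitePresentation f] (i : Z ⟶ X)
    (hi : RegImm.IsRelRegularImmersion RegImm.Kind.quasi f i) :
    RegImm.IsRegularImmersion RegImm.Kind.regular i :=
  ⟨hi.1.1, fun z => isRegularImmersionAt_of_relQuasi f i hi z⟩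

/-- **S8894.** -/
theorem main {Z X S : Scheme.{u}} (f : X ⟶ S) [Flat f] [LocallyOfFinitePresentation f]
    (i : Z ⟶ X) (hi : RegImm.IsRelRegularImmersion RegImm.Kind.quasi f i) :
    RegImm.IsRegularImmersion RegImm.Kind.regular i ∧
      ∀ (S' : Scheme.{u}) (g : S' ⟶ S), RegImm.IsRegularImmersion RegImm.Kind.regular
        (pullback.snd i (pullback.fst f g)) := by
  refine ⟨isRegularImmersion_of_relQuasi f i hi, fun S' g => ?_⟩
  exact isRegularImmersion_of_relQuasi (pullback.snd f g) _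
    (relRegularImmersion_baseChange f i RegImm.Kind.quasi (Or.inr rfl) hi g)

end Groth.Agent.H39.RelQuasiRegGeom
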