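import Mathlib
import Groth.Agent.H94.KoszulFC
import Groth.Agent.H39.QRLocal
import Groth.Agent.H39.RelRegAlg
import Groth.Agent.H19.QuasiRegBC
import Groth.Agent.H39.RelQuasiReg

set_option autoImplicit false
set_option linter.unusedSectionVars false
set_option linter.style.haveILetI false
universe u

namespace Groth.Agent.H39.RelQuasiReg2

open RingTheory.Sequence IsLocalRing Groth.Agent.H47.CI Groth.Agent.H47.CMSlice
  Groth.Agent.H49.FlatApprox Groth.Agent.H47.TransReg Groth.Agent.H94.KAt TensorProduct
  Groth.Agent.H94.KoszulFC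

/-- **Fibre criterion, regular form**: `F` is a Noetherian local ring with a surjection
`σ : B_q → F` of kernel `p B_q`; if the image of `I` in `F` is generated by a regular sequence then
`I` is generated by a regular sequence on a principal open neighbourhood of `q`. -/
theorem regAt_of_fibre_regular_gen' (H : Hyp4848.{u}) (A : Type u) [CommRing A]
    (B : Type u) [CommRing B] [Algebra A B] [Algebra.FinitePresentation A B]
    (q : Ideal B) [q.IsPrime] (Bq : Type u) [CommRing Bq] [Algebra B Bq]
    [IsLocalization.AtPrime Bq q] [IsLocalRing Bq] [Algebra A Bq] [IsScalarTower A B Bq]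
    (hflat : Module.Flat A Bq)
    (I : Ideal B) (hIq : I ≤ q) (hIfg : I.FG) [Module.Flat A (B ⧸ I)]
    (F : Type u) [CommRing F] [IsLocalRing F] [IsNoetherianRing F]
    (σ : Bq →+* F) (hσ : Function.Surjective σ)
    (hker : RingHom.ker σ =
      (q.comap (algebraMap A B)).map (algebraMap A Bq))
    (hrs : ∃ rs : List F, IsRegular F rs ∧
      I.map (σ.comp (algebraMap B Bq)) = Ideal.ofList rs) :
    ∃ g : B, g ∉ q ∧ ∀ (Bg : Type u) [CommRing Bg] [Algebra B Bg] [IsLocalization.Away g Bg],
      CInt.IsRegularIdeal (I.map (algebraMap B Bg)) := by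
  set π : B →+* F := σ.comp (algebraMap B Bq) with hπ
  obtain ⟨hs, hmemI, hreg, hgen⟩ := exists_list_of_isRegular_noeth I F π hrs
  have hlistπ : (hs.map (algebraMap B Bq)).map σ = hs.map π := by
    rw [List.map_map]
    rfl
  have hregSeq : RegSeq ((q.comap (algebraMap A B)).map (algebraMap A Bq))
      (hs.map (algebraMap B Bq)) := by
    refine regSeq_of_map σ hσ _ _ hker.le ?_
    have h0 : ((q.comap (algebraMap A B)).map (algebraMap A Bq)).map σ
        = ⊥ := by
      rw [Ideal.map_eq_bot_iff_le_ker, hker]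
    rw [h0, hlistπ]
    exact regSeq_bot_of_isWeaklyRegular_self _ hreg.toIsWeaklyRegular
  have hle : I.map (algebraMap B Bq) ≤
      (Ideal.ofList hs).map (algebraMap B Bq) ⊔
        (q.comap (algebraMap A B)).map (algebraMap A Bq) := by
    have h1 : (I.map (algebraMap B Bq)).map σ =
        ((Ideal.ofList hs).map (algebraMap B Bq)).map σ := by
      rw [Ideal.map_map, Ideal.map_map, ← hπ, ← hgen, Ideal.map_ofList]
    calc I.map (algebraMap B Bq)
        ≤ ((I.map (algebraMap B Bq)).map σ).comap σ := Ideal.le_comap_map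
      _ = (Ideal.ofList hs).map (algebraMap B Bq) ⊔
            (q.comap (algebraMap A B)).map (algebraMap A Bq) := by
          rw [h1, Ideal.comap_map_of_surjective σ hσ, ← RingHom.ker_eq_comap_bot, hker]
  obtain ⟨g, hg, hw⟩ := exists_away_of_list H A B q Bq hflat I hIfg hs hmemI
    (fun h hh => hIq (hmemI h hh)) hregSeq hle
  refine ⟨g, hg, fun Bg _ _ _ => ?_⟩
  obtain ⟨hwr, hwgen⟩ := hw Bg
  refine ⟨hs.map (algebraMap B Bg), ⟨hwr, ?_⟩, hwgen⟩
  rw [hwgen, smul_eq_mul, Ideal.mul_top]
  intro htop
  have hdisj : Disjoint (Submonoid.powers g : Set B) (q : Set B) := by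
    rw [Set.disjoint_left]
    rintro x ⟨n, rfl⟩ hx
    exact hg (Ideal.IsPrime.mem_of_pow_mem inferInstance n hx)
  have hprime := IsLocalization.isPrime_of_isPrime_disjoint (Submonoid.powers g)
    Bg q inferInstance hdisj
  exact hprime.ne_top (top_le_iff.mp (htop.le.trans (Ideal.map_mono hIq)))


end Groth.Agent.H39.RelQuasiReg2
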