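import Mathlib
import Groth.Prelude.Def_RegImm
import Groth.Agent.H39.RelQuasiReg2
import Groth.Agent.H39.RelQuasiRegGeom
import Groth.Agent.H39.RegImmQuasi
import Groth.Agent.H49.FibreStalk
import Groth.Agent.H49.SliceScheme
import Groth.Agent.H49.CMChart

set_option autoImplicit false
set_option linter.style.haveILetI false
universe u

open AlgebraicGeometry CategoryTheory CategoryTheory.Limits

namespace Groth.Agent.H39.RelQuasiFibre

open Groth.Agent.H39.RegImmStalk3 Groth.Agent.H39.RelRegAlg Groth.Agent.H39.RelRegGeom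
  Groth.Agent.H39.ImmCompChart Groth.Agent.H49.FibreStalk Groth.Agent.H49.SliceScheme
  Groth.Agent.H39.RelQuasiRegGeom

/-- Kernel of the stalk map of a base-changed closed immersion, in charts. -/
theorem ker_stalkMap_of_isPullback {X Y S T : Scheme.{u}} {f : T ⟶ S} {g : Y ⟶ X} {iX : X ⟶ S}
    {iY : Y ⟶ T} (H : IsPullback g iY iX f) [IsClosedImmersion iX] (y : Y)
    (US : S.Opens) (hUS : IsAffineOpen US) (UT : T.Opens) (hUT : IsAffineOpen UT)
    (hUST : UT ≤ f ⁻¹ᵁ US) (hy : iY y ∈ UT) :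
    RingHom.ker (iY.stalkMap y).hom =
      (RingHom.ker (iX.app US).hom).map
        ((T.presheaf.germ UT (iY y) hy).hom.comp (f.appLE US UT hUST).hom) := by
  haveI : IsClosedImmersion iY :=
    MorphismProperty.of_isPullback (P := @IsClosedImmersion) H inferInstance
  haveI : IsClosedImmersion (iX ∣_ US) := inferInstance
  haveI : IsClosedImmersion (iY ∣_ UT) := inferInstance
  obtain ⟨hUT', hsurj⟩ :=
    isAffineOpen_preimage_and_surjective_of_isClosedImmersion_restrict iY UT hUT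
  rw [ker_stalkMap_eq_of_surjective iY y UT hUT hy hUT' hsurj,
    ker_app_of_isPullback H hUST hUS hUT, Ideal.map_map]


/-- **Fibrewise criterion**: a closed subscheme `T` of a flat, locally finitely presented
`S`-scheme `X`, with `T` flat and locally finitely presented over `S`, whose fibre over `s` is a
quasi-regular immersion, is a regular immersion at the points over `s`. -/
theorem isRegularImmersionAt_of_fibre {X S T : Scheme.{u}} (φ : X ⟶ S) [Flat φ]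
    [LocallyOfFinitePresentation φ] (ι : T ⟶ X) [IsClosedImmersion ι] [Flat (ι ≫ φ)]
    [LocallyOfFinitePresentation (ι ≫ φ)] (s : S)
    (hfib : RegImm.IsRegularImmersion RegImm.Kind.quasi (pullback.snd ι (φ.fiberι s)))
    (t' : ↥(pullback ι (φ.fiberι s))) :
    RegImm.IsRegularImmersionAt RegImm.Kind.regular ι (pullback.fst ι (φ.fiberι s) t') := by
  haveI : IsLocallyNoetherian (φ.fiber s) :=
    Groth.Agent.H49.CMChart.isLocallyNoetherian_fiber φ s
  have Hpb : IsPullback (pullback.fst ι (φ.fiberι s)) (pullback.snd ι (φ.fiberι s)) ι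
      (φ.fiberι s) := IsPullback.of_hasPullback _ _
  set t := pullback.fst ι (φ.fiberι s) t' with ht
  set x' := pullback.snd ι (φ.fiberι s) t' with hx'
  have hx : ι t = φ.fiberι s x' := by
    rw [ht, hx', ← Scheme.Hom.comp_apply, ← Scheme.Hom.comp_apply, pullback.condition]
  have hreg := (Groth.Agent.H39.RegImmQuasi.isRegularImmersion_regular_iff_quasi _).2 hfib
  obtain ⟨rs', hrs', hgen'⟩ :=
    isRegularIdeal_ker_stalkMap_of_isRegularImmersionAt _ t' (hreg.2 t')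
  -- charts
  obtain ⟨_, ⟨V, hV, rfl⟩, hsV, -⟩ := S.isBasis_affineOpens.exists_subset_of_mem_open
    (Set.mem_univ (φ (φ.fiberι s x'))) isOpen_univ
  obtain ⟨_, ⟨U, hU, rfl⟩, hxU, hUV⟩ := X.isBasis_affineOpens.exists_subset_of_mem_open
    (show φ.fiberι s x' ∈ φ ⁻¹ᵁ V from hsV) (φ ⁻¹ᵁ V).2
  obtain ⟨_, ⟨U', hU', rfl⟩, hx'U', hU'U⟩ :=
    (φ.fiber s).isBasis_affineOpens.exists_subset_of_mem_open
      (show x' ∈ (φ.fiberι s) ⁻¹ᵁ U from hxU) ((φ.fiberι s) ⁻¹ᵁ U).2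
  haveI hclU : IsClosedImmersion (ι ∣_ U) := inferInstance
  obtain ⟨hUι, hsurj⟩ :=
    isAffineOpen_preimage_and_surjective_of_isClosedImmersion_restrict ι U hU
  have hle : ι ⁻¹ᵁ U ≤ (ι ≫ φ) ⁻¹ᵁ V := by
    intro w hw
    exact hUV hw
  have hcomp : (ι ≫ φ).appLE V (ι ⁻¹ᵁ U) hle = φ.appLE V U hUV ≫ ι.app U := by
    rw [← Scheme.Hom.appLE_eq_app, Scheme.Hom.appLE_comp_appLE]
  have hfl : ((ι.app U).hom.comp (φ.appLE V U hUV).hom).Flat := by
    have hfl0 : ((ι ≫ φ).appLE V (ι ⁻¹ᵁ U) hle).hom.Flat :=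
      HasRingHomProperty.appLE (P := @Flat) (ι ≫ φ) inferInstance ⟨V, hV⟩ ⟨ι ⁻¹ᵁ U, hUι⟩ hle
    rw [hcomp] at hfl0
    exact hfl0
  have hfp : ((ι.app U).hom.comp (φ.appLE V U hUV).hom).FinitePresentation := by
    have hfp0 : ((ι ≫ φ).appLE V (ι ⁻¹ᵁ U) hle).hom.FinitePresentation :=
      HasRingHomProperty.appLE (P := @LocallyOfFinitePresentation) (ι ≫ φ) inferInstance
        ⟨V, hV⟩ ⟨ι ⁻¹ᵁ U, hUι⟩ hle
    rw [hcomp] at hfp0
    exact hfp0
  -- ring-level data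
  letI : Algebra Γ(S, V) Γ(X, U) := (φ.appLE V U hUV).hom.toAlgebra
  haveI : Algebra.FinitePresentation Γ(S, V) Γ(X, U) :=
    HasRingHomProperty.appLE (P := @LocallyOfFinitePresentation) φ inferInstance ⟨V, hV⟩
      ⟨U, hU⟩ hUV
  haveI : Module.Flat Γ(S, V) Γ(X, U) :=
    HasRingHomProperty.appLE (P := @Flat) φ inferInstance ⟨V, hV⟩ ⟨U, hU⟩ hUV
  set I : Ideal Γ(X, U) := RingHom.ker (ι.app U).hom with hIdef
  letI algC : Algebra Γ(S, V) Γ(T, ι ⁻¹ᵁ U) :=
    ((ι.app U).hom.comp (φ.appLE V U hUV).hom).toAlgebra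
  haveI : Module.Flat Γ(S, V) Γ(T, ι ⁻¹ᵁ U) := hfl
  haveI : Algebra.FinitePresentation Γ(S, V) Γ(T, ι ⁻¹ᵁ U) := hfp
  haveI : Module.Flat Γ(S, V) (Γ(X, U) ⧸ I) := by
    let e0 : (Γ(X, U) ⧸ I) ≃+* Γ(T, ι ⁻¹ᵁ U) := RingHom.quotientKerEquivOfSurjective hsurj
    have he0 : ∀ b : Γ(X, U), e0 (Ideal.Quotient.mk _ b) = (ι.app U).hom b := fun b => rfl
    let el : (Γ(X, U) ⧸ I) ≃ₗ[Γ(S, V)] Γ(T, ι ⁻¹ᵁ U) :=
      { e0.toAddEquiv with
        map_smul' := by
          intro a x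
          obtain ⟨b, rfl⟩ := Ideal.Quotient.mk_surjective x
          change e0 (a • Ideal.Quotient.mk _ b) = a • e0 (Ideal.Quotient.mk _ b)
          rw [Algebra.smul_def, Algebra.smul_def, map_mul, he0]
          rfl }
    exact Module.Flat.of_linearEquiv el
  have hIfg : I.FG := by
    let ψ : Γ(X, U) →ₐ[Γ(S, V)] Γ(T, ι ⁻¹ᵁ U) :=
      { (ι.app U).hom with commutes' := fun _ => rfl }
    exact Algebra.FinitePresentation.ker_fG_of_surjective ψ hsurj
  have hIq : I ≤ (hU.primeIdealOf ⟨φ.fiberι s x', hxU⟩).asIdeal := by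
    have hxU₂ : ι t ∈ U := by rw [hx]; exact hxU
    have h1 := ker_app_le_primeIdealOf ι t U hU hxU₂ hUι
    have e : (⟨ι t, hxU₂⟩ : U) = ⟨φ.fiberι s x', hxU⟩ := Subtype.ext hx
    rwa [e] at h1
  -- the stalk as a localization
  letI algA : Algebra Γ(X, U) (X.presheaf.stalk (φ.fiberι s x')) :=
    TopCat.Presheaf.algebra_section_stalk X.presheaf (⟨φ.fiberι s x', hxU⟩ : U)
  haveI := hU.isLocalization_stalk ⟨φ.fiberι s x', hxU⟩
  letI algR : Algebra Γ(S, V) (X.presheaf.stalk (φ.fiberι s x')) :=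
    ((X.presheaf.germ U (φ.fiberι s x') hxU).hom.comp (φ.appLE V U hUV).hom).toAlgebra
  haveI : IsScalarTower Γ(S, V) Γ(X, U) (X.presheaf.stalk (φ.fiberι s x')) :=
    IsScalarTower.of_algebraMap_eq' rfl
  haveI : Module.Flat Γ(X, U) (X.presheaf.stalk (φ.fiberι s x')) :=
    IsLocalization.flat _ (hU.primeIdealOf ⟨φ.fiberι s x', hxU⟩).asIdeal.primeCompl
  have hflat : Module.Flat Γ(S, V) (X.presheaf.stalk (φ.fiberι s x')) :=
    Module.Flat.trans Γ(S, V) Γ(X, U) _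
  obtain ⟨g, hg, Hg⟩ := Groth.Agent.H39.RelQuasiReg2.regAt_of_fibre_regular_gen' hyp4848
    Γ(S, V) Γ(X, U) (hU.primeIdealOf ⟨φ.fiberι s x', hxU⟩).asIdeal
    (X.presheaf.stalk (φ.fiberι s x')) hflat I hIq hIfg
    ((φ.fiber s).presheaf.stalk x') ((φ.fiberι s).stalkMap x').hom
    ((φ.fiberι s).stalkMap_surjective x')
    (by
      rw [ker_stalkMap_fiberι, fibreIdeal, fibreIdeal_eq φ _ hV hU hUV hxU, Ideal.map_map]
      rfl)
    ⟨rs', hrs', by
      rw [hgen', ker_stalkMap_of_isPullback Hpb t' U hU U' hU' hU'U hx'U',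
        germ_comp_appLE (φ.fiberι s) x' hU'U hx'U']
      rfl⟩
  haveI := hU.isLocalization_basicOpen g
  obtain ⟨rs₂, hrs₂, hrsI⟩ := Hg Γ(X, X.basicOpen g)
  have hU₂U : X.basicOpen g ≤ U := X.basicOpen_le g
  have hcl₂ : IsClosedImmersion (ι ∣_ X.basicOpen g) := inferInstance
  have hker₂ := ker_app_of_le ι hU₂U hU (hU.basicOpen g)
  refine ⟨X.affineBasicOpen (U := ⟨U, hU⟩) g, ?_, hcl₂, rs₂, hrs₂, ?_⟩
  · change ι t ∈ X.basicOpen g
    rw [hx, Scheme.mem_basicOpen _ _ _ hxU]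
    exact (IsLocalization.AtPrime.isUnit_to_map_iff (X.presheaf.stalk (φ.fiberι s x'))
      (hU.primeIdealOf ⟨φ.fiberι s x', hxU⟩).asIdeal g).mpr hg
  · change RingHom.ker (ι.app (X.basicOpen g)).hom = _
    rw [hker₂]
    exact hrsI.symm


/-- **S8896.** -/
theorem main {X S : Scheme.{u}} (φ : X ⟶ S) [Flat φ] [LocallyOfFinitePresentation φ]
    (𝓘 : X.IdealSheafData) [Flat (𝓘.subschemeι ≫ φ)]
    [LocallyOfFinitePresentation (𝓘.subschemeι ≫ φ)]
    (hfib : ∀ s : ↥S, RegImm.IsRegularImmersion RegImm.Kind.quasi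
      (pullback.snd 𝓘.subschemeι (φ.fiberι s))) :
    RegImm.IsRelRegularImmersion RegImm.Kind.quasi φ 𝓘.subschemeι := by
  refine ⟨⟨inferInstance, fun t => ?_⟩, inferInstance⟩
  obtain ⟨t', ht', -⟩ := Scheme.Pullback.exists_preimage_pullback (f := 𝓘.subschemeι)
    (g := φ.fiberι (φ (𝓘.subschemeι t))) t (φ.asFiber (𝓘.subschemeι t))
    (φ.fiberι_asFiber _).symm
  have h := isRegularImmersionAt_of_fibre φ 𝓘.subschemeι (φ (𝓘.subschemeι t)) (hfib _) t'
  rw [ht'] at h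
  obtain ⟨U, hzU, hcl, rs, hrs, hker⟩ := h
  refine ⟨U, hzU, hcl, rs, ?_, hker⟩
  exact Groth.Agent.H19.QReg.isQuasiRegular_of_isWeaklyRegular rs.get
    (by rw [List.ofFn_get]; exact hrs.toIsWeaklyRegular)

end Groth.Agent.H39.RelQuasiFibre
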