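import Mathlib
import Groth.Agent.H47.RegSmoothField
import Groth.Agent.H46.RegularDeriv

set_option autoImplicit false
set_option linter.style.haveILetI false
set_option linter.unusedSectionVars false
universe u
open TensorProduct IsLocalRing CategoryTheory AlgebraicGeometry

namespace Groth.Agent.H39.SectionSmooth

/-- A regular local ring, essentially of finite type over a field `k`, whose residue field is
geometrically reduced (= separable) over `k`, is formally smooth over `k`. -/
theorem formallySmooth_of_isRegularLocalRing_of_essFiniteType (k F : Type u) [Field k]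
    [CommRing F] [Algebra k F] [Algebra.EssFiniteType k F] [IsRegularLocalRing F]
    [Algebra.IsGeometricallyReduced k (ResidueField F)] : Algebra.FormallySmooth k F := by
  let S₀ := Algebra.EssFiniteType.subalgebra k F
  let q : Ideal S₀ := (maximalIdeal F).comap (algebraMap S₀ F)
  have hq : q.IsPrime := Ideal.comap_isPrime _ _
  have hloc : IsLocalization.AtPrime F q := by
    have h := Algebra.EssFiniteType.isLocalization (R := k) (S := F)
    have heq : Algebra.EssFiniteType.submonoid k F = q.primeCompl := by
      ext x
      change IsUnit (algebraMap S₀ F x) ↔ x ∉ q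
      rw [Ideal.mem_comap, mem_maximalIdeal, mem_nonunits_iff, not_not]
    rw [heq] at h
    exact h
  let e : Localization.AtPrime q ≃ₐ[S₀] F := IsLocalization.algEquiv q.primeCompl _ _
  have : IsRegularLocalRing (Localization.AtPrime q) :=
    IsRegularLocalRing.of_ringEquiv e.symm.toRingEquiv
  let e' : Localization.AtPrime q ≃ₐ[k] F := e.restrictScalars k
  have hloc' : IsLocalHom e'.toRingEquiv.toRingHom := by
    constructor
    intro a ha
    have := ha.map e'.symm.toRingEquiv.toRingHom
    simpa using this
  let ρ : q.ResidueField →ₐ[k] ResidueField F :=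
    { IsLocalRing.ResidueField.map e'.toRingEquiv.toRingHom with
      commutes' := fun c => by
        change IsLocalRing.ResidueField.map e'.toRingEquiv.toRingHom
          (residue _ (algebraMap k (Localization.AtPrime q) c)) = _
        rw [IsLocalRing.ResidueField.map_residue]
        change residue _ (e' (algebraMap k _ c)) = _
        rw [e'.commutes]
        rfl }
  have : Algebra.IsGeometricallyReduced k q.ResidueField :=
    Algebra.IsGeometricallyReduced.of_injective ρ ρ.toRingHom.injective
  have hsm : Algebra.FormallySmooth k (Localization.AtPrime q) :=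
    Groth.Agent.H47.RSF.isSmoothAt_of_isRegularLocalRing k S₀ q
  exact Algebra.FormallySmooth.of_equiv e'


/-- A field is geometrically reduced over itself. -/
theorem isGeometricallyReduced_self (k : Type u) [Field k] : Algebra.IsGeometricallyReduced k k := by
  rw [Algebra.isGeometricallyReduced_field_iff]
  exact isReduced_of_injective (Algebra.TensorProduct.rid k k (AlgebraicClosure k)).toAlgHom
    (Algebra.TensorProduct.rid k k (AlgebraicClosure k)).injective

section retraction

variable (A B A' : Type u) [CommRing A] [CommRing B] [CommRing A']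
  [IsLocalRing A] [IsDomain A] [IsPrincipalIdealRing A] [IsRegularLocalRing B] [IsLocalRing A']
  [Algebra A B] [IsLocalHom (algebraMap A B)]
  (ρ : B →+* A') [IsLocalHom ρ] (hρ : Function.Bijective (ρ.comp (algebraMap A B)))

include hρ in
/-- With a local retraction, the image of a nonzero generator of `m_A` is not in `m_B ^ 2`. -/
theorem algebraMap_notMem_sq (π : A) (hπ : maximalIdeal A = Ideal.span {π}) (hπ0 : π ≠ 0) :
    algebraMap A B π ∉ maximalIdeal B ^ 2 := by
  intro hmem
  let θ : A ≃+* A' := RingEquiv.ofBijective (ρ.comp (algebraMap A B)) hρ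
  have h1 : ρ (algebraMap A B π) ∈ maximalIdeal A' ^ 2 := by
    have : (maximalIdeal B ^ 2).map ρ ≤ maximalIdeal A' ^ 2 := by
      rw [Ideal.map_pow]
      exact Ideal.pow_right_mono (((local_hom_TFAE ρ).out 0 2 rfl rfl).mp ‹_›) 2
    exact this (Ideal.mem_map_of_mem ρ hmem)
  have h2 : maximalIdeal A' = (maximalIdeal A).map (θ : A →+* A') := by
    have hloc : IsLocalHom (θ : A →+* A') := by
      constructor
      intro a ha
      have := ha.map (θ.symm : A' →+* A)
      simpa using this
    exact (map_maximalIdeal_of_surjective (θ : A →+* A') θ.surjective).symm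
  have h3 : θ π ∈ ((maximalIdeal A) ^ 2).map (θ : A →+* A') := by
    rw [Ideal.map_pow, ← h2]
    exact h1
  have h4 : π ∈ maximalIdeal A ^ 2 := by
    have := Ideal.mem_map_of_mem (θ.symm : A' →+* A) h3
    rw [Ideal.map_map] at this
    simpa using this
  rw [hπ, Ideal.span_singleton_pow, Ideal.mem_span_singleton] at h4
  obtain ⟨c, hc⟩ := h4
  have h5 : π * (1 - π * c) = 0 := by rw [mul_sub, mul_one, ← mul_assoc, ← pow_two, ← hc, sub_self]
  rcases mul_eq_zero.mp h5 with h | h
  · exact hπ0 h
  · have hπm : π ∈ maximalIdeal A := hπ ▸ Ideal.mem_span_singleton_self π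
    have hu : IsUnit (1 - π * c) := by
      have : π * c ∈ maximalIdeal A := Ideal.mul_mem_right _ _ hπm
      have h6 := (mem_maximalIdeal _).mp this
      rcases IsLocalRing.isUnit_or_isUnit_of_add_one (a := π * c) (b := 1 - π * c) (by ring) with h7 | h7
      · exact absurd h7 h6
      · exact h7
    rw [h] at hu
    exact not_isUnit_zero hu

include hρ in
/-- With a local retraction, the residue field extension is trivial. -/
theorem exists_sub_mem_maximalIdeal (b : B) : ∃ a : A, b - algebraMap A B a ∈ maximalIdeal B := by
  obtain ⟨a, ha⟩ := hρ.2 (ρ b)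
  refine ⟨a, ?_⟩
  rw [mem_maximalIdeal, mem_nonunits_iff]
  intro hu
  have h1 := hu.map ρ
  rw [map_sub] at h1
  have h2 : ρ (algebraMap A B a) = ρ b := ha
  rw [h2, sub_self] at h1
  exact not_isUnit_zero h1


include hρ in
/-- `A` a local PID domain (a DVR or a field), `B` a regular local `A`-algebra essentially of finite
type, with a local retraction. Then the closed fibre is formally smooth over the residue field. -/
theorem formallySmooth_fibre [Algebra.EssFiniteType A B] :
    Algebra.FormallySmooth (ResidueField A) (ResidueField A ⊗[A] B) := by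
  let I : Ideal B := (maximalIdeal A).map (algebraMap A B)
  let e₀ : (B ⧸ I) ≃+* (ResidueField A ⊗[A] B) :=
    (Algebra.TensorProduct.quotIdealMapEquivQuotTensor B (maximalIdeal A)).toRingEquiv
  have hreg : IsRegularLocalRing (B ⧸ I) := by
    obtain ⟨π, hπ⟩ := (IsPrincipalIdealRing.principal (maximalIdeal A)).principal
    have hπ' : maximalIdeal A = Ideal.span {π} := hπ
    have hI : I = Ideal.span {algebraMap A B π} := by
      simp only [I, hπ', Ideal.map_span, Set.image_singleton]
    by_cases hπ0 : π = 0
    · have : I = ⊥ := by rw [hI, hπ0, map_zero]; simp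
      rw [this]
      exact IsRegularLocalRing.of_ringEquiv (RingEquiv.quotientBot B).symm
    · rw [hI]
      apply Groth.Agent.H46.isRegularLocalRing_quotient_of_not_mem_sq
      · have hπm : π ∈ maximalIdeal A := hπ' ▸ Ideal.mem_span_singleton_self π
        exact ((local_hom_TFAE (algebraMap A B)).out 0 2 rfl rfl).mp ‹_›
          (Ideal.mem_map_of_mem _ hπm)
      · exact algebraMap_notMem_sq A B A' ρ hρ π hπ' hπ0
  have hregF : IsRegularLocalRing (ResidueField A ⊗[A] B) :=
    IsRegularLocalRing.of_ringEquiv e₀
  have hsurj : Function.Surjective (algebraMap (ResidueField A)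
      (ResidueField (ResidueField A ⊗[A] B))) := by
    intro x
    obtain ⟨y, rfl⟩ := residue_surjective x
    obtain ⟨z, rfl⟩ := e₀.surjective y
    obtain ⟨b, rfl⟩ := Ideal.Quotient.mk_surjective z
    obtain ⟨a, ha⟩ := exists_sub_mem_maximalIdeal A B A' ρ hρ b
    refine ⟨residue A a, ?_⟩
    have h1 : e₀ (Ideal.Quotient.mk I b) = (1 : ResidueField A) ⊗ₜ[A] b :=
      Algebra.TensorProduct.quotIdealMapEquivQuotTensor_mk B (maximalIdeal A) b
    rw [h1]
    have h2 : (1 : ResidueField A) ⊗ₜ[A] b =
        (1 : ResidueField A) ⊗ₜ[A] (b - algebraMap A B a) +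
          algebraMap (ResidueField A) (ResidueField A ⊗[A] B) (residue A a) := by
      rw [Algebra.TensorProduct.algebraMap_apply, Algebra.algebraMap_self, RingHom.id_apply,
        TensorProduct.tmul_sub, Algebra.algebraMap_eq_smul_one a, TensorProduct.tmul_smul]
      have h4 : a • ((1 : ResidueField A) ⊗ₜ[A] (1 : B)) = (residue A a) ⊗ₜ[A] (1 : B) := by
        rw [TensorProduct.smul_tmul', Algebra.smul_def, mul_one]
        rfl
      rw [h4, sub_add_cancel]
    have hloc : IsLocalHom (Algebra.TensorProduct.includeRight :
        B →ₐ[A] ResidueField A ⊗[A] B).toRingHom := by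
      apply IsLocalHom.of_surjective
      intro y
      obtain ⟨z, rfl⟩ := e₀.surjective y
      obtain ⟨b', rfl⟩ := Ideal.Quotient.mk_surjective z
      exact ⟨b', (Algebra.TensorProduct.quotIdealMapEquivQuotTensor_mk B (maximalIdeal A) b').symm⟩
    have h3 : residue (ResidueField A ⊗[A] B)
        ((1 : ResidueField A) ⊗ₜ[A] (b - algebraMap A B a)) = 0 := by
      rw [residue_eq_zero_iff]
      exact ((local_hom_TFAE (Algebra.TensorProduct.includeRight :
        B →ₐ[A] ResidueField A ⊗[A] B).toRingHom).out 0 2 rfl rfl).mp hloc
          (Ideal.mem_map_of_mem _ ha)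
    rw [h2, map_add, h3, zero_add]
    rfl
  have hbij : Function.Bijective (algebraMap (ResidueField A)
      (ResidueField (ResidueField A ⊗[A] B))) :=
    ⟨(algebraMap (ResidueField A) (ResidueField (ResidueField A ⊗[A] B))).injective, hsurj⟩
  have := isGeometricallyReduced_self (ResidueField A)
  have hgr : Algebra.IsGeometricallyReduced (ResidueField A)
      (ResidueField (ResidueField A ⊗[A] B)) := by
    let ψ : ResidueField A ≃ₐ[ResidueField A] ResidueField (ResidueField A ⊗[A] B) :=
      AlgEquiv.ofBijective (Algebra.ofId _ _) hbij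
    exact Algebra.IsGeometricallyReduced.of_injective ψ.symm.toAlgHom ψ.symm.injective
  exact formallySmooth_of_isRegularLocalRing_of_essFiniteType _ _

end retraction

local notation "𝓀[" R "]" => ResidueField R

open Algebra in
/-- Smoothness at a prime from flatness of the local homomorphism and formal smoothness of the
closed fibre of the local homomorphism. -/
theorem isSmoothAt_of_flat_local_of_fibre (A B : Type u) [CommRing A] [CommRing B]
    [Algebra A B] [Algebra.FinitePresentation A B]
    (p : Ideal A) (q : Ideal B) [p.IsPrime] [q.IsPrime] [q.LiesOver p]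
    (hflat : letI := Localization.AtPrime.algebraOfLiesOver p q
      Module.Flat (Localization.AtPrime p) (Localization.AtPrime q))
    (hfib : letI := Localization.AtPrime.algebraOfLiesOver p q
      Algebra.FormallySmooth 𝓀[Localization.AtPrime p]
        (𝓀[Localization.AtPrime p] ⊗[Localization.AtPrime p] Localization.AtPrime q)) :
    Algebra.IsSmoothAt A q := by
  let Rp := Localization.AtPrime p
  let Sp := Localization (algebraMapSubmonoid B p.primeCompl)
  let Sq := Localization.AtPrime q
  let := Localization.AtPrime.algebraOfLiesOver p q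
  let f : Sp →ₐ[B] Sq := IsLocalization.liftAlgHom (M := algebraMapSubmonoid B p.primeCompl)
        (f := Algebra.ofId _ _) (by
      rintro ⟨_, x, hx, rfl⟩
      simpa using! IsLocalization.map_units (M := q.primeCompl) Sq ⟨algebraMap _ _ x,
        by simp_all [q.over_def p]⟩)
  algebraize [f.toRingHom]
  have : IsScalarTower A Sp Sq := .to₁₃₄ _ B _ _
  have : IsScalarTower Rp Sp Sq := .of_algebraMap_eq' <| by
    apply IsLocalization.ringHom_ext p.primeCompl
    simp only [RingHom.comp_assoc, ← IsScalarTower.algebraMap_eq]
  have : IsLocalization (algebraMapSubmonoid Sp q.primeCompl) Sq :=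
    .isLocalization_of_submonoid_le _ _ (algebraMapSubmonoid B p.primeCompl) _
    (by rintro _ ⟨x, hx, rfl⟩; simp_all [q.over_def p])
  have : FinitePresentation Rp Sp := by
    have : Algebra.IsPushout A Rp B Sp :=
      .symm <| Algebra.isPushout_of_isLocalization p.primeCompl _ _ _
    exact .equiv (Algebra.IsPushout.equiv A Rp B Sp)
  have hflat' : Module.Flat Rp Sq := hflat
  have hloc : IsLocalHom (algebraMap Rp Sq) :=
    Localization.isLocalHom_localRingHom _ _ _ Ideal.LiesOver.over
  have : FormallySmooth 𝓀[Rp] (𝓀[Rp] ⊗[Rp] Sq) := hfib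
  have := FormallySmooth.of_formallySmooth_residueField_tensor
    (R := Rp) (S := Sq) (P := Sp) (algebraMapSubmonoid _ q.primeCompl)
  exact .comp A Rp Sq


/-- Let `R` be a Dedekind domain and `p : X → Spec R` flat and locally of finite presentation with
`X` regular. Then every section of `p` factors through the smooth locus of `p`. -/
theorem section_mem_smoothLocus {R : Type u} [CommRing R] [IsDedekindDomain R]
    {X : Scheme.{u}} (p : X ⟶ Spec (CommRingCat.of R)) [Flat p] [LocallyOfFinitePresentation p]
    (hreg : ∀ x : X, IsRegularLocalRing (X.presheaf.stalk x))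
    (s : Spec (CommRingCat.of R) ⟶ X) (hs : s ≫ p = 𝟙 _) (t : Spec (CommRingCat.of R)) :
    s t ∈ p.smoothLocus := by
  set x := s t with hx
  let V : (Spec (CommRingCat.of R)).Opens := ⊤
  have hV : IsAffineOpen V := isAffineOpen_top _
  obtain ⟨_, ⟨W, hW, rfl⟩, hxW, -⟩ :=
    X.isBasis_affineOpens.exists_subset_of_mem_open (Set.mem_univ x) isOpen_univ
  have hWV : W ≤ p ⁻¹ᵁ V := le_top
  have hfp := p.finitePresentation_appLE hV hW hWV
  algebraize [(p.appLE V W hWV).hom]
  rw [Scheme.Hom.mem_smoothLocus, formallySmooth_stalkMap_iff V hV W hW hWV hxW]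
  let q := (hW.primeIdealOf ⟨x, hxW⟩).asIdeal
  let P := (hV.primeIdealOf ⟨p x, hWV hxW⟩).asIdeal
  have hqP : q.LiesOver P :=
    ⟨congr($(IsAffineOpen.comap_primeIdealOf_appLE V hV W hW hWV hxW).1).symm⟩
  let := Localization.AtPrime.algebraOfLiesOver P q
  -- the arrow iso
  let α := IsAffineOpen.arrowStalkMapIso p V hV W hW hWV hxW
  -- flatness
  have hflat : Module.Flat (Localization.AtPrime P) (Localization.AtPrime q) := by
    have h2 : (algebraMap (Localization.AtPrime P) (Localization.AtPrime q)).Flat :=
      (RingHom.Flat.respectsIso.arrow_mk_iso_iff α).mp (Flat.stalkMap p x)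
    exact h2
  -- regularity of the source local ring
  let := X.presheaf.algebra_section_stalk ⟨x, hxW⟩
  have hst := hW.isLocalization_stalk ⟨x, hxW⟩
  have hregB : IsRegularLocalRing (Localization.AtPrime q) := by
    have := hreg x
    exact IsRegularLocalRing.of_ringEquiv
      (IsLocalization.algEquiv q.primeCompl (X.presheaf.stalk x)
        (Localization.AtPrime q)).toRingEquiv
  -- the base local ring is a local PID domain
  let := (Spec (CommRingCat.of R)).presheaf.algebra_section_stalk (⟨p x, hWV hxW⟩ : V)
  have hstV := hV.isLocalization_stalk ⟨p x, hWV hxW⟩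
  let e₁ : Localization.AtPrime P ≃+* (Spec (CommRingCat.of R)).presheaf.stalk (p x) :=
    (IsLocalization.algEquiv P.primeCompl (Localization.AtPrime P)
      ((Spec (CommRingCat.of R)).presheaf.stalk (p x))).toRingEquiv
  let e₂ : Localization.AtPrime (p x).asIdeal ≃+*
      (Spec (CommRingCat.of R)).presheaf.stalk (p x) :=
    (StructureSheaf.stalkIso R (p x)).toRingEquiv
  let e₃ : Localization.AtPrime P ≃+* Localization.AtPrime (p x).asIdeal := e₁.trans e₂.symm
  have hdom : IsDomain (Localization.AtPrime P) := e₃.toMulEquiv.isDomain_iff.mpr inferInstance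
  have hpid : IsPrincipalIdealRing (Localization.AtPrime P) :=
    IsPrincipalIdealRing.of_surjective e₃.symm.toRingHom e₃.symm.surjective
  have hess : Algebra.EssFiniteType (Localization.AtPrime P) (Localization.AtPrime q) :=
    .of_comp Γ(Spec (CommRingCat.of R), V) _ _
  have hlocφ : IsLocalHom (algebraMap (Localization.AtPrime P) (Localization.AtPrime q)) :=
    Localization.isLocalHom_localRingHom _ _ _ Ideal.LiesOver.over
  -- the retraction coming from the section
  have hiso : IsIso (s ≫ p) := by rw [hs]; infer_instance
  let ρc : CommRingCat.of (Localization.AtPrime q) ⟶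
      (Spec (CommRingCat.of R)).presheaf.stalk t := α.inv.right ≫ s.stalkMap t
  have hρloc : IsLocalHom ρc.hom := by
    have h1 : IsLocalHom α.inv.right.hom := isLocalHom_of_isIso _
    have h2 : IsLocalHom (s.stalkMap t).hom := inferInstance
    change IsLocalHom ((s.stalkMap t).hom.comp α.inv.right.hom)
    infer_instance
  have hρbij : Function.Bijective
      (ρc.hom.comp (algebraMap (Localization.AtPrime P) (Localization.AtPrime q))) := by
    have hw := α.inv.w
    have h3 : α.inv.left ≫ (s ≫ p).stalkMap t =
        (CommRingCat.ofHom (algebraMap (Localization.AtPrime P) (Localization.AtPrime q))) ≫ ρc := by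
      rw [Scheme.Hom.stalkMap_comp]
      simp only [ρc, ← Category.assoc]
      congr 1
    have hA : IsIso α.inv.left := inferInstance
    have hB : IsIso ((s ≫ p).stalkMap t) := inferInstance
    have h4 : IsIso (α.inv.left ≫ (s ≫ p).stalkMap t) := IsIso.comp_isIso' hA hB
    rw [h3] at h4
    have h5 := ConcreteCategory.bijective_of_isIso
      ((CommRingCat.ofHom (algebraMap (Localization.AtPrime P) (Localization.AtPrime q))) ≫ ρc)
    exact h5
  have hfib := formallySmooth_fibre (Localization.AtPrime P) (Localization.AtPrime q)
    ((Spec (CommRingCat.of R)).presheaf.stalk t) ρc.hom hρbij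
  exact isSmoothAt_of_flat_local_of_fibre Γ(Spec (CommRingCat.of R), V) Γ(X, W) P q hflat hfib


end Groth.Agent.H39.SectionSmooth
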