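import Mathlib
import Groth.Agent.H39.SmoothSectionGeom

set_option autoImplicit false
set_option linter.style.haveILetI false
universe u

open AlgebraicGeometry CategoryTheory CategoryTheory.Limits

namespace Groth.Agent.H39.SmoothSectionMain

variable {X S : Scheme.{u}}

/-- A section of a smooth morphism which is a closed immersion is a regular closed immersion. -/
theorem section_of_smooth_isRegularClosedImmersion (f : X ⟶ S) [Smooth f] (σ : S ⟶ X)
    (hσ : σ ≫ f = 𝟙 S) [IsClosedImmersion σ] : Mor2.IsRegularClosedImmersion σ := by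
  refine ⟨inferInstance, fun z => ?_⟩
  obtain ⟨U, hU, hzU, rs, hw, -, hker⟩ :=
    SmoothSectionGeom.exists_regular_chart_of_section f σ hσ z
  refine ⟨U, hU, hzU, rs, ⟨hw, ?_⟩, hker⟩
  have hU' : IsAffineOpen (σ ⁻¹ᵁ U) := hU.preimage σ
  have hle := RegImmStalk3.ker_app_le_primeIdealOf σ z U hU hzU hU'
  have hk : σ.ker.ideal ⟨U, hU⟩ = RingHom.ker (σ.app U).hom := Scheme.Hom.ker_apply σ ⟨U, hU⟩
  intro htop
  have h1 : Ideal.ofList rs = ⊤ := by
    rw [Ideal.smul_top_eq_map] at htop
    have : (⊤ : Ideal Γ(X, U)) = Ideal.ofList rs := by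
      have h2 := htop
      simpa using h2
    exact this.symm
  rw [← hker, hk] at h1
  rw [h1] at hle
  exact (hU.primeIdealOf ⟨σ z, hzU⟩).isPrime.ne_top (top_le_iff.mp hle)

end Groth.Agent.H39.SmoothSectionMain
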