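import Mathlib
import Groth.Agent.H39.SmoothStalk
import Groth.Agent.H14.SerreLoc
import Groth.Agent.H26.SkTensor
import Groth.Agent.H26.CMFlat
import Groth.Agent.S9437
import Groth.Agent.S9438
import Groth.Agent.S1183
import Groth.Agent.S2086

/-!
# Serre's conditions `(S_n)`, `(R_n)` along a smooth point
-/

set_option autoImplicit false
set_option linter.style.haveILetI false
set_option linter.unusedSectionVars false
universe u

open AlgebraicGeometry CategoryTheory TensorProduct

namespace Groth.Agent.H39.SmoothSerre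

/-- a ring isomorphism makes the target faithfully flat over the source -/
theorem faithfullyFlat_of_ringEquiv {R R' : Type u} [CommRing R] [CommRing R'] (e : R ≃+* R') :
    letI := e.toRingHom.toAlgebra
    Module.FaithfullyFlat R R' := by
  letI := e.toRingHom.toAlgebra
  let l : R ≃ₗ[R] R' :=
    { e.toAddEquiv with
      map_smul' := fun r x => by
        change e (r * x) = e r * e x
        exact map_mul e r x }
  exact Module.FaithfullyFlat.of_linearEquiv (R := R) (M := R) (N := R') l.symm

theorem hasSk_of_ringEquiv (n : ℕ) {R R' : Type u} [CommRing R] [CommRing R'] (e : R ≃+* R')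
    (h : IsNoetherianRing R ∧ LocCoh.HasSk n R R) :
    IsNoetherianRing R' ∧ LocCoh.HasSk n R' R' := by
  letI := e.symm.toRingHom.toAlgebra
  haveI := faithfullyFlat_of_ringEquiv e.symm
  haveI := h.1
  exact Groth.Agent.S9437.result n R' R h.2

theorem hasRk_of_ringEquiv (n : ℕ) {R R' : Type u} [CommRing R] [CommRing R'] (e : R ≃+* R')
    (h : IsNoetherianRing R ∧ LocCoh.HasRk n R) :
    IsNoetherianRing R' ∧ LocCoh.HasRk n R' := by
  letI := e.symm.toRingHom.toAlgebra
  haveI := faithfullyFlat_of_ringEquiv e.symm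
  haveI := h.1
  exact Groth.Agent.S9438.result n R' R h.2

/-- `(S_n)` ascends to localizations of smooth algebras -/
theorem hasSk_localization_of_smooth (n : ℕ) (R T : Type u) [CommRing R] [CommRing T] [Algebra R T]
    [Algebra.Smooth R T] (Q : Ideal T) [Q.IsPrime]
    (h : IsNoetherianRing R ∧ LocCoh.HasSk n R R) :
    IsNoetherianRing (Localization.AtPrime Q) ∧
      LocCoh.HasSk n (Localization.AtPrime Q) (Localization.AtPrime Q) := by
  haveI := h.1
  haveI : IsNoetherianRing T := Algebra.FiniteType.isNoetherianRing R T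
  have hT : LocCoh.HasSk n T T := by
    refine Groth.Agent.S2086.result n h.2 (fun p _ => ?_)
    haveI : IsRegularRing p.ResidueField := inferInstance
    haveI : IsRegularRing (p.Fiber T) :=
      Groth.Agent.H47.isRegularRing_of_smooth p.ResidueField (p.Fiber T)
    exact Groth.Agent.H26.SkTensor.hasSk_of_isCohenMacaulayRing n _
      (Groth.Agent.H26.CMFlat.isCohenMacaulayRing_of_isRegularRing _)
  exact ⟨inferInstance, Groth.Agent.H14.hasSk_localization n T Q hT⟩

/-- `(R_n)` ascends to localizations of smooth algebras -/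
theorem hasRk_localization_of_smooth (n : ℕ) (R T : Type u) [CommRing R] [CommRing T] [Algebra R T]
    [Algebra.Smooth R T] (Q : Ideal T) [Q.IsPrime]
    (h : IsNoetherianRing R ∧ LocCoh.HasRk n R) :
    IsNoetherianRing (Localization.AtPrime Q) ∧ LocCoh.HasRk n (Localization.AtPrime Q) := by
  haveI := h.1
  haveI : IsNoetherianRing T := Algebra.FiniteType.isNoetherianRing R T
  have hT : LocCoh.HasRk n T := (Groth.Agent.S1183.result R T n).1 h.2
  exact ⟨inferInstance, Groth.Agent.H14.hasRk_localization n T Q hT⟩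

variable {X Y : Scheme.{u}}

/-- **Serre's conditions along a smooth point** (locally Noetherian base). -/
theorem hasSk_hasRk_stalk_iff (f : X ⟶ Y) [IsLocallyNoetherian Y] [LocallyOfFiniteType f] (x : X)
    (hx : ∃ U : X.Opens, x ∈ U ∧ Smooth (U.ι ≫ f)) (n : ℕ) :
    (LocCoh.HasSk n (X.presheaf.stalk x) (X.presheaf.stalk x) ↔
        LocCoh.HasSk n (Y.presheaf.stalk (f.base x)) (Y.presheaf.stalk (f.base x))) ∧
      (LocCoh.HasRk n (X.presheaf.stalk x) ↔ LocCoh.HasRk n (Y.presheaf.stalk (f.base x))) := by
  haveI : IsLocallyNoetherian X := LocallyOfFiniteType.isLocallyNoetherian f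
  have hsm := Groth.Agent.H39.SmoothStalk.mem_smoothLocus_of_smooth_nhd f x hx
  letI := (f.stalkMap x).hom.toAlgebra
  haveI := Groth.Agent.H39.SmoothStalk.faithfullyFlat_stalkMap_of_mem_smoothLocus f x hsm
  refine ⟨⟨fun h => ?_, fun h => ?_⟩, ⟨fun h => ?_, fun h => ?_⟩⟩
  · exact (Groth.Agent.S9437.result n (Y.presheaf.stalk (f.base x)) (X.presheaf.stalk x) h).2
  · exact (Groth.Agent.H39.SmoothStalk.stalk_ascent
      (fun R _ => IsNoetherianRing R ∧ LocCoh.HasSk n R R)
      (fun R R' _ _ e hR => hasSk_of_ringEquiv n e hR)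
      (fun R T _ _ _ _ Q _ hR => hasSk_localization_of_smooth n R T Q hR) f x hsm
      ⟨inferInstance, h⟩).2
  · exact (Groth.Agent.S9438.result n (Y.presheaf.stalk (f.base x)) (X.presheaf.stalk x) h).2
  · exact (Groth.Agent.H39.SmoothStalk.stalk_ascent
      (fun R _ => IsNoetherianRing R ∧ LocCoh.HasRk n R)
      (fun R R' _ _ e hR => hasRk_of_ringEquiv n e hR)
      (fun R T _ _ _ _ Q _ hR => hasRk_localization_of_smooth n R T Q hR) f x hsm
      ⟨inferInstance, h⟩).2

end Groth.Agent.H39.SmoothSerre
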