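import Mathlib
import Groth.Agent.H39.SplitConormalGeom
import Groth.Agent.H12.QCohAbelian
import Groth.Prelude.Def_RegImm

/-!
# Permanence of regular immersions under a split conormal sequence (helper39): S8675, S8920
-/

set_option autoImplicit false
set_option linter.style.haveILetI false
universe u

open CategoryTheory CategoryTheory.Limits AlgebraicGeometry TopologicalSpace Scheme.Modules

namespace Groth.Agent.H39.SplitConormalMain

open Groth.Agent.H44 Groth.Agent.H39.SplitConormalGeom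

/-- S8675. -/
theorem koszul_of_comp_of_split {X Y Z : Scheme.{u}}
    (i : Y ⟶ X) [IsClosedImmersion i] (j : Z ⟶ Y) [IsClosedImmersion j]
    (hi : RegImm.IsRegularImmersion .koszul i) (hij : RegImm.IsRegularImmersion .koszul (j ≫ i))
    (φ₁ : (Scheme.Modules.pullback j).obj (Omega.conormal i) ⟶ Omega.conormal (j ≫ i))
    (hφ₁ : OmegaSh.IsConormalMap (j ≫ i) i (𝟙 X) j φ₁)
    (hsplit : ∀ z : Z, ∃ (U : Z.Opens) (ρ : (Scheme.Modules.restrictFunctor U.ι).obj (Omega.conormal (j ≫ i)) ⟶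
        (Scheme.Modules.restrictFunctor U.ι).obj ((Scheme.Modules.pullback j).obj (Omega.conormal i))),
        z ∈ U ∧ (Scheme.Modules.restrictFunctor U.ι).map φ₁ ≫ ρ = 𝟙 _) :
    RegImm.IsRegularImmersion .koszul j := by
  refine ⟨inferInstance, fun z => ?_⟩
  obtain ⟨U, ρ, hzU, hρ⟩ := hsplit z
  exact isRegularImmersionAt_koszul_of_split φ₁ hφ₁ z U hzU
    (fun t htW => exists_retraction_sections φ₁ U ρ hρ _ htW) (hi.2 (j z)) (hij.2 z)

/-- S8920. -/
theorem permanence_of_split {Z Y X : Scheme.{u}} (i : Z ⟶ Y) (j : Y ⟶ X) [IsImmersion i]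
    [IsImmersion j] [QuasiCompact i] [QuasiCompact j]
    (a : (Scheme.Modules.pullback i).obj (Omega.conormal j) ⟶ Omega.conormal (i ≫ j))
    (ha : OmegaSh.IsConormalMap (i ≫ j) j (𝟙 X) i a)
    (b : (Scheme.Modules.pullback (𝟙 Z)).obj (Omega.conormal (i ≫ j)) ⟶ Omega.conormal i)
    [LocallyOfFinitePresentation j]
    (w : a ≫ ((Scheme.Modules.pullbackId Z).inv.app (Omega.conormal (i ≫ j)) ≫ b) = 0)
    (hex : (ShortComplex.mk a ((Scheme.Modules.pullbackId Z).inv.app (Omega.conormal (i ≫ j)) ≫ b) w).ShortExact)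
    (hsplit : ∀ z : ↥Z, ∃ U : Z.Opens, z ∈ U ∧
      ∃ r : (Scheme.Modules.restrictFunctor U.ι).obj (Omega.conormal i) ⟶
          (Scheme.Modules.restrictFunctor U.ι).obj (Omega.conormal (i ≫ j)),
        r ≫ (Scheme.Modules.restrictFunctor U.ι).map ((Scheme.Modules.pullbackId Z).inv.app (Omega.conormal (i ≫ j)) ≫ b) = 𝟙 _) :
    (RegImm.IsRegularImmersion RegImm.Kind.quasi (i ≫ j) → RegImm.IsRegularImmersion RegImm.Kind.quasi i) ∧
      (RegImm.IsRegularImmersion RegImm.Kind.h1 (i ≫ j) → RegImm.IsRegularImmersion RegImm.Kind.h1 i) ∧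
      (RegImm.IsRegularImmersion RegImm.Kind.koszul j → RegImm.IsRegularImmersion RegImm.Kind.koszul (i ≫ j) →
        RegImm.IsRegularImmersion RegImm.Kind.koszul i) := by
  haveI : Mono a := hex.mono_f
  have hret : ∀ (z : Z) (U : Z.Opens)
      (r : (Scheme.Modules.restrictFunctor U.ι).obj (Omega.conormal i) ⟶
          (Scheme.Modules.restrictFunctor U.ι).obj (Omega.conormal (i ≫ j))),
      r ≫ (Scheme.Modules.restrictFunctor U.ι).map
        ((Scheme.Modules.pullbackId Z).inv.app (Omega.conormal (i ≫ j)) ≫ b) = 𝟙 _ →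
      ∀ t : TransChart i j, i ⁻¹ᵁ (j ⁻¹ᵁ t.V) ≤ U →
      ∃ ρ : Γ(Omega.conormal (i ≫ j), i ⁻¹ᵁ (j ⁻¹ᵁ t.V)) →ₗ[Γ(Z, i ⁻¹ᵁ (j ⁻¹ᵁ t.V))]
          Γ((Scheme.Modules.pullback i).obj (Omega.conormal j), i ⁻¹ᵁ (j ⁻¹ᵁ t.V)),
        ∀ y, ρ (a.app (i ⁻¹ᵁ (j ⁻¹ᵁ t.V)) y) = y := by
    intro z U r hr t htW
    obtain ⟨τ, hτ⟩ := exists_section_sections
      ((Scheme.Modules.pullbackId Z).inv.app (Omega.conormal (i ≫ j)) ≫ b) U r hr _ htW
    refine exists_retraction_of_section a _ _ τ hτ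
      (Groth.Agent.H12.QCohAbelian.app_injective_of_mono a _) ?_ ?_
    · intro y
      have h1 := congr(($w).app (i ⁻¹ᵁ (j ⁻¹ᵁ t.V)))
      have h2 := congr(($h1) y)
      rw [Scheme.Modules.Hom.comp_app, ConcreteCategory.comp_apply] at h2
      exact h2
    · intro x hx
      exact Groth.Agent.H12.QCohAbelian.app_exact_of_exact_of_mono _ hex.exact _ x hx
  refine ⟨fun h => ⟨inferInstance, fun z => ?_⟩, fun h => ⟨inferInstance, fun z => ?_⟩,
    fun hj h => ⟨inferInstance, fun z => ?_⟩⟩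
  · obtain ⟨U, hzU, r, hr⟩ := hsplit z
    exact isRegularImmersionAt_quasi_of_split a ha z U hzU (hret z U r hr) (h.2 z)
  · obtain ⟨U, hzU, r, hr⟩ := hsplit z
    exact isRegularImmersionAt_h1_of_split a ha z U hzU (hret z U r hr) (h.2 z)
  · obtain ⟨U, hzU, r, hr⟩ := hsplit z
    exact isRegularImmersionAt_koszul_of_split a ha z U hzU (hret z U r hr) (hj.2 (i z)) (h.2 z)

end Groth.Agent.H39.SplitConormalMain
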