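import Mathlib
import Groth.Agent.S9758
import Groth.Agent.S8662
import Groth.Agent.H52.FlatDescent

set_option autoImplicit false
set_option linter.style.haveILetI false
universe u

open AlgebraicGeometry CategoryTheory CategoryTheory.Limits

namespace Groth.Agent.H39.SyntDescent

/-- syntomic morphisms descend along fpqc base change. -/
theorem isSyntomicMor_of_baseChange_fpqc {X Y Y' : Scheme.{u}} (f : X ⟶ Y) (g : Y' ⟶ Y)
    [Flat g] [Surjective g] [QuasiCompact g] (h : Synt.IsSyntomicMor (pullback.snd f g)) :
    Synt.IsSyntomicMor f := by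
  obtain ⟨hfl, hk⟩ := (Groth.Agent.S9758.result (pullback.snd f g)).mpr h
  have hsq : IsPullback (pullback.fst f g) (pullback.snd f g) f g := IsPullback.of_hasPullback f g
  have hflat : Flat f :=
    MorphismProperty.of_isPullback_of_descendsAlong (P := @Flat)
      (Q := @Surjective ⊓ @Flat ⊓ @QuasiCompact) hsq.flip
      ⟨⟨inferInstance, inferInstance⟩, inferInstance⟩ hfl
  exact (Groth.Agent.S9758.result f).mp
    ⟨hflat, Groth.Agent.S8662.result f g (pullback.snd f g) (pullback.fst f g) hsq hk⟩

end Groth.Agent.H39.SyntDescent
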