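import Mathlib
import Groth.Prelude.Def_LCI2
import Groth.Agent.H94.RegDescentKoszul
import Groth.Agent.H46.RelGCIFlat
import Groth.Agent.H39.KoszulQuot

/-!
# Exchange of generators for Koszul-regular ideals and local generation modulo a regular sequence
(helper39; used for S9730)
-/

set_option autoImplicit false
set_option linter.style.haveILetI false
universe u

namespace Groth.Agent.H39.SyntSrcExch

open Groth.Agent.H94.RegDescent

theorem ofList_eq_span {R : Type*} [CommRing R] (l : List R) :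
    Ideal.ofList l = Ideal.span {x | x ∈ l} := rfl

/-- **Exchange**: `J = I₀ Q + (F)` Koszul-regular, `F` Koszul-regular modulo `I₀ Q`.  Near a prime
`𝔮 ⊇ J`, finitely many elements `a` of `I₀` together with `F` generate `J`, and the total number of
generators is the local rank of `J`. -/
theorem exchange {P Q Qb : Type u} [CommRing P] [CommRing Q] [CommRing Qb] (ι : P →+* Q)
    (I₀ : Ideal P) (F : List Q) (π : Q →+* Qb) (hπ : Function.Surjective π)
    (hkerπ : RingHom.ker π = I₀.map ι)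
    (hJ : LCI.IsKoszulRegularIdeal (I₀.map ι ⊔ Ideal.ofList F))
    (hFb : LCI.IsKoszulRegularSeq Qb (F.map π))
    (𝔮 : Ideal Q) [𝔮.IsPrime] (h𝔮 : I₀.map ι ⊔ Ideal.ofList F ≤ 𝔮) :
    ∃ (a : List P), (∀ x ∈ a, x ∈ I₀) ∧ ∃ G : Q, G ∉ 𝔮 ∧ ∃ g₁ : Q, g₁ ∉ 𝔮 ∧
      ∃ l : List (Localization.Away g₁), LCI.IsKoszulRegularSeq _ l ∧
        (I₀.map ι ⊔ Ideal.ofList F).map (algebraMap Q (Localization.Away g₁)) = Ideal.ofList l ∧
        l.length = a.length + F.length ∧
        ∀ x ∈ I₀.map ι ⊔ Ideal.ofList F, G * x ∈ Ideal.ofList (a.map ι ++ F) := by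
  classical
  have hJfg : (I₀.map ι ⊔ Ideal.ofList F).FG := LocGen.fg (P := fun R _ l => LCI.IsKoszulRegularSeq R l) hJ
  obtain ⟨g₁, hg₁, l, hl, hJl⟩ := hJ ⟨𝔮, inferInstance⟩ h𝔮
  change _ = Ideal.ofList l at hJl
  let L := Localization.AtPrime 𝔮
  let algM : Q →+* L := algebraMap Q L
  obtain ⟨θ, hθflat, hθ⟩ := exists_away_to_atPrime g₁ 𝔮 hg₁
  have hlθ : LCI.IsKoszulRegularSeq L (l.map θ) := descOK_koszul.flat θ hθflat l hl
  have hJL : (I₀.map ι ⊔ Ideal.ofList F).map algM = Ideal.ofList (l.map θ) := by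
    rw [← Ideal.map_ofList, ← hJl, Ideal.map_map, hθ]
  have hJLne : (I₀.map ι ⊔ Ideal.ofList F).map algM ≠ ⊤ := by
    intro htop
    have h1 : (I₀.map ι ⊔ Ideal.ofList F).map algM ≤ IsLocalRing.maximalIdeal L := by
      rw [← Localization.AtPrime.map_eq_maximalIdeal]
      exact Ideal.map_mono h𝔮
    rw [htop] at h1
    exact (IsLocalRing.maximalIdeal.isMaximal L).ne_top (top_le_iff.mp h1)
  -- the spanning set
  let S₀ : Set Q := (ι '' (I₀ : Set P)) ∪ {x | x ∈ F}
  have hS₀ : Ideal.span S₀ = I₀.map ι ⊔ Ideal.ofList F := by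
    rw [Ideal.span_union]
    rfl
  let S : Set L := algM '' S₀
  have hS : Submodule.span L S = (I₀.map ι ⊔ Ideal.ofList F).map algM := by
    rw [← hS₀, Ideal.map_span]
  have hspanG : Submodule.span L S = Submodule.span L (((l.map θ).toFinset : Finset L) : Set L) := by
    rw [hS, hJL]
    have h1 : (((l.map θ).toFinset : Finset L) : Set L) = {x | x ∈ l.map θ} := by
      ext x
      rw [Finset.mem_coe, List.mem_toFinset]
      rfl
    rw [h1]
  obtain ⟨t, htS, htcard, htspan⟩ :=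
    Groth.Agent.H94.RegDescentSel.sel (l.map θ).toFinset.card S (l.map θ).toFinset le_rfl hspanG
  have htr : t.card ≤ l.length := by
    refine le_trans htcard (le_trans (List.toFinset_card_le _) ?_)
    rw [List.length_map]
  -- splitting `t`
  let isF : L → Prop := fun y => ∃ f ∈ F, algM f = y
  let tF := t.filter isF
  let tI := t.filter (fun y => ¬ isF y)
  have htsplit : tF.card + tI.card = t.card := Finset.card_filter_add_card_filter_not isF
  have hliftI : ∀ y ∈ tI, ∃ p ∈ I₀, algM (ι p) = y := by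
    intro y hy
    obtain ⟨hyt, hyF⟩ := Finset.mem_filter.mp hy
    obtain ⟨x, hx, rfl⟩ := htS (Finset.mem_coe.mpr hyt)
    rcases hx with ⟨p, hp, rfl⟩ | hx
    · exact ⟨p, hp, rfl⟩
    · exact absurd ⟨x, hx, rfl⟩ hyF
  let pick : L → P := fun y => if hy : y ∈ tI then (hliftI y hy).choose else 0
  have hpick : ∀ y ∈ tI, pick y ∈ I₀ ∧ algM (ι (pick y)) = y := by
    intro y hy
    simp only [pick, dif_pos hy]
    exact (hliftI y hy).choose_spec
  let a : List P := tI.toList.map pick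
  have haI : ∀ x ∈ a, x ∈ I₀ := by
    intro x hx
    obtain ⟨y, hy, rfl⟩ := List.mem_map.mp hx
    exact (hpick y (Finset.mem_toList.mp hy)).1
  have halen : a.length = tI.card := by
    rw [List.length_map, Finset.length_toList]
  -- the new generators generate `J L`
  have hgen : Ideal.ofList ((a.map ι ++ F).map algM) = (I₀.map ι ⊔ Ideal.ofList F).map algM := by
    apply le_antisymm
    · rw [ofList_eq_span, Ideal.span_le]
      intro y hy
      obtain ⟨x, hx, rfl⟩ := List.mem_map.mp hy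
      apply Ideal.mem_map_of_mem
      rcases List.mem_append.mp hx with hx | hx
      · obtain ⟨p, hp, rfl⟩ := List.mem_map.mp hx
        exact Ideal.mem_sup_left (Ideal.mem_map_of_mem ι (haI p hp))
      · exact Ideal.mem_sup_right (Ideal.subset_span hx)
    · rw [← hS, ← htspan]
      change Ideal.span (t : Set L) ≤ _
      rw [Ideal.span_le]
      intro y hy
      have hyt : y ∈ t := Finset.mem_coe.mp hy
      apply Ideal.subset_span
      change y ∈ (a.map ι ++ F).map algM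
      rw [List.mem_map]
      by_cases hyF : isF y
      · obtain ⟨f, hf, rfl⟩ := hyF
        exact ⟨f, List.mem_append_right _ hf, rfl⟩
      · have hyI : y ∈ tI := Finset.mem_filter.mpr ⟨hyt, hyF⟩
        refine ⟨ι (pick y), List.mem_append_left _ ?_, (hpick y hyI).2⟩
        exact List.mem_map.mpr ⟨pick y, List.mem_map.mpr ⟨y, Finset.mem_toList.mpr hyI, rfl⟩, rfl⟩
  -- first inequality
  have hle1 : l.length ≤ a.length + F.length := by
    have h1 := descOK_koszul.len (l.map θ) ((a.map ι ++ F).map algM) hlθ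
      (by rw [hgen, hJL]) (by rw [← hJL]; exact hJLne)
    rwa [List.length_map, List.length_map, List.length_append, List.length_map] at h1
  -- second inequality, via the quotient `Qb`
  have hker𝔮 : RingHom.ker π ≤ 𝔮 := by
    rw [hkerπ]; exact le_trans le_sup_left h𝔮
  haveI h𝔮b : (𝔮.map π).IsPrime := Ideal.map_isPrime_of_surjective hπ hker𝔮
  have hcomap : 𝔮 = (𝔮.map π).comap π := by
    rw [Ideal.comap_map_of_surjective' π hπ, sup_eq_left.mpr hker𝔮]
  let Lb := Localization.AtPrime (𝔮.map π)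
  let ρ : L →+* Lb := Localization.localRingHom 𝔮 (𝔮.map π) π hcomap
  have hρ : ∀ x : Q, ρ (algM x) = algebraMap Qb Lb (π x) :=
    fun x => Localization.localRingHom_to_map 𝔮 (𝔮.map π) π hcomap x
  have hFb' : LCI.IsKoszulRegularSeq Lb ((F.map π).map (algebraMap Qb Lb)) :=
    descOK_koszul.flat (algebraMap Qb Lb)
      (flat_algebraMap_of_isLocalization (𝔮.map π).primeCompl _) _ hFb
  have hFb'ne : Ideal.ofList ((F.map π).map (algebraMap Qb Lb)) ≠ ⊤ := by
    intro htop
    have h1 : Ideal.ofList ((F.map π).map (algebraMap Qb Lb)) ≤ IsLocalRing.maximalIdeal Lb := by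
      rw [ofList_eq_span, Ideal.span_le]
      intro y hy
      obtain ⟨x, hx, rfl⟩ := List.mem_map.mp hy
      obtain ⟨f, hf, rfl⟩ := List.mem_map.mp hx
      rw [SetLike.mem_coe, IsLocalization.AtPrime.to_map_mem_maximal_iff Lb (𝔮.map π)]
      exact Ideal.mem_map_of_mem π (h𝔮 (Ideal.mem_sup_right (Ideal.subset_span hf)))
    rw [htop] at h1
    exact (IsLocalRing.maximalIdeal.isMaximal Lb).ne_top (top_le_iff.mp h1)
  have hJρ : ((I₀.map ι ⊔ Ideal.ofList F).map algM).map ρ =
      Ideal.ofList ((F.map π).map (algebraMap Qb Lb)) := by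
    have hcomp : ρ.comp algM = (algebraMap Qb Lb).comp π := RingHom.ext hρ
    rw [Ideal.map_map, hcomp, ← Ideal.map_map, Ideal.map_sup, Ideal.map_ofList,
      (Ideal.map_eq_bot_iff_le_ker π).mpr (le_of_eq hkerπ.symm), bot_sup_eq, Ideal.map_ofList]
  have hle2 : F.length ≤ tF.card := by
    have hspan2 : Ideal.ofList ((F.map π).map (algebraMap Qb Lb)) =
        Ideal.ofList (tF.toList.map ρ) := by
      rw [← hJρ, ← hS, ← htspan]
      change (Ideal.span (t : Set L)).map ρ = _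
      rw [Ideal.map_span, ofList_eq_span]
      apply le_antisymm
      · rw [Ideal.span_le]
        rintro _ ⟨y, hy, rfl⟩
        have hyt : y ∈ t := Finset.mem_coe.mp hy
        by_cases hyF : isF y
        · apply Ideal.subset_span
          exact List.mem_map.mpr ⟨y, Finset.mem_toList.mpr (Finset.mem_filter.mpr ⟨hyt, hyF⟩), rfl⟩
        · have hyI : y ∈ tI := Finset.mem_filter.mpr ⟨hyt, hyF⟩
          obtain ⟨p, hp, rfl⟩ := hliftI y hyI
          have : ρ (algM (ι p)) = 0 := by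
            rw [hρ]
            have : ι p ∈ RingHom.ker π := by rw [hkerπ]; exact Ideal.mem_map_of_mem ι hp
            rw [(RingHom.mem_ker).mp this, map_zero]
          rw [SetLike.mem_coe, this]
          exact Ideal.zero_mem _
      · rw [Ideal.span_le]
        intro z hz
        obtain ⟨y, hy, rfl⟩ := List.mem_map.mp hz
        apply Ideal.subset_span
        exact ⟨y, Finset.mem_coe.mpr (Finset.mem_filter.mp (Finset.mem_toList.mp hy)).1, rfl⟩
    have h1 := descOK_koszul.len _ (tF.toList.map ρ) hFb' hspan2 hFb'ne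
    rwa [List.length_map, List.length_map, List.length_map, Finset.length_toList] at h1
  have hlen : l.length = a.length + F.length := by
    apply le_antisymm hle1
    rw [halen]
    omega
  -- spreading out
  have hloc : (I₀.map ι ⊔ Ideal.ofList F).map (algebraMap Q (Localization.AtPrime 𝔮)) ≤
      (Ideal.ofList (a.map ι ++ F)).map (algebraMap Q (Localization.AtPrime 𝔮)) := by
    rw [Ideal.map_ofList]
    exact le_of_eq hgen.symm
  obtain ⟨G, hG, hGJ⟩ := exists_mul_mem _ hJfg 𝔮 _ hloc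
  exact ⟨a, haI, G, hG, g₁, hg₁, l, hl, hJl, hlen, hGJ⟩

/-- Koszul-regularity along a flat map can be checked at the local rings of the source at the
contractions of the primes of the target. -/
theorem koszul_of_forall_comap {X Y : Type u} [CommRing X] [CommRing Y] (χ : X →+* Y)
    (hχ : χ.Flat) (l : List X)
    (h : ∀ (𝔶 : Ideal Y) [𝔶.IsPrime],
      LCI.IsKoszulRegularSeq (Localization.AtPrime (𝔶.comap χ)) (l.map (algebraMap X _))) :
    LCI.IsKoszulRegularSeq Y (l.map χ) := by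
  apply koszul_loc
  intro 𝔶 _
  obtain ⟨ρ, hρflat, -, hρ, -⟩ := exists_localHom χ hχ 𝔶 (𝔶.comap χ) rfl
  have h1 := descOK_koszul.flat ρ hρflat _ (h 𝔶)
  rw [List.map_map] at h1 ⊢
  have h2 : (ρ : _ → _) ∘ (algebraMap X (Localization.AtPrime (𝔶.comap χ))) =
      (algebraMap Y (Localization.AtPrime 𝔶)) ∘ χ := by
    funext x
    exact congrArg (fun ψ : X →+* Localization.AtPrime 𝔶 => ψ x) hρ
  rw [← h2]
  exact h1

/-- Koszul-regularity of the selected generators in the local rings of `Q ⧸ (F)`. -/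
theorem koszul_atPrime_quot {P Q : Type u} [CommRing P] [CommRing Q] (ι : P →+* Q) (I₀ : Ideal P)
    (F : List Q) (a : List P) (haI : ∀ x ∈ a, x ∈ I₀) (G g₁ : Q)
    (l : List (Localization.Away g₁)) (hl : LCI.IsKoszulRegularSeq _ l)
    (hJl : (I₀.map ι ⊔ Ideal.ofList F).map (algebraMap Q (Localization.Away g₁)) = Ideal.ofList l)
    (hlen : l.length = a.length + F.length)
    (hGJ : ∀ x ∈ I₀.map ι ⊔ Ideal.ofList F, G * x ∈ Ideal.ofList (a.map ι ++ F))
    (hM1 : ∀ (𝔮 : Ideal Q) [𝔮.IsPrime], I₀.map ι ⊔ Ideal.ofList F ≤ 𝔮 →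
      LCI.IsKoszulRegularSeq (Localization.AtPrime 𝔮) (F.map (algebraMap Q _)))
    (𝔱 : Ideal (Q ⧸ Ideal.ofList F)) [𝔱.IsPrime]
    (hG𝔱 : Ideal.Quotient.mk (Ideal.ofList F) G ∉ 𝔱)
    (hg𝔱 : Ideal.Quotient.mk (Ideal.ofList F) g₁ ∉ 𝔱) :
    LCI.IsKoszulRegularSeq (Localization.AtPrime 𝔱)
      (a.map (fun x => algebraMap _ (Localization.AtPrime 𝔱)
        (Ideal.Quotient.mk (Ideal.ofList F) (ι x)))) := by
  classical
  let mk : Q →+* Q ⧸ Ideal.ofList F := Ideal.Quotient.mk (Ideal.ofList F)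
  let 𝔮 : Ideal Q := 𝔱.comap mk
  haveI : 𝔮.IsPrime := Ideal.comap_isPrime _ _
  have hG𝔮 : G ∉ 𝔮 := hG𝔱
  have hg𝔮 : g₁ ∉ 𝔮 := hg𝔱
  have hF𝔮 : Ideal.ofList F ≤ 𝔮 := by
    intro x hx
    change mk x ∈ 𝔱
    rw [show mk x = 0 from Ideal.Quotient.eq_zero_iff_mem.mpr hx]
    exact Ideal.zero_mem _
  let Lt := Localization.AtPrime 𝔱
  let ψ : Q →+* Lt := (algebraMap _ Lt).comp mk
  have hlist : a.map (fun x => algebraMap _ (Localization.AtPrime 𝔱)
        (Ideal.Quotient.mk (Ideal.ofList F) (ι x))) = (a.map ι).map ψ := by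
    rw [List.map_map]; rfl
  rw [hlist]
  have hf₀ : ∀ x ∈ a.map ι ++ F, x ∈ I₀.map ι ⊔ Ideal.ofList F := by
    intro x hx
    rcases List.mem_append.mp hx with hx | hx
    · obtain ⟨p, hp, rfl⟩ := List.mem_map.mp hx
      exact Ideal.mem_sup_left (Ideal.mem_map_of_mem ι (haI p hp))
    · exact Ideal.mem_sup_right (Ideal.subset_span hx)
  have hFψ : Ideal.ofList (F.map ψ) = ⊥ := by
    rw [← Ideal.map_ofList, ← Ideal.map_map, Ideal.map_quotient_self, Ideal.map_bot]
  by_cases hJ𝔮 : I₀.map ι ⊔ Ideal.ofList F ≤ 𝔮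
  · -- the main case
    let L := Localization.AtPrime 𝔮
    let algM : Q →+* L := algebraMap Q L
    have hGu : IsUnit (algM G) := IsLocalization.map_units L (⟨G, hG𝔮⟩ : 𝔮.primeCompl)
    have hgen : (I₀.map ι ⊔ Ideal.ofList F).map algM = Ideal.ofList ((a.map ι ++ F).map algM) :=
      map_eq_ofList_of_isUnit _ (a.map ι ++ F) G hf₀ hGJ algM hGu
    obtain ⟨θ, hθflat, hθ⟩ := exists_away_to_atPrime g₁ 𝔮 hg𝔮
    have hlθ : LCI.IsKoszulRegularSeq L (l.map θ) := descOK_koszul.flat θ hθflat l hl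
    have hJL : (I₀.map ι ⊔ Ideal.ofList F).map algM = Ideal.ofList (l.map θ) := by
      rw [← Ideal.map_ofList, ← hJl, Ideal.map_map, hθ]
    have hswap : LCI.IsKoszulRegularSeq L ((a.map ι ++ F).map algM) :=
      descOK_koszul.swap (l.map θ) _ hlθ (by rw [← hJL, hgen])
        (by rw [List.length_map, List.length_map, List.length_append, List.length_map, hlen])
    rw [List.map_append] at hswap
    have hφ : ∀ y : Q ⧸ Ideal.ofList F, ∃ s : Q, mk s ∉ 𝔱 ∧ ∃ b : Q, mk s * y = mk b := by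
      intro y
      obtain ⟨b, rfl⟩ := Ideal.Quotient.mk_surjective y
      refine ⟨1, ?_, b, by rw [map_one, one_mul]⟩
      rw [map_one]
      exact fun h => (inferInstance : 𝔱.IsPrime).ne_top ((Ideal.eq_top_iff_one _).mpr h)
    obtain ⟨hρsurj, hρker⟩ :=
      Groth.Agent.H46.RelGCIFlat.localRingHom_surjective_and_ker mk 𝔱 hφ
    have hker' : RingHom.ker (Localization.localRingHom 𝔮 𝔱 mk rfl) =
        Ideal.ofList (F.map algM) := by
      rw [hρker, Ideal.mk_ker, Ideal.map_ofList]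
    have h1 := Groth.Agent.H39.KoszulQuot.isKoszulRegularSeq_map_of_append
      (φ := Localization.localRingHom 𝔮 𝔱 mk rfl) hρsurj (F.map algM) (hM1 𝔮 hJ𝔮) hker'
      ((a.map ι).map algM) hswap
    rw [List.map_map] at h1 ⊢
    rw [List.map_map] at h1
    convert h1 using 2
    funext p
    exact (Localization.localRingHom_to_map 𝔮 𝔱 mk rfl (ι p)).symm
  · -- some element of `I₀` is a unit
    apply koszul_unit
    have hI𝔮 : ¬ I₀.map ι ≤ 𝔮 := fun h => hJ𝔮 (sup_le h hF𝔮)
    rw [Ideal.map_le_iff_le_comap] at hI𝔮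
    obtain ⟨p, hp, hp𝔮⟩ := Set.not_subset.mp hI𝔮
    have hp𝔮' : mk (ι p) ∉ 𝔱 := hp𝔮
    have h1 : G * ι p ∈ Ideal.ofList (a.map ι ++ F) :=
      hGJ _ (Ideal.mem_sup_left (Ideal.mem_map_of_mem ι hp))
    have h2 : ψ (G * ι p) ∈ Ideal.ofList ((a.map ι).map ψ) := by
      have := Ideal.mem_map_of_mem ψ h1
      rwa [Ideal.map_ofList, List.map_append, Ideal.ofList_append, hFψ, sup_bot_eq] at this
    have hu : IsUnit (ψ (G * ι p)) := by
      rw [map_mul]
      exact (IsLocalization.map_units Lt (⟨mk G, hG𝔱⟩ : 𝔱.primeCompl)).mul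
        (IsLocalization.map_units Lt (⟨mk (ι p), hp𝔮'⟩ : 𝔱.primeCompl))
    exact Ideal.eq_top_of_isUnit_mem _ h2 hu

/-- **Main local-generation statement**: in `T₀ = Q ⧸ (F)` the ideal `I₀ T₀` is Koszul-regular. -/
theorem isKoszulRegularIdeal_map_quot {P Q Qb : Type u} [CommRing P] [CommRing Q] [CommRing Qb]
    (ι : P →+* Q) (I₀ : Ideal P) (F : List Q) (π : Q →+* Qb) (hπ : Function.Surjective π)
    (hkerπ : RingHom.ker π = I₀.map ι)
    (hJ : LCI.IsKoszulRegularIdeal (I₀.map ι ⊔ Ideal.ofList F))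
    (hFb : LCI.IsKoszulRegularSeq Qb (F.map π))
    (hM1 : ∀ (𝔮 : Ideal Q) [𝔮.IsPrime], I₀.map ι ⊔ Ideal.ofList F ≤ 𝔮 →
      LCI.IsKoszulRegularSeq (Localization.AtPrime 𝔮) (F.map (algebraMap Q _))) :
    LCI.IsKoszulRegularIdeal (I₀.map ((Ideal.Quotient.mk (Ideal.ofList F)).comp ι)) := by
  intro 𝔱 h𝔱
  let mk : Q →+* Q ⧸ Ideal.ofList F := Ideal.Quotient.mk (Ideal.ofList F)
  let 𝔮 : Ideal Q := 𝔱.asIdeal.comap mk
  haveI : 𝔮.IsPrime := Ideal.comap_isPrime _ _
  have hJ𝔮 : I₀.map ι ⊔ Ideal.ofList F ≤ 𝔮 := by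
    apply sup_le
    · rw [Ideal.map_le_iff_le_comap]
      intro p hp
      change mk (ι p) ∈ 𝔱.asIdeal
      exact h𝔱 (Ideal.mem_map_of_mem (mk.comp ι) hp)
    · intro x hx
      change mk x ∈ 𝔱.asIdeal
      rw [show mk x = 0 from Ideal.Quotient.eq_zero_iff_mem.mpr hx]
      exact Ideal.zero_mem _
  obtain ⟨a, haI, G, hG, g₁, hg₁, l, hl, hJl, hlen, hGJ⟩ :=
    exchange ι I₀ F π hπ hkerπ hJ hFb 𝔮 hJ𝔮
  have hGg : mk (G * g₁) ∉ 𝔱.asIdeal := by
    intro h
    have : G * g₁ ∈ 𝔮 := h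
    rcases (inferInstance : 𝔮.IsPrime).mem_or_mem this with h | h
    · exact hG h
    · exact hg₁ h
  obtain ⟨gg, hgg⟩ : ∃ gg : Q ⧸ Ideal.ofList F, gg = mk G * mk g₁ := ⟨_, rfl⟩
  have hgg𝔱 : gg ∉ 𝔱.asIdeal := by rw [hgg, ← map_mul]; exact hGg
  let T₂ := Localization.Away gg
  let χ : (Q ⧸ Ideal.ofList F) →+* T₂ := algebraMap _ T₂
  have hχflat : χ.Flat := flat_algebraMap_of_isLocalization (Submonoid.powers gg) _
  have hunit : IsUnit (χ (mk G)) ∧ IsUnit (χ (mk g₁)) := by
    have h1 : IsUnit (χ gg) := IsLocalization.Away.algebraMap_isUnit _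
    have h2 : χ gg = χ (mk G) * χ (mk g₁) := by rw [← map_mul]; exact congrArg χ hgg
    rw [h2] at h1
    exact ⟨isUnit_of_mul_isUnit_left h1, isUnit_of_mul_isUnit_right h1⟩
  refine ⟨gg, hgg𝔱, (a.map (mk.comp ι)).map χ, ?_, ?_⟩
  · -- Koszul-regularity
    apply koszul_of_forall_comap χ hχflat
    intro 𝔶 _
    have hnot : ∀ z : Q ⧸ Ideal.ofList F, IsUnit (χ z) → z ∉ 𝔶.comap χ := by
      intro z hz hmem
      exact (inferInstance : 𝔶.IsPrime).ne_top (Ideal.eq_top_of_isUnit_mem _ hmem hz)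
    have := koszul_atPrime_quot ι I₀ F a haI G g₁ l hl hJl hlen hGJ hM1 (𝔶.comap χ)
      (hnot _ hunit.1) (hnot _ hunit.2)
    rw [List.map_map]
    exact this
  · -- the ideal is generated by the list
    have hf₀ : ∀ x ∈ a.map (mk.comp ι), x ∈ I₀.map (mk.comp ι) := by
      intro x hx
      obtain ⟨p, hp, rfl⟩ := List.mem_map.mp hx
      exact Ideal.mem_map_of_mem _ (haI p hp)
    have hFmk : Ideal.ofList (F.map mk) = ⊥ := by
      rw [← Ideal.map_ofList, Ideal.map_quotient_self]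
    have hG' : ∀ x ∈ I₀.map (mk.comp ι), mk G * x ∈ Ideal.ofList (a.map (mk.comp ι)) := by
      intro x hx
      induction hx using Submodule.span_induction with
      | mem y hy =>
        obtain ⟨p, hp, rfl⟩ := hy
        have h1 : G * ι p ∈ Ideal.ofList (a.map ι ++ F) :=
          hGJ _ (Ideal.mem_sup_left (Ideal.mem_map_of_mem ι hp))
        have h2 := Ideal.mem_map_of_mem mk h1
        rw [Ideal.map_ofList, List.map_append, Ideal.ofList_append, hFmk, sup_bot_eq,
          List.map_map, map_mul] at h2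
        exact h2
      | zero => rw [mul_zero]; exact Ideal.zero_mem _
      | add y z _ _ hy hz => rw [mul_add]; exact Ideal.add_mem _ hy hz
      | smul r y _ hy =>
        rw [smul_eq_mul, mul_left_comm]
        exact Ideal.mul_mem_left _ _ hy
    exact map_eq_ofList_of_isUnit _ (a.map (mk.comp ι)) (mk G) hf₀ hG' χ hunit.1

end Groth.Agent.H39.SyntSrcExch
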