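import Mathlib
import Groth.Prelude.Def_LCI2
import Groth.Agent.H79.KoszulFlatLift
import Groth.Agent.H79.KoszulNat
import Groth.Agent.S5803
import Groth.Agent.H94.KoszulH1
import Groth.Agent.H11.H1Quasi
import Groth.Agent.H46.RelGCIFlat
import Groth.Agent.H70.RegFibre.Local
import Groth.Agent.H70.RegFibre.EssFP
import Groth.Agent.H39.KoszulFlatBC

/-!
# Fibrewise regularity for lifts of Koszul-regular sequences with flat quotient (helper39)

Used for S9730 (lci is syntomic-local on the source).
-/

set_option autoImplicit false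
set_option linter.style.haveILetI false
universe u

open CategoryTheory CategoryTheory.Limits TensorProduct RingTheory.Sequence

namespace Groth.Agent.H39.SyntSrcFibre

open Groth.Agent.H79.KoszulFlatLift Groth.Agent.H79.KoszulNat Groth.Agent.H46.RelGCIFlat

/-- A Koszul-regular sequence in `A[x]` with `A`-flat quotient stays Koszul-regular in `κ[x]`
for every `A`-algebra `κ`. -/
theorem kreg_baseChange {A : Type u} [CommRing A] (n : ℕ) (Fb : List (MvPolynomial (Fin n) A))
    (hreg : LCI.IsKoszulRegularSeq (MvPolynomial (Fin n) A) Fb)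
    (hflat : Module.Flat A (MvPolynomial (Fin n) A ⧸ Ideal.ofList Fb))
    (κ : Type u) [CommRing κ] [Algebra A κ] :
    LCI.IsKoszulRegularSeq (MvPolynomial (Fin n) κ)
      (Fb.map (MvPolynomial.map (algebraMap A κ))) := by
  let S := MvPolynomial (Fin n) A
  let Φ := MvPolynomial (Fin n) κ
  let φ : S →+* Φ := MvPolynomial.map (algebraMap A κ)
  have hgood : Good A S Fb := good_of_reg_flat Fb hreg hflat
  intro i hi
  show IsZero ((Koszul.koszul Φ (Fb.map φ)).homology i)
  rw [Groth.Agent.H79.KoszulCone.koszul_eq,
    ← isZero_homology_restrict_iff φ (ModuleCat.of Φ Φ) Fb i]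
  have h1 : IsZero ((CohIII.koszulCx (PN A S κ) Fb).homology i) := hgood i hi κ
  -- the `S`-linear identification `S ⊗[A] κ ≃ κ[x]`
  let g : S ⊗[A] κ ≃ₐ[A] Φ :=
    (Algebra.TensorProduct.comm A S κ).trans
      ((MvPolynomial.algebraTensorAlgEquiv (σ := Fin n) A κ).restrictScalars A)
  have hg1 : ∀ s : S, g (s ⊗ₜ[A] (1 : κ)) = φ s := by
    intro s
    change (MvPolynomial.algebraTensorAlgEquiv (σ := Fin n) A κ)
      ((Algebra.TensorProduct.comm A S κ) (s ⊗ₜ[A] (1 : κ))) = φ s
    rw [Algebra.TensorProduct.comm_tmul, MvPolynomial.algebraTensorAlgEquiv_tmul, one_smul]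
  let el : (S ⊗[A] κ) ≃ₗ[S] ((ModuleCat.restrictScalars φ).obj (ModuleCat.of Φ Φ)) :=
    { g.toLinearEquiv.toAddEquiv with
      map_smul' := by
        intro s z
        change g (s • z) = φ s • g z
        have hsz : s • z = (s ⊗ₜ[A] (1 : κ)) * z := by
          induction z using TensorProduct.induction_on with
          | zero => rw [smul_zero, mul_zero]
          | tmul a b =>
            rw [TensorProduct.smul_tmul', Algebra.TensorProduct.tmul_mul_tmul, one_mul,
              smul_eq_mul]
          | add x y hx hy => rw [smul_add, mul_add, hx, hy]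
        rw [hsz, map_mul, hg1, smul_eq_mul] }
  let e : PN A S κ ≅ (ModuleCat.restrictScalars φ).obj (ModuleCat.of Φ Φ) := el.toModuleIso
  have e2 := (HomologicalComplex.homologyFunctor (ModuleCat.{u} S) (ComplexShape.up ℤ) i).mapIso
    (kiso e Fb)
  exact (e2.isZero_iff).1 h1

/-- In a Noetherian ring, a Koszul-regular sequence contained in the Jacobson radical is weakly
regular. -/
theorem isWeaklyRegular_of_koszul_of_mem_jacobson {S : Type u} [CommRing S] [IsNoetherianRing S]
    (l : List S) (hl : ∀ x ∈ l, x ∈ Ring.jacobson S) (h : LCI.IsKoszulRegularSeq S l) :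
    RingTheory.Sequence.IsWeaklyRegular S l := by
  have h1 := Groth.Agent.H94.KoszulH1.isH1Regular_of_isKoszulRegularSeq l h
  have h2 := Groth.Agent.H11.H1Quasi.isQuasiRegular_of_isH1Regular l.get h1
  have h3 := Groth.Agent.S5803.result S l.length l.get (fun i => hl _ (List.get_mem l i)) h2
  rwa [List.ofFn_get] at h3

/-- Non-Noetherian version of `Groth.Agent.H46.RelGCIFlat.isWeaklyRegular_and_flat_atPrime`:
a sequence in `R[x]` whose image in the local ring of the fibre `κ(p)[x]_Q` is weakly regular, is
weakly regular in `R[x]_{q}` with `R`-flat quotient. -/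
theorem isWeaklyRegular_and_flat_atPrime' {R : Type u} [CommRing R] (n : ℕ) (p : Ideal R)
    [p.IsPrime] (Q : Ideal (MvPolynomial (Fin n) p.ResidueField))
    [Q.IsPrime] (rs : List (MvPolynomial (Fin n) R))
    (hC : IsWeaklyRegular (Localization.AtPrime Q)
      (rs.map fun a => algebraMap _ (Localization.AtPrime Q) (red n p a))) :
    IsWeaklyRegular (Localization.AtPrime (Q.comap (red n p)))
        (rs.map (algebraMap _ (Localization.AtPrime (Q.comap (red n p))))) ∧
      Module.Flat R (Localization.AtPrime (Q.comap (red n p)) ⧸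
        Ideal.ofList (rs.map (algebraMap _ (Localization.AtPrime (Q.comap (red n p)))))) := by
  have hpq : p = (Q.comap (red n p)).comap (MvPolynomial.C : R →+* MvPolynomial (Fin n) R) :=
    (comap_red_comap_C n p Q).symm
  haveI hlo : (Q.comap (red n p)).LiesOver p := ⟨hpq⟩
  letI algAB : Algebra (Localization.AtPrime p) (Localization.AtPrime (Q.comap (red n p))) :=
    Localization.AtPrime.algebraOfLiesOver p (Q.comap (red n p))
  haveI : IsLocalHom (algebraMap (Localization.AtPrime p)
      (Localization.AtPrime (Q.comap (red n p)))) :=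
    Localization.isLocalHom_localRingHom _ _ _ Ideal.LiesOver.over
  haveI : Module.Flat R (Localization.AtPrime (Q.comap (red n p))) :=
    Module.Flat.trans R (MvPolynomial (Fin n) R) _
  haveI : Module.Flat (Localization.AtPrime p) (Localization.AtPrime (Q.comap (red n p))) :=
    (Module.flat_iff_of_isLocalization (Localization.AtPrime p) p.primeCompl _).mpr inferInstance
  have hS := Groth.Agent.H70.RegFibre.isEssFinitePresentation_atPrime p (Q.comap (red n p))
  -- the closed fibre
  have hJ : (IsLocalRing.maximalIdeal (Localization.AtPrime p)).map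
      (algebraMap (Localization.AtPrime p) (Localization.AtPrime (Q.comap (red n p)))) =
      (RingHom.ker (red n p)).map (algebraMap _ (Localization.AtPrime (Q.comap (red n p)))) := by
    rw [ker_red, ← Localization.AtPrime.map_eq_maximalIdeal, Ideal.map_map, Ideal.map_map,
      ← IsScalarTower.algebraMap_eq, ← MvPolynomial.algebraMap_eq, ← IsScalarTower.algebraMap_eq]
  let ε := quotLocalEquiv (red n p) Q (red_fraction n p Q)
  have h1 : IsWeaklyRegular (Localization.AtPrime (Q.comap (red n p)) ⧸
      (RingHom.ker (red n p)).map (algebraMap _ (Localization.AtPrime (Q.comap (red n p)))))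
      (rs.map (algebraMap _ (Localization.AtPrime (Q.comap (red n p))))) := by
    refine (AddEquiv.isWeaklyRegular_congr (e := ε.symm.toAddEquiv) ?_).mp hC
    rw [List.forall₂_map_left_iff, List.forall₂_map_right_iff]
    refine List.forall₂_same.mpr fun a _ x => ?_
    change ε.symm (algebraMap _ (Localization.AtPrime Q) (red n p a) * x) = _
    rw [map_mul, ← quotLocalEquiv_mk (red n p) Q (red_fraction n p Q) a]
    change ε.symm (ε _) * _ = _
    rw [RingEquiv.symm_apply_apply]
    rfl
  have h2 : IsWeaklyRegular (Localization.AtPrime (Q.comap (red n p)) ⧸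
      ((IsLocalRing.maximalIdeal (Localization.AtPrime p)).map
        (algebraMap (Localization.AtPrime p) (Localization.AtPrime (Q.comap (red n p)))) •
          (⊤ : Submodule (Localization.AtPrime (Q.comap (red n p)))
            (Localization.AtPrime (Q.comap (red n p))))))
      (rs.map (algebraMap _ (Localization.AtPrime (Q.comap (red n p))))) := by
    have e1 : (Localization.AtPrime (Q.comap (red n p)) ⧸
        (RingHom.ker (red n p)).map (algebraMap _ (Localization.AtPrime (Q.comap (red n p)))))
        ≃ₗ[Localization.AtPrime (Q.comap (red n p))]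
        (Localization.AtPrime (Q.comap (red n p)) ⧸
          ((IsLocalRing.maximalIdeal (Localization.AtPrime p)).map
            (algebraMap (Localization.AtPrime p) (Localization.AtPrime (Q.comap (red n p)))) •
              (⊤ : Submodule (Localization.AtPrime (Q.comap (red n p)))
                (Localization.AtPrime (Q.comap (red n p)))))) :=
      Submodule.quotEquivOfEq _ _ (by rw [hJ, smul_eq_mul, Ideal.mul_top])
    exact (e1.isWeaklyRegular_congr _).mp h1
  obtain ⟨h3, h4⟩ := Groth.Agent.H70.RegFibre.isWeaklyRegular_and_flat_of_fibre hS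
    (rs.map (algebraMap _ (Localization.AtPrime (Q.comap (red n p)))))
    (Localization.AtPrime (Q.comap (red n p))) h2
  refine ⟨h3, ?_⟩
  have h4' := h4 _ le_rfl
  rw [List.take_length] at h4'
  haveI := h4'
  have h5 : Module.Flat R (Localization.AtPrime (Q.comap (red n p)) ⧸
      (Ideal.ofList (rs.map (algebraMap _ (Localization.AtPrime (Q.comap (red n p))))) •
        (⊤ : Submodule (Localization.AtPrime (Q.comap (red n p)))
          (Localization.AtPrime (Q.comap (red n p)))))) :=
    Module.Flat.trans R (Localization.AtPrime p) _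
  have e2 : (Localization.AtPrime (Q.comap (red n p)) ⧸
        Ideal.ofList (rs.map (algebraMap _ (Localization.AtPrime (Q.comap (red n p))))))
        ≃ₗ[Localization.AtPrime (Q.comap (red n p))]
      (Localization.AtPrime (Q.comap (red n p)) ⧸
      (Ideal.ofList (rs.map (algebraMap _ (Localization.AtPrime (Q.comap (red n p))))) •
        (⊤ : Submodule (Localization.AtPrime (Q.comap (red n p)))
          (Localization.AtPrime (Q.comap (red n p)))))) :=
    Submodule.quotEquivOfEq _ _ (by rw [smul_eq_mul, Ideal.mul_top])
  exact Module.Flat.of_linearEquiv (e2.restrictScalars R)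

/-- **Fibrewise regularity** (M1): `P ↠ A`, `F` a list in `P[x]` whose image in `A[x]` is
Koszul-regular with `A`-flat quotient.  Then at every prime `q` of `P[x]` containing `F` and the
kernel of `P[x] → A[x]`, the sequence `F` is weakly regular in `P[x]_q` with `P`-flat quotient. -/
theorem fibre_regular {P A : Type u} [CommRing P] [CommRing A] (πP : P →+* A)
    (hπ : Function.Surjective πP) (n : ℕ) (F : List (MvPolynomial (Fin n) P))
    (hreg : LCI.IsKoszulRegularSeq (MvPolynomial (Fin n) A) (F.map (MvPolynomial.map πP)))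
    (hflat : Module.Flat A (MvPolynomial (Fin n) A ⧸ Ideal.ofList (F.map (MvPolynomial.map πP))))
    (q : Ideal (MvPolynomial (Fin n) P)) [q.IsPrime]
    (hker : RingHom.ker (MvPolynomial.map πP : MvPolynomial (Fin n) P →+* MvPolynomial (Fin n) A) ≤ q)
    (hF : ∀ x ∈ F, x ∈ q) :
    IsWeaklyRegular (Localization.AtPrime q) (F.map (algebraMap _ (Localization.AtPrime q))) ∧
      Module.Flat P (Localization.AtPrime q ⧸
        Ideal.ofList (F.map (algebraMap _ (Localization.AtPrime q)))) := by
  classical
  let p : Ideal P := q.comap (MvPolynomial.C : P →+* MvPolynomial (Fin n) P)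
  haveI : p.IsPrime := Ideal.comap_isPrime _ _
  haveI : q.LiesOver p := ⟨rfl⟩
  have hkerp : RingHom.ker πP ≤ RingHom.ker (algebraMap P p.ResidueField) := by
    intro a ha
    rw [RingHom.mem_ker, Ideal.algebraMap_residueField_eq_zero]
    change MvPolynomial.C a ∈ q
    apply hker
    rw [RingHom.mem_ker, MvPolynomial.map_C, (RingHom.mem_ker).mp ha, map_zero]
  let σ : A →+* p.ResidueField := πP.liftOfSurjective hπ ⟨algebraMap P p.ResidueField, hkerp⟩
  have hσ : σ.comp πP = algebraMap P p.ResidueField :=
    RingHom.liftOfSurjective_comp πP hπ ⟨algebraMap P p.ResidueField, hkerp⟩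
  letI : Algebra A p.ResidueField := σ.toAlgebra
  have hK := kreg_baseChange n (F.map (MvPolynomial.map πP)) hreg hflat p.ResidueField
  have hmap : (F.map (MvPolynomial.map πP)).map (MvPolynomial.map (algebraMap A p.ResidueField)) =
      F.map (red n p) := by
    rw [List.map_map]
    congr 1
    funext a
    change MvPolynomial.map σ (MvPolynomial.map πP a) = red n p a
    rw [MvPolynomial.map_map, hσ]
  rw [hmap] at hK
  -- the prime of the fibre
  let Q0 : Ideal (p.Fiber (MvPolynomial (Fin n) P)) :=
    (PrimeSpectrum.primesOverOrderIsoFiber P (MvPolynomial (Fin n) P) p ⟨q, ‹_›, ‹_›⟩).asIdeal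
  have hQ0 : q = Q0.comap Algebra.TensorProduct.includeRight.toRingHom :=
    congr($((PrimeSpectrum.primesOverOrderIsoFiber P (MvPolynomial (Fin n) P) p).symm_apply_apply
      ⟨q, ‹_›, ‹_›⟩).1).symm
  let e := MvPolynomial.algebraTensorAlgEquiv (σ := Fin n) P p.ResidueField
  let Q : Ideal (MvPolynomial (Fin n) p.ResidueField) := Q0.comap e.symm.toRingEquiv.toRingHom
  haveI : Q.IsPrime := Ideal.comap_isPrime _ _
  have hred : ∀ a : MvPolynomial (Fin n) P,
      e.symm (red n p a) = (1 : p.ResidueField) ⊗ₜ[P] a := by
    intro a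
    rw [AlgEquiv.symm_apply_eq, MvPolynomial.algebraTensorAlgEquiv_tmul, one_smul]
  have hQq : Q.comap (red n p) = q := by
    rw [hQ0]
    ext a
    change e.symm (red n p a) ∈ Q0 ↔ (1 : p.ResidueField) ⊗ₜ[P] a ∈ Q0
    rw [hred]
  -- weak regularity in the local ring of the fibre
  haveI : IsNoetherianRing (Localization.AtPrime Q) :=
    IsLocalization.isNoetherianRing Q.primeCompl _ inferInstance
  have hK' : LCI.IsKoszulRegularSeq (Localization.AtPrime Q)
      ((F.map (red n p)).map (algebraMap _ (Localization.AtPrime Q))) :=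
    Groth.Agent.H39.KoszulFlatBC.isKoszulRegularSeq_map_of_flat _
      ((RingHom.flat_algebraMap_iff).mpr (IsLocalization.flat _ Q.primeCompl)) _ hK
  have hC : IsWeaklyRegular (Localization.AtPrime Q)
      (F.map fun a => algebraMap _ (Localization.AtPrime Q) (red n p a)) := by
    have h1 := isWeaklyRegular_of_koszul_of_mem_jacobson _ ?_ hK'
    · rwa [List.map_map] at h1
    · intro x hx
      rw [List.map_map] at hx
      obtain ⟨a, ha, rfl⟩ := List.mem_map.mp hx
      rw [IsLocalRing.ringJacobson_eq_maximalIdeal]
      change algebraMap _ (Localization.AtPrime Q) (red n p a) ∈ _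
      rw [IsLocalization.AtPrime.to_map_mem_maximal_iff _ Q]
      have : a ∈ Q.comap (red n p) := by rw [hQq]; exact hF a ha
      exact this
  have key : ∀ (q' : Ideal (MvPolynomial (Fin n) P)) [hq : q'.IsPrime], Q.comap (red n p) = q' →
      IsWeaklyRegular (Localization.AtPrime q') (F.map (algebraMap _ (Localization.AtPrime q'))) ∧
      Module.Flat P (Localization.AtPrime q' ⧸
        Ideal.ofList (F.map (algebraMap _ (Localization.AtPrime q')))) := by
    rintro q' hq rfl
    exact isWeaklyRegular_and_flat_atPrime' n p Q F hC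
  exact key q hQq

end Groth.Agent.H39.SyntSrcFibre
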