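import Mathlib
import Groth.Prelude.Def_LCI2
import Groth.Agent.H94.RegDescentKoszul
import Groth.Agent.H39.LCIComp
import Groth.Agent.H39.SyntSrcFibre
import Groth.Agent.H39.SyntSrcExch
import Groth.Agent.H47.CI.Rows4
import Groth.Agent.S15821

/-!
# Descent of Koszul-regular ideals along a flat lift of a syntomic presentation (helper39; S9730)
-/

set_option autoImplicit false
set_option linter.style.haveILetI false
universe u

namespace Groth.Agent.H39.SyntSrcDesc

open Groth.Agent.H94.RegDescent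

/-- Descent of Koszul-regularity of an ideal along a flat finitely presented map, near a point in
the image. -/
theorem exists_away_koszul_of_flat {P T : Type u} [CommRing P] [CommRing T] [Algebra P T]
    [Module.Flat P T] [Algebra.FinitePresentation P T] (I : Ideal P)
    (hI : LCI.IsKoszulRegularIdeal (I.map (algebraMap P T))) (𝔱 : Ideal T) [𝔱.IsPrime] :
    ∃ h : P, algebraMap P T h ∉ 𝔱 ∧
      LCI.IsKoszulRegularIdeal (I.map (algebraMap P (Localization.Away h))) := by
  have hopen : IsOpenMap (PrimeSpectrum.comap (algebraMap P T)) :=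
    PrimeSpectrum.isOpenMap_comap_of_hasGoingDown_of_finitePresentation
  have hU : IsOpen (Set.range (PrimeSpectrum.comap (algebraMap P T))) := hopen.isOpen_range
  have hmem : PrimeSpectrum.comap (algebraMap P T) ⟨𝔱, inferInstance⟩ ∈
      Set.range (PrimeSpectrum.comap (algebraMap P T)) := ⟨_, rfl⟩
  obtain ⟨_, ⟨h, rfl⟩, hh, hsub⟩ :=
    PrimeSpectrum.isTopologicalBasis_basic_opens.exists_subset_of_mem_open hmem hU
  refine ⟨h, hh, ?_⟩
  let Ph := Localization.Away h
  let Th := Localization.Away (algebraMap P T h)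
  let χ : P →+* Th := (algebraMap T Th).comp (algebraMap P T)
  have hχflat : χ.Flat :=
    RingHom.Flat.comp ((RingHom.flat_algebraMap_iff (R := P) (S := T)).mpr inferInstance)
      (flat_algebraMap_of_isLocalization (Submonoid.powers (algebraMap P T h)) _)
  obtain ⟨ψ, hψflat, hψ⟩ := exists_lift_flat (S := Ph) (Submonoid.powers h) χ hχflat (by
    rintro ⟨_, k, rfl⟩
    rw [map_pow]
    exact (IsLocalization.Away.algebraMap_isUnit (S := Th) (algebraMap P T h)).pow k)
  -- surjectivity on spectra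
  have hsurj : Function.Surjective (PrimeSpectrum.comap ψ) := by
    intro 𝔭₂
    have h1 : PrimeSpectrum.comap (algebraMap P Ph) 𝔭₂ ∈ PrimeSpectrum.basicOpen h := by
      change h ∉ 𝔭₂.asIdeal.comap (algebraMap P Ph)
      intro hmem
      exact 𝔭₂.2.ne_top (Ideal.eq_top_of_isUnit_mem _ hmem
        (IsLocalization.Away.algebraMap_isUnit h))
    obtain ⟨𝔱₂, h𝔱₂⟩ := hsub h1
    have hdisj : Disjoint (Submonoid.powers (algebraMap P T h) : Set T) (𝔱₂.asIdeal : Set T) := by
      rw [Set.disjoint_left]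
      rintro _ ⟨k, rfl⟩ hmem
      have h2 : algebraMap P T h ∈ 𝔱₂.asIdeal := 𝔱₂.2.mem_of_pow_mem k hmem
      have h3 : h ∈ (PrimeSpectrum.comap (algebraMap P T) 𝔱₂).asIdeal := h2
      rw [h𝔱₂] at h3
      exact h1 h3
    have hprime : (𝔱₂.asIdeal.map (algebraMap T Th)).IsPrime :=
      IsLocalization.isPrime_of_isPrime_disjoint (Submonoid.powers (algebraMap P T h)) Th _ 𝔱₂.2 hdisj
    have hcomap : (𝔱₂.asIdeal.map (algebraMap T Th)).comap (algebraMap T Th) = 𝔱₂.asIdeal :=
      IsLocalization.under_map_of_isPrime_disjoint (Submonoid.powers (algebraMap P T h)) Th 𝔱₂.2 hdisj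
    refine ⟨⟨𝔱₂.asIdeal.map (algebraMap T Th), hprime⟩, ?_⟩
    apply PrimeSpectrum.localization_comap_injective Ph (Submonoid.powers h)
    rw [← h𝔱₂]
    apply PrimeSpectrum.ext
    change Ideal.comap (algebraMap P Ph) (Ideal.comap ψ (𝔱₂.asIdeal.map (algebraMap T Th))) =
      Ideal.comap (algebraMap P T) 𝔱₂.asIdeal
    rw [Ideal.comap_comap, hψ, ← Ideal.comap_comap, hcomap]
  have hmap : (I.map (algebraMap P Ph)).map ψ = (I.map (algebraMap P T)).map (algebraMap T Th) := by
    rw [Ideal.map_map, hψ, Ideal.map_map]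
  have hloc : LocGen (fun R _ l => LCI.IsKoszulRegularSeq R l) ((I.map (algebraMap P Ph)).map ψ) := by
    rw [hmap]
    exact Groth.Agent.H39.LCIComp.isKoszulRegularIdeal_map_of_flat _
      (flat_algebraMap_of_isLocalization (Submonoid.powers (algebraMap P T h)) _) _ hI
  exact main ψ (I.map (algebraMap P Ph)) descOK_koszul hψflat hsurj hloc

/-- **Core**: `P ↠ A` with kernel `I₀`, `F` a list in `P[x]` whose image in `A[x]` is
Koszul-regular with `A`-flat quotient, and `J = I₀ P[x] + (F)` a Koszul-regular ideal.  Then `I₀` is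
a Koszul-regular ideal near the image of every prime of `V(J)`. -/
theorem core {P A : Type u} [CommRing P] [CommRing A] (πP : P →+* A)
    (hπ : Function.Surjective πP) (n : ℕ) (F : List (MvPolynomial (Fin n) P))
    (hJ : LCI.IsKoszulRegularIdeal ((RingHom.ker πP).map (MvPolynomial.C) ⊔ Ideal.ofList F))
    (hreg : LCI.IsKoszulRegularSeq (MvPolynomial (Fin n) A) (F.map (MvPolynomial.map πP)))
    (hflat : Module.Flat A (MvPolynomial (Fin n) A ⧸ Ideal.ofList (F.map (MvPolynomial.map πP))))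
    (𝔮 : Ideal (MvPolynomial (Fin n) P)) [𝔮.IsPrime]
    (h𝔮 : (RingHom.ker πP).map (MvPolynomial.C) ⊔ Ideal.ofList F ≤ 𝔮) :
    ∃ h : P, MvPolynomial.C h ∉ 𝔮 ∧
      LCI.IsKoszulRegularIdeal ((RingHom.ker πP).map (algebraMap P (Localization.Away h))) := by
  classical
  let Q := MvPolynomial (Fin n) P
  let ι : P →+* Q := MvPolynomial.C
  let π : Q →+* MvPolynomial (Fin n) A := MvPolynomial.map πP
  have hπsurj : Function.Surjective π := MvPolynomial.map_surjective πP hπ
  have hkerπ : RingHom.ker π = (RingHom.ker πP).map ι := MvPolynomial.ker_map πP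
  -- fibrewise regularity
  have hM1 : ∀ (𝔮' : Ideal Q) [𝔮'.IsPrime], (RingHom.ker πP).map ι ⊔ Ideal.ofList F ≤ 𝔮' →
      LCI.IsKoszulRegularSeq (Localization.AtPrime 𝔮')
        (F.map (algebraMap Q (Localization.AtPrime 𝔮'))) ∧
      Module.Flat P (Localization.AtPrime 𝔮' ⧸
        Ideal.ofList (F.map (algebraMap Q (Localization.AtPrime 𝔮')))) := by
    intro 𝔮' _ h𝔮'
    obtain ⟨h1, h2⟩ := Groth.Agent.H39.SyntSrcFibre.fibre_regular πP hπ n F hreg hflat 𝔮'
      (by rw [hkerπ]; exact le_trans le_sup_left h𝔮')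
      (fun x hx => h𝔮' (Ideal.mem_sup_right (Ideal.subset_span hx)))
    exact ⟨(Groth.Agent.S15821.result _ _ h1).1, h2⟩
  -- the quotient `T₀ = Q ⧸ (F)`
  have hT₀ := Groth.Agent.H39.SyntSrcExch.isKoszulRegularIdeal_map_quot ι (RingHom.ker πP) F π
    hπsurj hkerπ hJ hreg (fun 𝔮' _ h => (hM1 𝔮' h).1)
  let T₀ := Q ⧸ Ideal.ofList F
  let mk : Q →+* T₀ := Ideal.Quotient.mk (Ideal.ofList F)
  have halg : algebraMap P T₀ = mk.comp ι := by
    ext x
    rfl
  haveI : Algebra.FinitePresentation P T₀ :=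
    Algebra.FinitePresentation.quotient (ofList_fg F)
  have hmkker : RingHom.ker mk ≤ 𝔮 := by
    rw [Ideal.mk_ker]; exact le_trans le_sup_right h𝔮
  haveI h𝔱₀ : (𝔮.map mk).IsPrime :=
    Ideal.map_isPrime_of_surjective Ideal.Quotient.mk_surjective hmkker
  -- flatness at `𝔱₀`
  have hflat𝔱₀ : Module.Flat P (Localization.AtPrime (𝔮.map mk)) := by
    apply Groth.Agent.H46.RelGCIFlat.flat_localization_of_surjective
      (Ideal.Quotient.mkₐ P (Ideal.ofList F)) Ideal.Quotient.mk_surjective (𝔮.map mk)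
    have h1 : (RingHom.ker πP).map ι ⊔ Ideal.ofList F ≤
        (𝔮.map mk).comap (Ideal.Quotient.mkₐ P (Ideal.ofList F)).toRingHom :=
      le_trans h𝔮 Ideal.le_comap_map
    have h2 := (hM1 _ h1).2
    have h3 : (RingHom.ker (Ideal.Quotient.mkₐ P (Ideal.ofList F)).toRingHom).map
        (algebraMap Q (Localization.AtPrime
          ((𝔮.map mk).comap (Ideal.Quotient.mkₐ P (Ideal.ofList F)).toRingHom))) =
        Ideal.ofList (F.map (algebraMap Q _)) := by
      rw [← Ideal.map_ofList]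
      congr 1
      exact Ideal.mk_ker
    rw [h3]
    exact h2
  obtain ⟨g, hg, hflatg⟩ := Groth.Agent.H47.CI.exists_flat_away_of_fp P T₀ (𝔮.map mk) hflat𝔱₀
  let T₁ := Localization.Away g
  haveI : Module.Flat P T₁ := hflatg
  haveI : Algebra.FinitePresentation P T₁ :=
    Algebra.FinitePresentation.trans P T₀ T₁
  have hI₁ : LCI.IsKoszulRegularIdeal ((RingHom.ker πP).map (algebraMap P T₁)) := by
    rw [IsScalarTower.algebraMap_eq P T₀ T₁, ← Ideal.map_map, halg]
    exact Groth.Agent.H39.LCIComp.isKoszulRegularIdeal_map_of_flat _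
      (flat_algebraMap_of_isLocalization (Submonoid.powers g) _) _ hT₀
  have hdisj : Disjoint (Submonoid.powers g : Set T₀) ((𝔮.map mk : Ideal T₀) : Set T₀) := by
    rw [Set.disjoint_left]
    rintro _ ⟨k, rfl⟩ hmem
    exact hg (h𝔱₀.mem_of_pow_mem k hmem)
  haveI h𝔱₁ : ((𝔮.map mk).map (algebraMap T₀ T₁)).IsPrime :=
    IsLocalization.isPrime_of_isPrime_disjoint (Submonoid.powers g) T₁ _ h𝔱₀ hdisj
  have hcomap₁ : ((𝔮.map mk).map (algebraMap T₀ T₁)).comap (algebraMap T₀ T₁) = 𝔮.map mk :=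
    IsLocalization.under_map_of_isPrime_disjoint (Submonoid.powers g) T₁ h𝔱₀ hdisj
  obtain ⟨h, hh, hK⟩ := exists_away_koszul_of_flat (RingHom.ker πP) hI₁
    ((𝔮.map mk).map (algebraMap T₀ T₁))
  refine ⟨h, ?_, hK⟩
  intro hC
  apply hh
  rw [IsScalarTower.algebraMap_apply P T₀ T₁]
  apply Ideal.mem_map_of_mem
  rw [halg]
  exact Ideal.mem_map_of_mem mk hC

end Groth.Agent.H39.SyntSrcDesc
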