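import Mathlib
import Groth.Prelude.Def_LCI2
import Groth.Agent.H46.LCISynt
import Groth.Agent.H39.SyntSrcDesc
import Groth.Agent.H39.KoszulPresMain
import Groth.Agent.H39.LCISmooth2
import Groth.Agent.H39.KoszulLoc

/-!
# lci descends along flat lci covers of the source: ring level (helper39; S9730)
-/

set_option autoImplicit false
set_option linter.style.haveILetI false
universe u

open MvPolynomial

namespace Groth.Agent.H39.SyntSrcRing

open Groth.Agent.H39.LCIMor

/-- Around every prime of an lci algebra `S` over `R`, a principal localization of `S` has a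
presentation `R[x_1..x_n] ⧸ (F)` by a (globally) Koszul-regular sequence `F`.
(Extracted from the proof of `Groth.Agent.H46.LCISynt.exists_away_isSyntomic`.) -/
theorem exists_away_koszul_pres (R S : Type u) [CommRing R] [CommRing S] [Algebra R S]
    (h : LCI.IsLCI R S) (q : Ideal S) [q.IsPrime] :
    ∃ g : S, g ∉ q ∧ ∃ (n : ℕ) (Fb : List (MvPolynomial (Fin n) R)),
      LCI.IsKoszulRegularSeq (MvPolynomial (Fin n) R) Fb ∧
      Nonempty ((MvPolynomial (Fin n) R ⧸ Ideal.ofList Fb) ≃ₐ[R] Localization.Away g) := by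
  obtain ⟨-, n, f, hf, hK⟩ := h
  obtain ⟨G, hGq, l, hl, hIl⟩ := hK ⟨q.comap f.toRingHom, inferInstance⟩ (by
    intro x hx
    rw [RingHom.mem_ker] at hx
    change f.toRingHom x ∈ q
    rw [hx]
    exact zero_mem _)
  obtain ⟨F, hFI, hspan, hsat⟩ :=
    Groth.Agent.H39.KoszulLoc.exists_numerators _ G (Localization.Away G) l hIl
  have hreg : LCI.IsKoszulRegularSeq (Localization.Away G)
      ((List.ofFn F).map (algebraMap _ (Localization.Away G))) := by
    refine Groth.Agent.H79.KoszulMinGen.regular_of_length_eq l _ hl ?_ ?_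
    · unfold Ideal.ofList
      rw [← hspan]
      congr 1
      ext x
      simp [List.mem_ofFn]
    · simp
  have hkos := Groth.Agent.H46.LCISynt.koszul_ext R n l.length F G hreg
  have hFker : ∀ a ∈ Ideal.span (Set.range F), f a = 0 := by
    intro a ha
    have hle : Ideal.span (Set.range F) ≤ RingHom.ker f.toRingHom := by
      rw [Ideal.span_le]
      rintro _ ⟨i, rfl⟩
      exact hFI i
    exact hle ha
  obtain ⟨fbar, hfbar⟩ : ∃ fbar : Synt.RelGCIRing R n l.length F →ₐ[R] S,
      fbar = Ideal.Quotient.liftₐ (Ideal.span (Set.range F)) f hFker := ⟨_, rfl⟩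
  have hfbar_mk : ∀ a, fbar (Ideal.Quotient.mk _ a) = f a := by
    intro a
    rw [hfbar]
    rfl
  have hfbar_surj : Function.Surjective fbar := by
    intro s
    obtain ⟨a, rfl⟩ := hf s
    exact ⟨Ideal.Quotient.mk _ a, hfbar_mk a⟩
  obtain ⟨g₀, hg₀⟩ : ∃ g₀ : Synt.RelGCIRing R n l.length F,
      g₀ = Ideal.Quotient.mk (Ideal.span (Set.range F)) G := ⟨_, rfl⟩
  have hg₀f : fbar g₀ = f G := by rw [hg₀, hfbar_mk]
  refine ⟨fbar g₀, ?_, n + 1, List.ofFn (Groth.Agent.H46.RelGCIAway.ext n l.length F G), hkos, ?_⟩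
  · rw [hg₀f]
    exact hGq
  have hinj : Function.Injective
      (IsLocalization.Away.mapₐ (R := R) (Localization.Away g₀) (Localization.Away (fbar g₀))
        fbar g₀) := by
    have h1 : Function.Injective (IsLocalization.Away.map (Localization.Away g₀)
        (Localization.Away (fbar g₀)) fbar.toRingHom g₀) := by
      rw [IsLocalization.Away.map_injective_iff]
      intro a ha
      obtain ⟨k, rfl⟩ := Ideal.Quotient.mk_surjective a
      have hk : k ∈ RingHom.ker f.toRingHom := by
        rw [RingHom.mem_ker]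
        exact (hfbar_mk k).symm.trans ha
      obtain ⟨N, hN⟩ := hsat k hk
      refine ⟨N, ?_⟩
      rw [hg₀, ← map_pow, ← map_mul, Ideal.Quotient.eq_zero_iff_mem]
      exact hN
    exact h1
  have hsurj : Function.Surjective
      (IsLocalization.Away.mapₐ (R := R) (Localization.Away g₀) (Localization.Away (fbar g₀))
        fbar g₀) :=
    IsLocalization.Away.mapₐ_surjective_of_surjective g₀ hfbar_surj
  have E1 : Localization.Away g₀ ≃ₐ[R] Localization.Away (fbar g₀) :=
    AlgEquiv.ofBijective _ ⟨hinj, hsurj⟩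
  have E2 : Localization.Away g₀ ≃ₐ[R]
      Synt.RelGCIRing R (n + 1) (l.length + 1) (Groth.Agent.H46.RelGCIAway.ext n l.length F G) := by
    rw [hg₀]
    exact Groth.Agent.H46.RelGCIAway.equiv n l.length F G
  have E : Synt.RelGCIRing R (n + 1) (l.length + 1)
      (Groth.Agent.H46.RelGCIAway.ext n l.length F G) ≃ₐ[R] Localization.Away (fbar g₀) :=
    E2.symm.trans E1
  have hid : Ideal.ofList (List.ofFn (Groth.Agent.H46.RelGCIAway.ext n l.length F G)) =
      Ideal.span (Set.range (Groth.Agent.H46.RelGCIAway.ext n l.length F G)) := by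
    unfold Ideal.ofList
    congr 1
    ext x
    simp only [Set.mem_ofPred_eq, List.mem_ofFn, Set.mem_range]
  exact ⟨(Ideal.quotientEquivAlgOfEq R hid).trans E⟩

/-- The kernel of a surjection from an iterated polynomial ring over `R` onto an lci `R`-algebra is
Koszul-regular. -/
theorem isKoszulRegularIdeal_ker_nested (R B : Type u) [CommRing R] [CommRing B] [Algebra R B]
    (h : LCI.IsLCI R B) (k n : ℕ)
    (γ : MvPolynomial (Fin n) (MvPolynomial (Fin k) R) →ₐ[R] B) (hγ : Function.Surjective γ) :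
    LCI.IsKoszulRegularIdeal (RingHom.ker γ.toRingHom) := by
  obtain ⟨-, n', α', hα', hK'⟩ := h
  let Θ : MvPolynomial (Fin (n + k)) R ≃ₐ[R] MvPolynomial (Fin n) (MvPolynomial (Fin k) R) :=
    (renameEquiv R finSumFinEquiv.symm).trans (sumAlgEquiv R (Fin n) (Fin k))
  have h1 := Groth.Agent.H39.KoszulPresMain.isKoszulRegularIdeal_ker_of_other_presentation R B
    n' (n + k) α' hα' (γ.comp Θ.toAlgHom) (hγ.comp Θ.surjective) hK'
  have h2 := Groth.Agent.H39.KoszulPres.isKoszulRegularIdeal_map_ringEquiv Θ.toRingEquiv _ h1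
  have h3 : Ideal.map Θ.toRingEquiv.toRingHom (RingHom.ker (γ.comp Θ.toAlgHom).toRingHom) =
      RingHom.ker γ.toRingHom := by
    have h4 : RingHom.ker (γ.comp Θ.toAlgHom).toRingHom =
        (RingHom.ker γ.toRingHom).comap Θ.toRingEquiv.toRingHom := by
      rw [RingHom.comap_ker]
      rfl
    rw [h4]
    exact Ideal.map_comap_of_surjective _ Θ.surjective _
  rwa [h3] at h2

/-- **Ring-level statement**: `R → A` of finite type, `A → B` flat and lci, `R → B` lci.  Then
`R → A` is lci in a principal open neighbourhood of the image of every prime of `B`. -/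
theorem exists_isLCI_away (R A B : Type u) [CommRing R] [CommRing A] [CommRing B]
    [Algebra R A] [Algebra A B] [Algebra R B] [IsScalarTower R A B]
    (hft : Algebra.FiniteType R A) (hflat : Module.Flat A B) (hAB : LCI.IsLCI A B)
    (hRB : LCI.IsLCI R B) (𝔭' : Ideal B) [𝔭'.IsPrime] :
    ∃ a : A, algebraMap A B a ∉ 𝔭' ∧ LCI.IsLCI R (Localization.Away a) := by
  classical
  obtain ⟨g, hg, n, Fb, hFb, ⟨E⟩⟩ := exists_away_koszul_pres A B hAB 𝔭'
  let B₁ := Localization.Away g
  haveI : IsScalarTower R A B₁ := IsScalarTower.to₁₂₄ R A B B₁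
  have hRB₁ : LCI.IsLCI R B₁ := Groth.Agent.H39.LCIComp.isLCI_trans R B B₁ hRB
    (Groth.Agent.H39.LCISmooth2.isLCI_localizationAway g)
  haveI hflat₁ : Module.Flat A B₁ := Module.Flat.trans A B B₁
  -- the presentation of `B₁` over `A`
  let β : MvPolynomial (Fin n) A →ₐ[A] B₁ :=
    E.toAlgHom.comp (Ideal.Quotient.mkₐ A (Ideal.ofList Fb))
  have hβsurj : Function.Surjective β := E.surjective.comp Ideal.Quotient.mk_surjective
  have hβker : RingHom.ker β.toRingHom = Ideal.ofList Fb := by
    ext x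
    rw [RingHom.mem_ker]
    change E (Ideal.Quotient.mk _ x) = 0 ↔ _
    rw [map_eq_zero_iff E E.injective, Ideal.Quotient.eq_zero_iff_mem]
  have hflatQ : Module.Flat A (MvPolynomial (Fin n) A ⧸ Ideal.ofList Fb) :=
    Module.Flat.of_linearEquiv E.toLinearEquiv
  -- the presentation of `A` over `R`
  obtain ⟨k, α₀, hα₀⟩ := Algebra.FiniteType.iff_quotient_mvPolynomial''.mp hft
  let P := MvPolynomial (Fin k) R
  let πP : P →+* A := α₀.toRingHom
  let π : MvPolynomial (Fin n) P →+* MvPolynomial (Fin n) A := MvPolynomial.map πP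
  have hπsurj : Function.Surjective π := MvPolynomial.map_surjective πP hα₀
  obtain ⟨F, hF⟩ := (List.map_surjective_iff.mpr hπsurj) Fb
  let γ : MvPolynomial (Fin n) P →ₐ[R] B₁ :=
    (β.restrictScalars R).comp (MvPolynomial.mapAlgHom α₀)
  have hγ : γ.toRingHom = β.toRingHom.comp π := rfl
  have hγsurj : Function.Surjective γ := hβsurj.comp hπsurj
  have hkerγ : RingHom.ker γ.toRingHom = (RingHom.ker πP).map MvPolynomial.C ⊔ Ideal.ofList F := by
    rw [hγ, ← RingHom.comap_ker, hβker, ← hF, ← Ideal.map_ofList,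
      Ideal.comap_map_of_surjective' π hπsurj, MvPolynomial.ker_map, sup_comm]
  have hJ : LCI.IsKoszulRegularIdeal ((RingHom.ker πP).map MvPolynomial.C ⊔ Ideal.ofList F) := by
    rw [← hkerγ]
    exact isKoszulRegularIdeal_ker_nested R B₁ hRB₁ k n γ hγsurj
  -- the prime
  have hdisj : Disjoint (Submonoid.powers g : Set B) (𝔭' : Set B) := by
    rw [Set.disjoint_left]
    rintro _ ⟨j, rfl⟩ hmem
    exact hg ((inferInstance : 𝔭'.IsPrime).mem_of_pow_mem j hmem)
  haveI h𝔭₁ : (𝔭'.map (algebraMap B B₁)).IsPrime :=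
    IsLocalization.isPrime_of_isPrime_disjoint (Submonoid.powers g) B₁ _ inferInstance hdisj
  let 𝔮 : Ideal (MvPolynomial (Fin n) P) := (𝔭'.map (algebraMap B B₁)).comap γ.toRingHom
  haveI : 𝔮.IsPrime := Ideal.comap_isPrime _ _
  have h𝔮 : (RingHom.ker πP).map MvPolynomial.C ⊔ Ideal.ofList F ≤ 𝔮 := by
    rw [← hkerγ]
    intro x hx
    change γ.toRingHom x ∈ 𝔭'.map (algebraMap B B₁)
    rw [(RingHom.mem_ker).mp hx]
    exact Ideal.zero_mem _
  obtain ⟨h, hh, hK⟩ := Groth.Agent.H39.SyntSrcDesc.core πP hα₀ n F hJ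
    (by rw [hF]; exact hFb) (by rw [hF]; exact hflatQ) 𝔮 h𝔮
  refine ⟨πP h, ?_, ?_⟩
  · intro hmem
    apply hh
    change γ (MvPolynomial.C h) ∈ 𝔭'.map (algebraMap B B₁)
    have h1 : γ (MvPolynomial.C h) = algebraMap B B₁ (algebraMap A B (πP h)) := by
      change β (MvPolynomial.map πP (MvPolynomial.C h)) = _
      rw [MvPolynomial.map_C, ← MvPolynomial.algebraMap_eq, β.commutes,
        IsScalarTower.algebraMap_apply A B B₁]
    rw [h1]
    exact Ideal.mem_map_of_mem _ hmem
  · have h1 : LCI.IsLCI R (Localization.Away h) :=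
      Groth.Agent.H39.LCIComp.isLCI_trans R P (Localization.Away h)
        (Groth.Agent.H39.LCISmooth2.isLCI_mvPolynomial k)
        (Groth.Agent.H39.LCISmooth2.isLCI_localizationAway h)
    obtain ⟨hs, hk⟩ := Groth.Agent.H39.KoszulLoc.away_map_surjective_ker πP hα₀ h
      (Localization.Away h) (Localization.Away (πP h))
    have h2 : IsLCIHom (IsLocalization.Away.map (Localization.Away h)
        (Localization.Away (πP h)) πP h) :=
      Groth.Agent.H39.LCISmooth.isLCIHom_of_surjective _ hs (by rw [hk]; exact hK)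
    have h3 : IsLCIHom (algebraMap R (Localization.Away h)) :=
      (isLCIHom_iff_of_algebraMap_eq _ rfl).mp h1
    have h4 := isLCIHom_comp _ _ h3 h2
    refine (isLCIHom_iff_of_algebraMap_eq _ ?_).mpr h4
    ext r
    rw [RingHom.comp_apply, IsScalarTower.algebraMap_apply R P (Localization.Away h),
      IsLocalization.Away.map, IsLocalization.map_eq,
      IsScalarTower.algebraMap_apply R A (Localization.Away (πP h))]
    congr 1
    exact (α₀.commutes r).symm

end Groth.Agent.H39.SyntSrcRing
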