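import Mathlib
import Groth.Prelude.Def_RegImm
import Groth.Agent.H39.SyntSrcRing
import Groth.Agent.H94.KoszulAtDescent
import Groth.Agent.H53.LftFppfSource2
import Groth.Agent.H47.CI.CIMor
import Groth.Agent.H47.CI.SchemeMain
import Groth.Agent.S9758

/-!
# lci is syntomic-local on the source: geometric statement (helper39; S9730)
-/

set_option autoImplicit false
set_option linter.style.haveILetI false
universe u

open AlgebraicGeometry CategoryTheory CategoryTheory.Limits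
open Groth.Agent.H39.LCIMor

namespace Groth.Agent.H39.SyntSrcGeom

/-- A morphism which is Koszul at every point is locally of finite type. -/
theorem locallyOfFiniteType_of_isKoszulAt {X Y : Scheme.{u}} (f : X ⟶ Y)
    (h : ∀ x : X, Synt.IsKoszulAt f x) : LocallyOfFiniteType f := by
  have hQ : RingHom.StableUnderCompositionWithLocalizationAwaySource
      @RingHom.FiniteType :=
    (RingHom.finiteType_stableUnderComposition.stableUnderCompositionWithLocalizationAway
      RingHom.finiteType_holdsForLocalizationAway).1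
  rw [HasRingHomProperty.iff_exists_appLE (P := @LocallyOfFiniteType) hQ]
  intro x
  have htop : f x ∈ (⊤ : Y.Opens) := trivial
  obtain ⟨V, hV, hxV, -⟩ :=
    (TopologicalSpace.Opens.isBasis_iff_nbhd.mp Y.isBasis_affineOpens) htop
  obtain ⟨U, hU, e, hxU, hlci⟩ :=
    Groth.Agent.H39.KoszulAtBridge3.exists_isLCIHom_appLE_of_isKoszulAt f x (h x) V hV hxV
  exact ⟨⟨V, hV⟩, ⟨U, hU⟩, hxU, e, hlci.1⟩

/-- **lci descends along a syntomic surjection on the source.** -/
theorem isKoszulAt_of_syntomic_surjective_precomp {X' X Y : Scheme.{u}} (g : X' ⟶ X)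
    (hg : Synt.IsSyntomicMor g) [Surjective g] (f : X ⟶ Y)
    (hgf : ∀ x' : X', Synt.IsKoszulAt (g ≫ f) x') : ∀ x : X, Synt.IsKoszulAt f x := by
  haveI hgflat : Flat g := Groth.Agent.H47.CI.flat_of_isSyntomicMor g hg
  haveI hglfp : LocallyOfFinitePresentation g :=
    Groth.Agent.H47.CI.locallyOfFinitePresentation_of_isSyntomicMor g hg
  have hgK : ∀ x' : X', Synt.IsKoszulAt g x' := ((Groth.Agent.S9758.result g).mpr hg).2
  haveI hgflft : LocallyOfFiniteType (g ≫ f) := locallyOfFiniteType_of_isKoszulAt _ hgf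
  haveI hlft : LocallyOfFiniteType f :=
    Groth.Agent.H53.locallyOfFiniteType_of_fppf_family f (fun _ : Unit => X') (fun _ => g)
      (fun _ => hgflat) (fun _ => hglfp) (fun _ => hgflft)
      (fun x => ⟨(), (inferInstance : Surjective g).surj x⟩)
  intro x
  obtain ⟨x', rfl⟩ := (inferInstance : Surjective g).surj x
  -- affine charts
  have htop : f (g x') ∈ (⊤ : Y.Opens) := trivial
  obtain ⟨V, hV, hxV, -⟩ :=
    (TopologicalSpace.Opens.isBasis_iff_nbhd.mp Y.isBasis_affineOpens) htop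
  obtain ⟨U, hU, hxU, hUV⟩ :=
    (TopologicalSpace.Opens.isBasis_iff_nbhd.mp X.isBasis_affineOpens)
      (show g x' ∈ f ⁻¹ᵁ V from hxV)
  obtain ⟨U', hU', hxU', hU'U⟩ :=
    (TopologicalSpace.Opens.isBasis_iff_nbhd.mp X'.isBasis_affineOpens)
      (show x' ∈ g ⁻¹ᵁ U from hxU)
  have hU'V : U' ≤ (g ≫ f) ⁻¹ᵁ V := fun y hy => hUV (hU'U hy)
  let φ₁ : Γ(Y, V) →+* Γ(X, U) := (f.appLE V U hUV).hom
  let φ₂ : Γ(X, U) →+* Γ(X', U') := (g.appLE U U' hU'U).hom
  have hcomp : φ₂.comp φ₁ = ((g ≫ f).appLE V U' hU'V).hom := by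
    rw [← Scheme.Hom.appLE_comp_appLE g f V U U' hUV hU'U]
    rfl
  letI alg1 : Algebra Γ(Y, V) Γ(X, U) := φ₁.toAlgebra
  letI alg2 : Algebra Γ(X, U) Γ(X', U') := φ₂.toAlgebra
  letI alg3 : Algebra Γ(Y, V) Γ(X', U') := (φ₂.comp φ₁).toAlgebra
  haveI : IsScalarTower Γ(Y, V) Γ(X, U) Γ(X', U') := IsScalarTower.of_algebraMap_eq (fun _ => rfl)
  have hft : Algebra.FiniteType Γ(Y, V) Γ(X, U) :=
    HasRingHomProperty.appLE (P := @LocallyOfFiniteType) f inferInstance ⟨V, hV⟩ ⟨U, hU⟩ hUV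
  have hflat : Module.Flat Γ(X, U) Γ(X', U') :=
    HasRingHomProperty.appLE (P := @Flat) g inferInstance ⟨U, hU⟩ ⟨U', hU'⟩ hU'U
  have hAB : LCI.IsLCI Γ(X, U) Γ(X', U') :=
    Groth.Agent.H94.KoszulAtDescent.isLCIHom_appLE_of_isKoszulAt g hgK U' U hU' hU hU'U
  have hRB : LCI.IsLCI Γ(Y, V) Γ(X', U') := by
    have h1 := Groth.Agent.H94.KoszulAtDescent.isLCIHom_appLE_of_isKoszulAt (g ≫ f) hgf U' V hU'
      hV hU'V
    rw [← hcomp] at h1
    exact h1
  obtain ⟨a, ha, hLCI⟩ := Groth.Agent.H39.SyntSrcRing.exists_isLCI_away Γ(Y, V) Γ(X, U) Γ(X', U')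
    hft hflat hAB hRB (hU'.primeIdealOf ⟨x', hxU'⟩).asIdeal
  -- the point lies in `D(a)`
  have hx'a : x' ∈ X'.basicOpen (g.appLE U U' hU'U a) :=
    Groth.Agent.H47.CI.mem_basicOpen_of_notMem X' U' hU' x' hxU' _ ha
  have hxa : g x' ∈ X.basicOpen a := by
    rw [Scheme.basicOpen_appLE] at hx'a
    exact hx'a.2
  have hle : X.basicOpen a ≤ f ⁻¹ᵁ V := (X.basicOpen_le a).trans hUV
  refine Groth.Agent.H39.KoszulAtBridge2.isKoszulAt_of_isLCIHom_appLE f (g x') (X.basicOpen a)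
    (hU.basicOpen a) V hV hle hxa ?_
  have h4 : (X.presheaf.map (homOfLE (X.basicOpen_le a)).op).hom.comp (f.appLE V U hUV).hom =
      (f.appLE V (X.basicOpen a) hle).hom := by
    rw [← CommRingCat.hom_comp, Scheme.Hom.appLE_map]
  rw [← h4]
  haveI := hU.isLocalization_basicOpen a
  let e : Localization.Away a ≃ₐ[Γ(X, U)] Γ(X, X.basicOpen a) :=
    IsLocalization.algEquiv (Submonoid.powers a) _ _
  have h5 : IsLCIHom ((algebraMap Γ(X, U) (Localization.Away a)).comp φ₁) :=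
    (isLCIHom_iff_of_algebraMap_eq _ (IsScalarTower.algebraMap_eq _ _ _)).mp hLCI
  have h6 := isLCIHom_ringEquiv_comp _ e.toRingEquiv h5
  have h7 : e.toRingEquiv.toRingHom.comp ((algebraMap Γ(X, U) (Localization.Away a)).comp φ₁) =
      (X.presheaf.map (homOfLE (X.basicOpen_le a)).op).hom.comp (f.appLE V U hUV).hom := by
    ext r
    exact e.commutes (φ₁ r)
  rwa [h7] at h6

end Groth.Agent.H39.SyntSrcGeom
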