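import Mathlib
import Groth.Agent.H43.TorLES
import Groth.Agent.H79.KoszulTor
import Groth.Agent.H79.KoszulNat
import Groth.Agent.H94.RegImmKinds
import Groth.Agent.H19.QuasiRegBC

set_option autoImplicit false
set_option linter.style.haveILetI false
universe u

open CategoryTheory CategoryTheory.Limits

namespace Groth.Agent.H39.TorPowers

open Groth.Agent.H43.TorLES

variable {A : Type u} [CommRing A] (S : ModuleCat.{u} A)

/-- `Tor_i(M, S) = 0` for all `i ≥ 1`. -/
def P (M : ModuleCat.{u} A) : Prop :=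
  ∀ i : ℕ, IsZero (((Tor (ModuleCat.{u} A) (i + 1)).obj M).obj S)

variable {S}

theorem P_of_iso {M M' : ModuleCat.{u} A} (e : M ≅ M') (h : P S M) : P S M' := fun i =>
  (h i).of_iso (((Tor (ModuleCat.{u} A) (i + 1)).mapIso e.symm).app S)

theorem P_mid (T : ShortComplex (ModuleCat.{u} A)) (hT : T.ShortExact) (h1 : P S T.X₁)
    (h3 : P S T.X₃) : P S T.X₂ := fun i => isZero_tor_mid T hT S (i + 1) (h1 i) (h3 i)

theorem P_left (T : ShortComplex (ModuleCat.{u} A)) (hT : T.ShortExact) (h3 : P S T.X₃)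
    (h2 : P S T.X₂) : P S T.X₁ := fun i => isZero_tor_left T hT S (i + 1) (h3 (i + 1)) (h2 i)

theorem P_flat (M : ModuleCat.{u} A) [Module.Flat A M] : P S M := fun i => isZero_tor_flat M S i

/-- the property passes to a short exact sequence given by linear maps -/
theorem P_mid' {M₁ M₂ M₃ : Type u} [AddCommGroup M₁] [Module A M₁] [AddCommGroup M₂] [Module A M₂]
    [AddCommGroup M₃] [Module A M₃] (f : M₁ →ₗ[A] M₂) (g : M₂ →ₗ[A] M₃)
    (hf : Function.Injective f) (hg : Function.Surjective g) (hfg : Function.Exact f g)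
    (h1 : P S (ModuleCat.of A M₁)) (h3 : P S (ModuleCat.of A M₃)) : P S (ModuleCat.of A M₂) := by
  let T : ShortComplex (ModuleCat.{u} A) := ShortComplex.mk (ModuleCat.ofHom f) (ModuleCat.ofHom g)
    (by ext x; exact hfg.apply_apply_eq_zero x)
  have hT : T.ShortExact := ModuleCat.shortComplex_shortExact T hfg hf hg
  exact P_mid T hT h1 h3

theorem P_left' {M₁ M₂ M₃ : Type u} [AddCommGroup M₁] [Module A M₁] [AddCommGroup M₂] [Module A M₂]
    [AddCommGroup M₃] [Module A M₃] (f : M₁ →ₗ[A] M₂) (g : M₂ →ₗ[A] M₃)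
    (hf : Function.Injective f) (hg : Function.Surjective g) (hfg : Function.Exact f g)
    (h3 : P S (ModuleCat.of A M₃)) (h2 : P S (ModuleCat.of A M₂)) : P S (ModuleCat.of A M₁) := by
  let T : ShortComplex (ModuleCat.{u} A) := ShortComplex.mk (ModuleCat.ofHom f) (ModuleCat.ofHom g)
    (by ext x; exact hfg.apply_apply_eq_zero x)
  have hT : T.ShortExact := ModuleCat.shortComplex_shortExact T hfg hf hg
  exact P_left T hT h3 h2

theorem P_of_linearEquiv {M M' : Type u} [AddCommGroup M] [Module A M] [AddCommGroup M']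
    [Module A M'] (e : M ≃ₗ[A] M') (h : P S (ModuleCat.of A M)) : P S (ModuleCat.of A M') :=
  P_of_iso e.toModuleIso h

/-- finite powers -/
theorem P_pi (N : Type u) [AddCommGroup N] [Module A N] (h : P S (ModuleCat.of A N)) :
    ∀ k : ℕ, P S (ModuleCat.of A (Fin k → N)) := by
  intro k
  induction k with
  | zero =>
    haveI : Module.Flat A (Fin 0 → N) := inferInstance
    exact P_flat _
  | succ k ih =>
    refine P_mid' (LinearMap.single A (fun _ : Fin (k + 1) => N) 0)
      (LinearMap.funLeft A N (Fin.succ : Fin k → Fin (k + 1))) ?_ ?_ ?_ h ih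
    · exact Pi.single_injective (M := fun _ : Fin (k + 1) => N) 0
    · intro g
      exact ⟨Fin.cons 0 g, by ext i; simp [LinearMap.funLeft]⟩
    · intro g
      constructor
      · intro hg
        refine ⟨g 0, ?_⟩
        ext i
        refine Fin.cases ?_ (fun j => ?_) i
        · simp
        · have := congrFun hg j
          simp only [LinearMap.funLeft_apply, Pi.zero_apply] at this
          simp [this]
      · rintro ⟨n, rfl⟩
        ext j
        simp [LinearMap.funLeft, Fin.succ_ne_zero]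

theorem P_finsupp (N : Type u) [AddCommGroup N] [Module A N] (h : P S (ModuleCat.of A N))
    (ι : Type) [Finite ι] : P S (ModuleCat.of A (ι →₀ N)) := by
  haveI := Fintype.ofFinite ι
  have e1 : (Fin (Fintype.card ι) → N) ≃ₗ[A] (ι → N) :=
    LinearEquiv.funCongrLeft A N (Fintype.equivFin ι)
  have e2 : (ι →₀ N) ≃ₗ[A] (ι → N) := Finsupp.linearEquivFunOnFinite A N ι
  exact P_of_linearEquiv (e1.trans e2.symm) (P_pi N h _)


section koszul

open Groth.Agent.H79.KoszulCone Groth.Agent.H79.KoszulTor Groth.Agent.H79.KoszulNat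

variable (A' : Type u) [CommRing A'] [Algebra A A']

/-- `A'` as an `A`-module: the two descriptions agree -/
noncomputable def ofIsoRestrict :
    ModuleCat.of A A' ≅ (ModuleCat.restrictScalars (algebraMap A A')).obj (ModuleCat.of A' A') := by
  let f : A' →ₗ[A] ((ModuleCat.restrictScalars (algebraMap A A')).obj (ModuleCat.of A' A')) :=
    { toFun := fun x => (x : A')
      map_add' := fun _ _ => rfl
      map_smul' := fun a x => by
        change a • x = algebraMap A A' a * x
        rw [Algebra.smul_def] }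
  have hf : Function.Bijective f := ⟨fun _ _ h => h, fun y => ⟨y, rfl⟩⟩
  exact (LinearEquiv.ofBijective f hf).toModuleIso

/-- `Tor_i(A/(fs), A') = 0` for `i ≥ 1` when `fs` is Koszul-regular in `A` and in `A'`. -/
theorem P_quot (fs : List A) (hfs : LCI.IsKoszulRegularSeq A fs)
    (hfs' : LCI.IsKoszulRegularSeq A' (fs.map (algebraMap A A'))) :
    P (ModuleCat.of A A') (ModuleCat.of A (A ⧸ Ideal.ofList fs)) := by
  intro i
  have hreg : ∀ j : ℤ, j ≠ 0 →
      IsZero ((CohIII.koszulCx (ModuleCat.of A A) fs).homology j) := by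
    intro j hj
    have h1 : IsZero ((Koszul.koszul A fs).homology j) := hfs j hj
    rwa [koszul_eq] at h1
  obtain ⟨e⟩ := nonempty_tor_equiv fs (Ideal.ofList fs) rfl hreg (ModuleCat.of A A') (i + 1)
  have hj : (-((i + 1 : ℕ) : ℤ)) ≠ 0 := by
    have : (0 : ℤ) < ((i + 1 : ℕ) : ℤ) := by positivity
    omega
  -- the Koszul homology with coefficients in `A'` vanishes
  have hz : IsZero ((CohIII.koszulCx (ModuleCat.of A A') fs).homology (-((i + 1 : ℕ) : ℤ))) := by
    have e2 := (HomologicalComplex.homologyFunctor (ModuleCat.{u} A) (ComplexShape.up ℤ)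
      (-((i + 1 : ℕ) : ℤ))).mapIso (kiso (ofIsoRestrict A') fs)
    have e3 : (CohIII.koszulCx (ModuleCat.of A A') fs).homology (-((i + 1 : ℕ) : ℤ)) ≅
        (CohIII.koszulCx ((ModuleCat.restrictScalars (algebraMap A A')).obj
          (ModuleCat.of A' A')) fs).homology (-((i + 1 : ℕ) : ℤ)) := e2
    rw [e3.isZero_iff, isZero_homology_restrict_iff (algebraMap A A') (ModuleCat.of A' A') fs,
      ← koszul_eq]
    exact hfs' _ hj
  obtain ⟨e4⟩ := Groth.Agent.H79.KoszulEuler.nonempty_tensorCx_iso (ModuleCat.of A A') fs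
  rw [koszul_eq] at e4
  have e5 := (HomologicalComplex.homologyFunctor (ModuleCat.{u} A) (ComplexShape.up ℤ)
      (-((i + 1 : ℕ) : ℤ))).mapIso e4
  have hz2 : IsZero ((DRing.tensorCx (CohIII.koszulCx (ModuleCat.of A A) fs)
      (ModuleCat.of A A')).homology (-((i + 1 : ℕ) : ℤ))) := hz.of_iso e5
  rw [ModuleCat.isZero_iff_subsingleton] at hz2 ⊢
  exact e.toEquiv.subsingleton

end koszul

section main

open Groth.Agent.H19.QReg Groth.Agent.H19.QuasiRegBC

variable (A' : Type u) [CommRing A'] [Algebra A A']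

theorem finite_idx (c n : ℕ) : Finite (Idx (Fin c) n) :=
  Set.finite_coe_iff.mpr (Finsupp.finite_of_degree_eq (σ := Fin c) n)

theorem span_range_get' (l : List A) :
    Ideal.span {x | x ∈ l} = Ideal.span (Set.range l.get) := by
  congr 1
  ext b
  constructor
  · intro hb
    obtain ⟨k, rfl⟩ := List.mem_iff_get.mp hb
    exact ⟨k, rfl⟩
  · rintro ⟨k, rfl⟩
    exact List.get_mem l k

/-- `Tor_i(A/Jⁿ, A') = 0` for `i ≥ 1`. -/
theorem P_quot_pow (fs : List A) (hfs : LCI.IsKoszulRegularSeq A fs)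
    (hfs' : LCI.IsKoszulRegularSeq A' (fs.map (algebraMap A A'))) (n : ℕ) :
    P (ModuleCat.of A A') (ModuleCat.of A (A ⧸ J fs.get ^ n)) := by
  have hq : QR fs.get :=
    Groth.Agent.H94.RegImmKinds.seq_quasi_of_h1 A fs
      (Groth.Agent.H94.RegImmKinds.seq_h1_of_koszul A fs hfs)
  have hJ : Ideal.ofList fs = J fs.get := span_range_get' fs
  have hquot : P (ModuleCat.of A A') (ModuleCat.of A (A ⧸ J fs.get)) :=
    P_of_linearEquiv (Submodule.quotEquivOfEq _ _ hJ) (P_quot A' fs hfs hfs')
  induction n with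
  | zero =>
    haveI : Subsingleton (A ⧸ J fs.get ^ 0) := by
      rw [Ideal.Quotient.subsingleton_iff, pow_zero, Ideal.one_eq_top]
    exact P_flat _
  | succ n ih =>
    haveI := finite_idx fs.length n
    exact P_mid' (ψ (A := A) fs.get n) (π (A := A) fs.get n) (ψ_injective fs.get hq n)
      (π_surjective fs.get n) (exact_ψ_π fs.get n) (P_finsupp _ hquot _) ih

/-- **S3196** -/
theorem tor_powers (fs : List A) (hfs : LCI.IsKoszulRegularSeq A fs)
    (hfs' : LCI.IsKoszulRegularSeq A' (fs.map (algebraMap A A'))) (n : ℕ) (i : ℕ) (hi : 1 ≤ i) :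
    IsZero (((Tor (ModuleCat.{u} A) i).obj
      (ModuleCat.of A ↥(Ideal.span {x | x ∈ fs} ^ n))).obj (ModuleCat.of A A')) ∧
    IsZero (((Tor (ModuleCat.{u} A) i).obj (ModuleCat.of A
      (↥(Ideal.span {x | x ∈ fs} ^ n) ⧸ Submodule.comap (Ideal.span {x | x ∈ fs} ^ n).subtype
        (Ideal.span {x | x ∈ fs} ^ (n + 1))))).obj (ModuleCat.of A A')) := by
  obtain ⟨i, rfl⟩ : ∃ k, i = k + 1 := ⟨i - 1, by omega⟩
  rw [span_range_get' fs]
  set I : Ideal A := Ideal.span (Set.range fs.get) with hI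
  have hpow : ∀ k, P (ModuleCat.of A A') (ModuleCat.of A (A ⧸ I ^ k)) :=
    fun k => P_quot_pow A' fs hfs hfs' k
  constructor
  · -- `0 → Iⁿ → A → A/Iⁿ → 0`
    have h := P_left' (S := ModuleCat.of A A') (I ^ n).subtype (I ^ n).mkQ
      (Submodule.subtype_injective _) (Submodule.mkQ_surjective _)
      (LinearMap.exact_subtype_mkQ _) (hpow n) (P_flat _)
    exact h i
  · -- `0 → Iⁿ/Iⁿ⁺¹ → A/Iⁿ⁺¹ → A/Iⁿ → 0`
    let ι : (↥(I ^ n) ⧸ Submodule.comap (I ^ n).subtype (I ^ (n + 1))) →ₗ[A] (A ⧸ I ^ (n + 1)) :=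
      Submodule.mapQ _ (I ^ (n + 1)) (I ^ n).subtype le_rfl
    have hι : Function.Injective ι := by
      rw [injective_iff_map_eq_zero]
      intro x hx
      obtain ⟨y, rfl⟩ := Submodule.Quotient.mk_surjective _ x
      rw [Submodule.Quotient.mk_eq_zero]
      have h1 : ι (Submodule.Quotient.mk y) = Submodule.Quotient.mk ((I ^ n).subtype y) := rfl
      rw [h1, Submodule.Quotient.mk_eq_zero] at hx
      exact hx
    have hex : Function.Exact ι (π (A := A) fs.get n) := by
      intro y
      constructor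
      · intro hy
        obtain ⟨b, rfl⟩ := Ideal.Quotient.mk_surjective y
        rw [π_mk, Ideal.Quotient.eq_zero_iff_mem] at hy
        exact ⟨Submodule.Quotient.mk ⟨b, hy⟩, rfl⟩
      · rintro ⟨x, rfl⟩
        obtain ⟨z, rfl⟩ := Submodule.Quotient.mk_surjective _ x
        have h1 : ι (Submodule.Quotient.mk z) = Ideal.Quotient.mk (I ^ (n + 1)) (z : A) := rfl
        rw [h1, π_mk, Ideal.Quotient.eq_zero_iff_mem]
        exact z.2
    have h := P_left' (S := ModuleCat.of A A') ι (π (A := A) fs.get n) hι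
      (π_surjective fs.get n) hex (hpow n) (hpow (n + 1))
    exact h i

end main


end Groth.Agent.H39.TorPowers
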