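import Mathlib
import Groth.Prelude.Def_FlatCA
import Groth.Agent.H8.WeakAssFinite

set_option autoImplicit false
set_option linter.style.haveILetI false

open Polynomial

namespace Groth.Agent.H39.WeakAssPoly

variable {R : Type*} [CommRing R] {M : Type*} [AddCommGroup M] [Module R M]

lemma coeff_smul' (r : R) (w : PolynomialModule R M) (i : ℕ) :
    (r • w).coeff i = r • w.coeff i := rfl

lemma smul_smul_comm' (u : R[X]) (r : R) (w : PolynomialModule R M) :
    u • (r • w) = r • (u • w) := by
  rw [← algebraMap_smul R[X] r w, ← algebraMap_smul R[X] r (u • w), smul_smul, smul_smul, mul_comm]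

lemma eq_zero_of_coeff (w : PolynomialModule R M) (h : ∀ i, w.coeff i = 0) : w = 0 := by
  apply PolynomialModule.coeff_injective
  ext i
  simpa using h i

/-- Dedekind–Mertens/McCoy type lemma: if `u • w = 0` in `M[X]` then every coefficient of `u` is
nilpotent on `w`. -/
theorem exists_pow_smul_eq_zero (u : R[X]) (j₀ : ℕ) :
    ∀ (d : ℕ) (w : PolynomialModule R M), (∀ i, d ≤ i → w.coeff i = 0) → u • w = 0 →
      ∃ N : ℕ, (u.coeff j₀) ^ N • w = 0 := by
  set t := u.coeff j₀ with ht
  intro d
  induction d with
  | zero =>
    intro w hw _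
    exact ⟨0, by rw [pow_zero, one_smul]; exact eq_zero_of_coeff w fun i => hw i (Nat.zero_le i)⟩
  | succ d ih =>
    intro w hw huw
    -- descending claim
    have hT : ∀ k j, u.natDegree + 1 ≤ j + k →
        ∃ N : ℕ, ∀ l, j ≤ l → (t ^ N * u.coeff l) • w = 0 := by
      intro k
      induction k with
      | zero =>
        intro j hj
        refine ⟨0, fun l hl => ?_⟩
        rw [coeff_eq_zero_of_natDegree_lt (by omega), mul_zero, zero_smul]
      | succ k ihk =>
        intro j hj
        obtain ⟨N, hN⟩ := ihk (j + 1) (by omega)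
        set w' := t ^ N • w with hw'
        have ha : ∀ i, d + 1 ≤ i → w'.coeff i = 0 := fun i hi => by
          rw [hw', coeff_smul', hw i hi, smul_zero]
        have hb : u • w' = 0 := by rw [hw', smul_smul_comm', huw, smul_zero]
        have hc : ∀ l, j + 1 ≤ l → u.coeff l • w' = 0 := fun l hl => by
          rw [hw', smul_smul, mul_comm]; exact hN l hl
        have hd : u.coeff j • w'.coeff d = 0 := by
          have h1 := congrArg (fun x => x.coeff (j + d)) hb
          simp only [PolynomialModule.smul_apply, PolynomialModule.coeff_zero,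
            Finsupp.coe_zero, Pi.zero_apply] at h1
          rw [Finset.sum_eq_single (j, d)] at h1
          · exact h1
          · rintro ⟨a, b⟩ hab hne
            rw [Finset.HasAntidiagonal.mem_antidiagonal] at hab
            simp only at hab ⊢
            by_cases haj : j + 1 ≤ a
            · have := congrArg (fun x => x.coeff b) (hc a haj)
              simpa [coeff_smul'] using this
            · have hb' : d + 1 ≤ b := by
                have : a ≠ j := fun h => hne (by rw [h] at hab ⊢; congr; omega)
                omega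
              rw [ha b hb', smul_zero]
          · intro h; exact absurd (Finset.HasAntidiagonal.mem_antidiagonal.mpr (rfl : (j, d).1 + (j, d).2 = j + d)) h
        set w'' := u.coeff j • w' with hw''
        have he : ∀ i, d ≤ i → w''.coeff i = 0 := fun i hi => by
          rw [hw'', coeff_smul']
          rcases Nat.eq_or_lt_of_le hi with rfl | hlt
          · exact hd
          · rw [ha i hlt, smul_zero]
        have hf : u • w'' = 0 := by rw [hw'', smul_smul_comm', hb, smul_zero]
        obtain ⟨N', hN'⟩ := ih w'' he hf
        refine ⟨N' + N, fun l hl => ?_⟩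
        rcases Nat.eq_or_lt_of_le hl with rfl | hlt
        · have : (t ^ (N' + N) * u.coeff j) • w = t ^ N' • w'' := by
            rw [hw'', hw', smul_smul, smul_smul]; congr 1; ring
          rw [this, hN']
        · have : (t ^ (N' + N) * u.coeff l) • w = t ^ N' • ((t ^ N * u.coeff l) • w) := by
            rw [smul_smul]; congr 1; ring
          rw [this, hN l hlt, smul_zero]
    obtain ⟨N, hN⟩ := hT (u.natDegree + 1) 0 (by omega)
    refine ⟨N + 1, ?_⟩
    rw [pow_succ]
    exact hN j₀ (Nat.zero_le _)

/-- `weakAss` is invariant under linear equivalences. -/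
theorem weakAss_congr {S : Type*} [CommRing S] {N N' : Type*} [AddCommGroup N] [Module S N]
    [AddCommGroup N'] [Module S N'] (e : N ≃ₗ[S] N') :
    FlatCA.weakAss S N = FlatCA.weakAss S N' := by
  have key : ∀ m : N, (Submodule.span S {e m}).annihilator = (Submodule.span S {m}).annihilator := by
    intro m
    ext r
    rw [Submodule.mem_annihilator_span_singleton, Submodule.mem_annihilator_span_singleton,
      ← map_smul, LinearEquiv.map_eq_zero_iff]
  ext p
  constructor
  · rintro ⟨m, hm⟩
    exact ⟨e m, by rw [key]; exact hm⟩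
  · rintro ⟨m', hm'⟩
    refine ⟨e.symm m', ?_⟩
    rw [← key, e.apply_symm_apply]; exact hm'

/-- Weakly associated primes of `M[X]` over `R[X]` contract to weakly associated primes of `M`. -/
theorem comap_C_mem_weakAss_polynomialModule (q : Ideal R[X]) [hqp : q.IsPrime]
    (hq : q ∈ FlatCA.weakAss R[X] (PolynomialModule R M)) :
    q.comap (C : R →+* R[X]) ∈ FlatCA.weakAss R M := by
  classical
  obtain ⟨z, hz⟩ := hq
  set p := q.comap (C : R →+* R[X]) with hp
  haveI hpp : p.IsPrime := Ideal.comap_isPrime _ _
  have hCsmul : ∀ (c : R) (w : PolynomialModule R M), (C c : R[X]) • w = c • w := fun c w => by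
    rw [← Polynomial.algebraMap_eq, algebraMap_smul]
  -- (i) some coefficient has annihilator inside `p`
  have hi : ∃ i, ∀ c : R, c • z.coeff i = 0 → c ∈ p := by
    by_contra h
    push Not at h
    choose c hc hcp using h
    have hprod : (∏ i ∈ z.coeff.support, c i) ∉ p := by
      rw [Ideal.IsPrime.prod_mem_iff]
      rintro ⟨i, -, hi⟩
      exact hcp i hi
    apply hprod
    have hkill : (∏ i ∈ z.coeff.support, c i) • z = 0 := by
      apply eq_zero_of_coeff
      intro i
      rw [coeff_smul']
      by_cases his : i ∈ z.coeff.support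
      · obtain ⟨r, hr⟩ := Finset.dvd_prod_of_mem c his
        rw [hr, mul_comm, mul_smul, hc i, smul_zero]
      · rw [Finsupp.notMem_support_iff.mp his, smul_zero]
    have : (C (∏ i ∈ z.coeff.support, c i) : R[X]) ∈ (Submodule.span R[X] {z}).annihilator := by
      rw [Submodule.mem_annihilator_span_singleton, hCsmul, hkill]
    exact hz.1.2 this
  obtain ⟨i, hi⟩ := hi
  -- degree bound
  obtain ⟨d, hd⟩ : ∃ d, ∀ l, d ≤ l → z.coeff l = 0 := by
    refine ⟨z.coeff.support.sup id + 1, fun l hl => ?_⟩
    by_contra hne
    have : l ≤ z.coeff.support.sup id := Finset.le_sup (f := id) (Finsupp.mem_support_iff.mpr hne)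
    omega
  refine ⟨z.coeff i, ⟨hpp, fun c hc => hi c ?_⟩, ?_⟩
  · rwa [Submodule.mem_annihilator_span_singleton] at hc
  · rintro p' ⟨hp'prime, hp'ann⟩ hp'le f hf
    have hCf : (C f : R[X]) ∈ q := hf
    obtain ⟨u, hu, n, hun⟩ := Groth.Agent.H8.exists_mul_pow_mem_of_mem_minimalPrimes hz hCf
    rw [Submodule.mem_annihilator_span_singleton, mul_smul, ← C_pow, hCsmul] at hun
    -- a coefficient of `u` outside `p`
    have hj : ∃ j₀, u.coeff j₀ ∉ p := by
      by_contra h
      push Not at h
      apply hu
      have h1 : u ∈ Ideal.map (C : R →+* R[X]) p := Ideal.mem_map_C_iff.mpr h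
      exact (Ideal.map_le_iff_le_comap.mpr le_rfl) h1
    obtain ⟨j₀, hj₀⟩ := hj
    obtain ⟨N, hN⟩ := exists_pow_smul_eq_zero u j₀ d (f ^ n • z)
      (fun l hl => by rw [coeff_smul', hd l hl, smul_zero]) hun
    have h2 : (u.coeff j₀ ^ N * f ^ n) ∈ (Submodule.span R {z.coeff i}).annihilator := by
      rw [Submodule.mem_annihilator_span_singleton, mul_smul]
      have := congrArg (fun x => x.coeff i) hN
      simpa [coeff_smul'] using this
    rcases hp'prime.mem_or_mem (hp'ann h2) with h3 | h3
    · exact absurd (hp'le (hp'prime.mem_of_pow_mem _ h3)) hj₀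
    · exact hp'prime.mem_of_pow_mem _ h3

open TensorProduct in
/-- Tensor form: weakly associated primes of `R[X] ⊗ M` contract to weakly associated primes of
`M`. -/
theorem comap_mem_weakAss_polynomial_tensor {R : Type*} [CommRing R] {M : Type*} [AddCommGroup M]
    [Module R M] (q : Ideal R[X]) [hqp : q.IsPrime]
    (hq : q ∈ FlatCA.weakAss R[X] (R[X] ⊗[R] M)) :
    q.comap (algebraMap R R[X]) ∈ FlatCA.weakAss R M := by
  rw [weakAss_congr (PolynomialModule.polynomialTensorProductLEquivPolynomialModule R M)] at hq
  rw [Polynomial.algebraMap_eq]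
  exact comap_C_mem_weakAss_polynomialModule q hq

end Groth.Agent.H39.WeakAssPoly
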