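import Mathlib
import Groth.Prelude.Def_FlatCA
import Groth.Agent.H39.WeakAssPoly
import Groth.Agent.H73.WeakAssHens
import Groth.Agent.H9.WeakAssFiniteFlat

set_option autoImplicit false
set_option linter.style.haveILetI false
universe u

open TensorProduct Polynomial

namespace Groth.Agent.H39.WeakAssField

open Groth.Agent.H39.WeakAssPoly Groth.Agent.H73.WeakAssEtale

/-- Weakly associated primes descend along `A → B`: a prime of `B` weakly associated to a base
change `B ⊗ M` contracts to a prime weakly associated to `M`. -/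
def Desc (A B : Type u) [CommRing A] [CommRing B] [Algebra A B] : Prop :=
  ∀ (M : Type u) [AddCommGroup M] [Module A M] (q : Ideal B) [q.IsPrime],
    q ∈ FlatCA.weakAss B (B ⊗[A] M) → q.comap (algebraMap A B) ∈ FlatCA.weakAss A M

section Basic

variable {A B : Type u} [CommRing A] [CommRing B] [Algebra A B]

theorem Desc.of_isBaseChange (h : Desc A B) {M N : Type u} [AddCommGroup M] [Module A M]
    [AddCommGroup N] [Module A N] [Module B N] [IsScalarTower A B N] (f : M →ₗ[A] N)
    (hf : IsBaseChange B f) (q : Ideal B) [q.IsPrime] (hq : q ∈ FlatCA.weakAss B N) :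
    q.comap (algebraMap A B) ∈ FlatCA.weakAss A M := by
  apply h M q
  rw [weakAss_congr hf.equiv]
  exact hq

theorem Desc.trans {C : Type u} [CommRing C] [Algebra B C] [Algebra A C] [IsScalarTower A B C]
    (hAB : Desc A B) (hBC : Desc B C) : Desc A C := by
  intro M _ _ q _ hq
  rw [← weakAss_congr (TensorProduct.AlgebraTensorModule.cancelBaseChange A B C C M)] at hq
  have h1 := hBC (B ⊗[A] M) q hq
  have h2 := hAB M (q.comap (algebraMap B C)) h1
  rwa [Ideal.comap_comap, ← IsScalarTower.algebraMap_eq] at h2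

theorem Desc.polynomial : Desc A A[X] := fun _ _ _ q _ hq =>
  comap_mem_weakAss_polynomial_tensor q hq

theorem Desc.of_isLocalization (S : Submonoid A) [IsLocalization S B] : Desc A B :=
  fun M _ _ q _ hq =>
    (mem_weakAss_iff_of_isLocalization S (TensorProduct.mk A B M 1)
      (TensorProduct.isBaseChange A M B) q).mp hq

theorem Desc.of_finite_flat [Module.Finite A B] [Module.Flat A B] : Desc A B :=
  fun M _ _ q _ hq =>
    (Groth.Agent.H9.WeakAssFF.mem_weakAss_baseChange_iff M (q.comap (algebraMap A B)) q rfl).mp hq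

end Basic

section FlatDescent

variable {A B C : Type u} [CommRing A] [CommRing B] [CommRing C] [Algebra A B] [Algebra A C]
  [Algebra B C] [IsScalarTower A B C] [Module.Flat B C]
  (M : Type u) [AddCommGroup M] [Module A M]

/-- If `C` is flat over `B` and `q` is minimal over the annihilator of the image in `C ⊗ M` of an
element `y'` of `B ⊗ M`, then `q ∩ B` is minimal over the annihilator of `y'`. -/
theorem comap_mem_minimalPrimes_of_bcMap (y' : B ⊗[A] M) (q : Ideal C) [hqp : q.IsPrime]
    (hq : q ∈ (Submodule.span C {bcMap (A := A) (B := B) (B' := C) M y'}).annihilator.minimalPrimes) :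
    q.comap (algebraMap B C) ∈ (Submodule.span B {y'}).annihilator.minimalPrimes := by
  set q' : Ideal B := q.comap (algebraMap B C) with hq'
  haveI hq'prime : q'.IsPrime := Ideal.comap_isPrime _ _
  haveI : q.LiesOver q' := ⟨rfl⟩
  have hsmul : ∀ c : B, c • y' = 0 → algebraMap B C c ∈
      (Submodule.span C {bcMap (A := A) (B := B) (B' := C) M y'}).annihilator := by
    intro c hc
    rw [Submodule.mem_annihilator_span_singleton, algebraMap_smul, ← map_smul, hc, map_zero]
  refine ⟨⟨hq'prime, ?_⟩, ?_⟩
  · intro c hc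
    rw [Submodule.mem_annihilator_span_singleton] at hc
    exact hq.1.2 (hsmul c hc)
  · rintro Q' ⟨hQ', hQ'ann⟩ hQ'le
    obtain ⟨P, hPle, hPprime, hPover⟩ :=
      Ideal.exists_ideal_le_liesOver_of_le (p := Q') (q := q') q hQ'le
    have hannP : (Submodule.span C {bcMap (A := A) (B := B) (B' := C) M y'}).annihilator ≤ P := by
      intro b hb
      rw [Submodule.mem_annihilator_span_singleton] at hb
      have h1 := Groth.Agent.H73.WeakAssHens.mem_map_annihilator_of_smul_bcMap_eq_zero M y' b hb
      have h2 : Q'.map (algebraMap B C) ≤ P := by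
        rw [Ideal.map_le_iff_le_comap]
        exact (hPover.over).le
      exact h2 (Ideal.map_mono hQ'ann h1)
    have hPm : q ≤ P := hq.2 ⟨hPprime, hannP⟩ hPle
    have hPeq : P = q := le_antisymm hPle hPm
    have : Q' = q' := by
      rw [hPover.over, hPeq]
    exact this.ge

end FlatDescent

/-- For a field extension `K/k`: weakly associated primes descend along `R → R ⊗[k] K` (any
pushout), for every `k`-algebra `R`. -/
def FieldDesc (k K : Type u) [Field k] [Field K] [Algebra k K] : Prop :=
  ∀ (R RK : Type u) [CommRing R] [CommRing RK] [Algebra k R] [Algebra k RK] [Algebra K RK]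
    [Algebra R RK] [IsScalarTower k K RK] [IsScalarTower k R RK] [Algebra.IsPushout k K R RK],
    Desc R RK

section Fin

variable {k K : Type u} [Field k] [Field K] [Algebra k K]

theorem FieldDesc.of_finiteDimensional [FiniteDimensional k K] : FieldDesc k K := by
  intro R RK _ _ _ _ _ _ _ _ hpo
  have h := (Algebra.IsPushout.symm hpo).out
  haveI : Module.Finite R RK := Module.Finite.equiv h.equiv
  haveI : Module.Flat R RK := Module.Flat.of_linearEquiv h.equiv.symm
  exact Desc.of_finite_flat

end Fin

section Tower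

attribute [local instance] Algebra.TensorProduct.rightAlgebra

variable {k L K : Type u} [Field k] [Field L] [Field K] [Algebra k L] [Algebra L K] [Algebra k K]
  [IsScalarTower k L K]

theorem FieldDesc.tower (hkL : FieldDesc k L) (hLK : FieldDesc L K) : FieldDesc k K := by
  intro R RK _ _ _ _ _ _ _ _ hpo
  letI aLRK : Algebra L RK := ((algebraMap K RK).comp (algebraMap L K)).toAlgebra
  haveI : IsScalarTower L K RK := IsScalarTower.of_algebraMap_eq fun _ => rfl
  haveI : IsScalarTower k L RK := IsScalarTower.of_algebraMap_eq fun x => by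
    rw [IsScalarTower.algebraMap_apply k K RK, IsScalarTower.algebraMap_apply k L K]; rfl
  let φ : (L ⊗[k] R) →ₐ[L] RK := Algebra.TensorProduct.lift (Algebra.ofId L RK)
    (IsScalarTower.toAlgHom k R RK) (fun _ _ => Commute.all _ _)
  letI aRLRK : Algebra (L ⊗[k] R) RK := φ.toRingHom.toAlgebra
  haveI : IsScalarTower L (L ⊗[k] R) RK :=
    IsScalarTower.of_algebraMap_eq fun x => (φ.commutes x).symm
  haveI : IsScalarTower R (L ⊗[k] R) RK := IsScalarTower.of_algebraMap_eq fun x => by
    show algebraMap R RK x = φ (1 ⊗ₜ x)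
    simp [φ]
  haveI : IsScalarTower k (L ⊗[k] R) RK := IsScalarTower.of_algebraMap_eq fun x => by
    rw [IsScalarTower.algebraMap_apply k L (L ⊗[k] R),
      ← IsScalarTower.algebraMap_apply L (L ⊗[k] R) RK, ← IsScalarTower.algebraMap_apply k L RK]
  haveI : Algebra.IsPushout L K (L ⊗[k] R) RK :=
    (Algebra.IsPushout.comp_iff k L R (S' := L ⊗[k] R) (T := K) (T' := RK)).mp hpo
  exact (hkL R (L ⊗[k] R)).trans (hLK (L ⊗[k] R) RK)

end Tower

section Transcendental

attribute [local instance] Polynomial.algebra

variable {k K : Type u} [Field k] [Field K] [Algebra k K] [Algebra k[X] K] [IsScalarTower k k[X] K]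
  [IsFractionRing k[X] K]

theorem FieldDesc.of_isFractionRing_polynomial : FieldDesc k K := by
  intro R RK _ _ _ _ _ _ _ _ hpo
  let x : RK := algebraMap K RK (algebraMap k[X] K X)
  let ψ : R[X] →ₐ[R] RK := aeval x
  letI aRXRK : Algebra R[X] RK := ψ.toRingHom.toAlgebra
  haveI : IsScalarTower R R[X] RK := IsScalarTower.of_algebraMap_eq fun r => (ψ.commutes r).symm
  letI akXRK : Algebra k[X] RK := ((algebraMap K RK).comp (algebraMap k[X] K)).toAlgebra
  haveI : IsScalarTower k[X] K RK := IsScalarTower.of_algebraMap_eq fun _ => rfl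
  haveI : IsScalarTower k[X] R[X] RK := by
    refine IsScalarTower.of_algebraMap_eq' ?_
    apply Polynomial.ringHom_ext
    · intro c
      show algebraMap K RK (algebraMap k[X] K (C c)) = ψ ((C c).map (algebraMap k R))
      rw [Polynomial.map_C, ← Polynomial.algebraMap_eq (R := k), ← IsScalarTower.algebraMap_apply k k[X] K,
        ← IsScalarTower.algebraMap_apply k K RK]
      simp [ψ, ← IsScalarTower.algebraMap_apply k R RK]
    · show algebraMap K RK (algebraMap k[X] K X) = ψ ((X : k[X]).map (algebraMap k R))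
      simp [ψ, x]
  haveI : IsScalarTower k R[X] RK := IsScalarTower.of_algebraMap_eq fun c => by
    rw [IsScalarTower.algebraMap_apply k R R[X], ← IsScalarTower.algebraMap_apply R R[X] RK,
      ← IsScalarTower.algebraMap_apply k R RK]
  have h1 : Algebra.IsPushout k[X] K R[X] RK :=
    (Algebra.IsPushout.comp_iff k k[X] R (S' := R[X]) (T := K) (T' := RK)).mp hpo
  haveI : IsLocalization (Algebra.algebraMapSubmonoid R[X] (nonZeroDivisors k[X])) RK :=
    (Algebra.isLocalization_iff_isPushout (nonZeroDivisors k[X]) K).mpr h1.symm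
  exact Desc.polynomial.trans
    (Desc.of_isLocalization (Algebra.algebraMapSubmonoid R[X] (nonZeroDivisors k[X])))

end Transcendental

section Iso

variable {k K K' : Type u} [Field k] [Field K] [Field K'] [Algebra k K] [Algebra k K']

theorem FieldDesc.of_algEquiv (e : K ≃ₐ[k] K') (h : FieldDesc k K) : FieldDesc k K' := by
  intro R RK' _ _ _ _ _ _ _ _ hpo
  letI aKRK : Algebra K RK' := ((algebraMap K' RK').comp (e : K →+* K')).toAlgebra
  haveI : IsScalarTower k K RK' := IsScalarTower.of_algebraMap_eq fun c => by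
    show algebraMap k RK' c = algebraMap K' RK' (e (algebraMap k K c))
    rw [e.commutes, ← IsScalarTower.algebraMap_apply]
  haveI : Algebra.IsPushout k K R RK' := by
    refine Algebra.IsPushout.symm ⟨?_⟩
    have h1 := (Algebra.IsPushout.symm hpo).out
    have h2 := IsBaseChange.comp_equiv e.toLinearEquiv _ h1
    convert h2 using 1
    exact LinearMap.ext fun c => rfl
  exact h R RK'

end Iso

section Simple

open IntermediateField

variable {L K : Type u} [Field L] [Field K] [Algebra L K]

theorem FieldDesc.adjoin_simple (a : K) : FieldDesc L L⟮a⟯ := by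
  by_cases ha : IsIntegral L a
  · haveI := IntermediateField.adjoin.finiteDimensional ha
    exact FieldDesc.of_finiteDimensional
  · have htr : Transcendental L a := by
      intro halg; exact ha halg.isIntegral
    let θ : L[X] →ₐ[L] L⟮a⟯ := aeval (AdjoinSimple.gen L a)
    letI aLX : Algebra L[X] L⟮a⟯ := θ.toRingHom.toAlgebra
    haveI : IsScalarTower L L[X] L⟮a⟯ :=
      IsScalarTower.of_algebraMap_eq fun c => (θ.commutes c).symm
    have hcoe : ∀ r : L[X], ((θ r : L⟮a⟯) : K) = aeval a r := fun r =>
      AdjoinSimple.coe_aeval_gen_apply L a r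
    have hinj : Function.Injective θ := by
      intro r s hrs
      apply transcendental_iff_injective.mp htr
      rw [← hcoe, ← hcoe, hrs]
    haveI : FaithfulSMul L[X] L⟮a⟯ := (faithfulSMul_iff_algebraMap_injective _ _).mpr hinj
    haveI : IsFractionRing L[X] L⟮a⟯ := IsFractionRing.of_field _ _ fun z => by
      obtain ⟨r, s, hrs⟩ := (mem_adjoin_simple_iff L z.1).mp z.2
      refine ⟨r, s, Subtype.ext ?_⟩
      show (z : K) = ((θ r / θ s : L⟮a⟯) : K)
      rw [IntermediateField.coe_div, hcoe, hcoe, hrs]
    exact FieldDesc.of_isFractionRing_polynomial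

end Simple

section FG

open IntermediateField

variable {k K : Type u} [Field k] [Field K] [Algebra k K]

theorem FieldDesc.of_fg (L : IntermediateField k K) (hL : L.FG) : FieldDesc k L := by
  refine induction_on_adjoin_fg (P := fun L : IntermediateField k K => FieldDesc k L) ?_ ?_ L hL
  · haveI : FiniteDimensional k (⊥ : IntermediateField k K) := inferInstance
    exact FieldDesc.of_finiteDimensional
  · intro L x hL
    have h1 : FieldDesc L L⟮x⟯ := FieldDesc.adjoin_simple x
    exact FieldDesc.tower (k := k) (L := L) (K := L⟮x⟯) hL h1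

end FG

section General

attribute [local instance] Algebra.TensorProduct.rightAlgebra
open IntermediateField

variable {k K : Type u} [Field k] [Field K] [Algebra k K]

/-- elements of `RK ⊗[R] M` are sums of pure tensors `c ⊗ y` with `c` coming from `K`. -/
theorem exists_list_eq_sum {R RK : Type u} [CommRing R] [CommRing RK] [Algebra k R] [Algebra k RK]
    [Algebra K RK] [Algebra R RK] [IsScalarTower k K RK] [IsScalarTower k R RK]
    [hpo : Algebra.IsPushout k K R RK] (M : Type u) [AddCommGroup M] [Module R M]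
    (z : RK ⊗[R] M) :
    ∃ l : List (K × M), z = (l.map fun p => (algebraMap K RK p.1) ⊗ₜ[R] p.2).sum := by
  induction z using TensorProduct.induction_on with
  | zero => exact ⟨[], by simp⟩
  | add z₁ z₂ h₁ h₂ =>
    obtain ⟨l₁, rfl⟩ := h₁
    obtain ⟨l₂, rfl⟩ := h₂
    exact ⟨l₁ ++ l₂, by simp⟩
  | tmul b m =>
    have hbc := (Algebra.IsPushout.symm hpo).out
    revert m
    refine IsBaseChange.inductionOn hbc b
      (fun b => ∀ m : M, ∃ l : List (K × M),
        b ⊗ₜ[R] m = (l.map fun p => (algebraMap K RK p.1) ⊗ₜ[R] p.2).sum) ?_ ?_ ?_ ?_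
    · intro m; exact ⟨[], by simp⟩
    · intro c m; exact ⟨[(c, m)], by simp⟩
    · intro r b hb m
      obtain ⟨l, hl⟩ := hb (r • m)
      exact ⟨l, by rw [TensorProduct.smul_tmul, hl]⟩
    · intro b₁ b₂ h₁ h₂ m
      obtain ⟨l₁, hl₁⟩ := h₁ m
      obtain ⟨l₂, hl₂⟩ := h₂ m
      exact ⟨l₁ ++ l₂, by rw [TensorProduct.add_tmul, hl₁, hl₂]; simp⟩

/-- Descent for elements defined over an intermediate field `L` for which descent is known. -/
theorem comap_mem_weakAss_of_list {L : Type u} [Field L] [Algebra k L] [Algebra L K]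
    [IsScalarTower k L K] (hkL : FieldDesc k L)
    {R RK : Type u} [CommRing R] [CommRing RK] [Algebra k R] [Algebra k RK]
    [Algebra K RK] [Algebra R RK] [IsScalarTower k K RK] [IsScalarTower k R RK]
    [hpo : Algebra.IsPushout k K R RK] (M : Type u) [AddCommGroup M] [Module R M]
    (l : List (L × M)) (q : Ideal RK) [q.IsPrime]
    (hq : q ∈ (Submodule.span RK {(l.map fun p =>
      (algebraMap K RK (algebraMap L K p.1)) ⊗ₜ[R] p.2).sum}).annihilator.minimalPrimes) :
    q.comap (algebraMap R RK) ∈ FlatCA.weakAss R M := by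
  letI aLRK : Algebra L RK := ((algebraMap K RK).comp (algebraMap L K)).toAlgebra
  haveI : IsScalarTower L K RK := IsScalarTower.of_algebraMap_eq fun _ => rfl
  haveI : IsScalarTower k L RK := IsScalarTower.of_algebraMap_eq fun x => by
    rw [IsScalarTower.algebraMap_apply k K RK, IsScalarTower.algebraMap_apply k L K]; rfl
  let φ : (L ⊗[k] R) →ₐ[L] RK := Algebra.TensorProduct.lift (Algebra.ofId L RK)
    (IsScalarTower.toAlgHom k R RK) (fun _ _ => Commute.all _ _)
  letI aRLRK : Algebra (L ⊗[k] R) RK := φ.toRingHom.toAlgebra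
  haveI : IsScalarTower L (L ⊗[k] R) RK :=
    IsScalarTower.of_algebraMap_eq fun x => (φ.commutes x).symm
  haveI : IsScalarTower R (L ⊗[k] R) RK := IsScalarTower.of_algebraMap_eq fun x => by
    show algebraMap R RK x = φ (1 ⊗ₜ x)
    simp [φ]
  haveI : IsScalarTower k (L ⊗[k] R) RK := IsScalarTower.of_algebraMap_eq fun x => by
    rw [IsScalarTower.algebraMap_apply k L (L ⊗[k] R),
      ← IsScalarTower.algebraMap_apply L (L ⊗[k] R) RK, ← IsScalarTower.algebraMap_apply k L RK]
  have hpo2 : Algebra.IsPushout L K (L ⊗[k] R) RK :=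
    (Algebra.IsPushout.comp_iff k L R (S' := L ⊗[k] R) (T := K) (T' := RK)).mp hpo
  haveI : Module.Flat (L ⊗[k] R) RK :=
    Module.Flat.of_linearEquiv (Algebra.IsPushout.symm hpo2).out.equiv.symm
  -- the element over `RL`
  let z' : (L ⊗[k] R) ⊗[R] M := (l.map fun p => (p.1 ⊗ₜ[k] (1 : R)) ⊗ₜ[R] p.2).sum
  have hz' : bcMap (A := R) (B := L ⊗[k] R) (B' := RK) M z' =
      (l.map fun p => (algebraMap K RK (algebraMap L K p.1)) ⊗ₜ[R] p.2).sum := by
    simp only [z', map_list_sum, List.map_map]
    congr 1
    refine List.map_congr_left fun p hp => ?_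
    simp only [Function.comp_apply, bcMap, TensorProduct.AlgebraTensorModule.map_tmul,
      Algebra.linearMap_apply, LinearMap.id_coe, id_eq]
    congr 1
    show φ (p.1 ⊗ₜ[k] (1 : R)) = algebraMap K RK (algebraMap L K p.1)
    simp only [φ, Algebra.TensorProduct.lift_tmul, map_one, mul_one, Algebra.ofId_apply]
    rfl
  have h1 := comap_mem_minimalPrimes_of_bcMap (A := R) (B := L ⊗[k] R) (C := RK) M z' q
    (by rw [hz']; exact hq)
  have h2 : q.comap (algebraMap (L ⊗[k] R) RK) ∈ FlatCA.weakAss (L ⊗[k] R) ((L ⊗[k] R) ⊗[R] M) :=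
    ⟨z', h1⟩
  have h3 := hkL R (L ⊗[k] R) M (q.comap (algebraMap (L ⊗[k] R) RK)) h2
  rwa [Ideal.comap_comap, ← IsScalarTower.algebraMap_eq] at h3

theorem FieldDesc.all : FieldDesc k K := by
  classical
  intro R RK _ _ _ _ _ _ _ _ hpo M _ _ q _ hq
  obtain ⟨z, hz⟩ := hq
  obtain ⟨l, hl⟩ := exists_list_eq_sum (k := k) (K := K) M z
  let L : IntermediateField k K := adjoin k (↑(l.map Prod.fst).toFinset : Set K)
  have hLfg : L.FG := fg_adjoin_finset _
  have hmem : ∀ p ∈ l, p.1 ∈ L := fun p hp =>
    subset_adjoin _ _ (by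
      simp only [List.coe_toFinset, List.mem_map, Set.mem_ofPred_eq]; exact ⟨p, hp, rfl⟩)
  let g : K → L := fun c => if h : c ∈ L then ⟨c, h⟩ else 0
  have hg : ∀ p ∈ l, ((g p.1 : L) : K) = p.1 := fun p hp => by
    simp only [g, dif_pos (hmem p hp)]
  let l' : List (L × M) := l.map fun p => (g p.1, p.2)
  refine comap_mem_weakAss_of_list (k := k) (K := K) (L := L) (FieldDesc.of_fg L hLfg) M l' q ?_
  have : (l'.map fun p => (algebraMap K RK (algebraMap L K p.1)) ⊗ₜ[R] p.2).sum = z := by
    rw [hl]
    simp only [l', List.map_map]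
    congr 1
    refine List.map_congr_left fun p hp => ?_
    simp only [Function.comp_apply]
    congr 2
    exact hg p hp
  rw [this]
  exact hz

end General

/-- **Main theorem** (S9592): weakly associated primes descend along a field base change. -/
theorem main {k K R : Type u} [Field k] [Field K] [Algebra k K] [CommRing R] [Algebra k R]
    (RK : Type u) [CommRing RK] [Algebra k RK] [Algebra K RK] [Algebra R RK] [IsScalarTower k K RK]
    [IsScalarTower k R RK] [Algebra.IsPushout k K R RK] (M : Type u) [AddCommGroup M] [Module R M]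
    (MK : Type u) [AddCommGroup MK] [Module RK MK] [Module R MK] [IsScalarTower R RK MK]
    (f : M →ₗ[R] MK) (hf : IsBaseChange RK f) (q : Ideal RK) [q.IsPrime]
    (hq : q ∈ FlatCA.weakAss RK MK) :
    q.comap (algebraMap R RK) ∈ FlatCA.weakAss R M :=
  (FieldDesc.all (k := k) (K := K) R RK).of_isBaseChange f hf q hq

end Groth.Agent.H39.WeakAssField
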