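import Mathlib
import Groth.Prelude.Def_CurvBase
import Groth.Agent.H39.WeakAssField
import Groth.Agent.H8.AssPoints
import Groth.Agent.H44.PullbackAffine
import Groth.Agent.H49.SliceScheme

set_option autoImplicit false
set_option linter.style.haveILetI false
universe u
open CategoryTheory CategoryTheory.Limits AlgebraicGeometry TopologicalSpace TensorProduct

namespace Groth.Agent.H39.WeakAssScheme

open Groth.Agent.H39.WeakAssField Groth.Agent.H39.WeakAssPoly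

theorem main (k : Type u) [Field k] (K : Type u) [Field K] [Algebra k K] (X : Scheme.{u})
    [X.Over (Spec (CommRingCat.of k))] (F : X.Modules) [F.IsQuasicoherent]
    (y : ↥(Curv2.bc k X K))
    (hy : Curv2.IsWeakAssPoint ((Scheme.Modules.pullback (Curv2.bcFst k X K)).obj F) y) :
    Curv2.IsWeakAssPoint F (Curv2.bcFst k X K y) := by
  let iX : X ⟶ Spec (CommRingCat.of k) := X ↘ Spec (CommRingCat.of k)
  let f : Spec (CommRingCat.of K) ⟶ Spec (CommRingCat.of k) :=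
    Spec.map (CommRingCat.ofHom (algebraMap k K))
  let g : Curv2.bc k X K ⟶ X := Curv2.bcFst k X K
  let iY : Curv2.bc k X K ⟶ Spec (CommRingCat.of K) := Curv2.bcSnd k X K
  have H : IsPullback g iY iX f := IsPullback.of_hasPullback _ _
  obtain ⟨U, hU, hxU⟩ : ∃ U : X.Opens, IsAffineOpen U ∧ g y ∈ U := by
    obtain ⟨_, ⟨U, hU, rfl⟩, hx, -⟩ :=
      X.isBasis_affineOpens.exists_subset_of_mem_open (Set.mem_univ (g y)) isOpen_univ
    exact ⟨U, hU, hx⟩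
  haveI : IsAffineHom f := inferInstance
  haveI : IsAffineHom g := MorphismProperty.pullback_fst (P := @IsAffineHom) _ _ inferInstance
  have hU' : IsAffineOpen (g ⁻¹ᵁ U) := hU.preimage g
  have hyU' : y ∈ g ⁻¹ᵁ U := hxU
  have hUST : (⊤ : (Spec (CommRingCat.of K)).Opens) ≤ f ⁻¹ᵁ ⊤ := le_of_eq (by simp)
  have hUSX : U ≤ iX ⁻¹ᵁ ⊤ := by simp
  have hUY : g ⁻¹ᵁ U = g ⁻¹ᵁ U ⊓ iY ⁻¹ᵁ ⊤ := by simp
  have hiso := isIso_pushoutSection_of_isAffineOpen H hUST hUSX hUY (isAffineOpen_top _)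
    (isAffineOpen_top _) hU
  have hpo := (isIso_pushoutSection_iff H hUST hUSX hUY).mp hiso
  -- move the corner rings to `k`, `K`
  let e0 := Scheme.ΓSpecIso (CommRingCat.of k)
  let e1 := Scheme.ΓSpecIso (CommRingCat.of K)
  have hpo' : IsPushout (e0.inv ≫ iX.appLE ⊤ U hUSX) (CommRingCat.ofHom (algebraMap k K))
      (g.appLE U (g ⁻¹ᵁ U) le_rfl) (e1.inv ≫ iY.appLE ⊤ (g ⁻¹ᵁ U) (by simp)) := by
    refine IsPushout.of_iso hpo e0 (Iso.refl _) e1 (Iso.refl _) ?_ ?_ ?_ ?_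
    · simp
    · rw [Scheme.Hom.appLE, ← Scheme.ΓSpecIso_naturality]
      have h1 : (Spec (CommRingCat.of K)).presheaf.map (homOfLE hUST).op = 𝟙 _ := by
        rw [show (homOfLE hUST) = 𝟙 _ from Subsingleton.elim _ _]; simp
      rw [h1]; rfl
    · simp
    · simp
  -- algebra structures
  letI aR : Algebra k Γ(X, U) := (e0.inv ≫ iX.appLE ⊤ U hUSX).hom.toAlgebra
  letI aRK : Algebra Γ(X, U) Γ(Curv2.bc k X K, g ⁻¹ᵁ U) :=
    (g.appLE U (g ⁻¹ᵁ U) le_rfl).hom.toAlgebra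
  letI aK : Algebra K Γ(Curv2.bc k X K, g ⁻¹ᵁ U) :=
    (e1.inv ≫ iY.appLE ⊤ (g ⁻¹ᵁ U) (by simp)).hom.toAlgebra
  letI akRK : Algebra k Γ(Curv2.bc k X K, g ⁻¹ᵁ U) :=
    ((algebraMap Γ(X, U) Γ(Curv2.bc k X K, g ⁻¹ᵁ U)).comp (algebraMap k Γ(X, U))).toAlgebra
  haveI : IsScalarTower k Γ(X, U) Γ(Curv2.bc k X K, g ⁻¹ᵁ U) :=
    IsScalarTower.of_algebraMap_eq fun _ => rfl
  haveI : IsScalarTower k K Γ(Curv2.bc k X K, g ⁻¹ᵁ U) :=
    IsScalarTower.of_algebraMap_eq fun c => congr($(hpo'.w).hom c)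
  have hP : Algebra.IsPushout k Γ(X, U) K Γ(Curv2.bc k X K, g ⁻¹ᵁ U) :=
    CommRingCat.isPushout_iff_isPushout.mp hpo'
  haveI hP' : Algebra.IsPushout k K Γ(X, U) Γ(Curv2.bc k X K, g ⁻¹ᵁ U) := hP.symm
  have hD : Desc Γ(X, U) Γ(Curv2.bc k X K, g ⁻¹ᵁ U) :=
    FieldDesc.all (k := k) (K := K) Γ(X, U) Γ(Curv2.bc k X K, g ⁻¹ᵁ U)
  rw [Groth.Agent.H8.isWeakAssPoint_iff_mem_weakAss _ hU' hyU'] at hy
  rw [Groth.Agent.H8.isWeakAssPoint_iff_mem_weakAss F hU hxU]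
  rw [weakAss_congr (Groth.Agent.H44.pullbackSectionsEquiv g F hU' hU le_rfl)] at hy
  have h3 := hD Γ(F, U) _ hy
  have h4 := Groth.Agent.H49.SliceScheme.primeIdealOf_comap g y hU hU' le_rfl hyU'
  rw [← h4]
  exact h3

end Groth.Agent.H39.WeakAssScheme
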