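import Mathlib
import Groth.Agent.H46.RegularDeriv

/-!
helper39 library: the affine Weierstrass model over a discrete valuation ring with
`a₃, a₄, a₆ ∈ m`, `a₆ ∉ m²` and `Δ ≠ 0` is regular.
-/

set_option autoImplicit false
set_option linter.style.haveILetI false
set_option linter.unusedSectionVars false
set_option linter.unusedSimpArgs false

open Polynomial IsLocalRing
open scoped Polynomial.Bivariate

namespace Groth.Agent.H39.WeierstrassRegular

universe u

section derivations

/-- a `ℤ`-derivation of a commutative ring from an additive map satisfying the Leibniz rule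
(for the canonical `ℤ`-algebra structure `Ring.toIntAlgebra`) -/
noncomputable def intDer {S : Type u} [CommRing S] (d : S →+ S)
    (h : ∀ a b : S, d (a * b) = a * d b + b * d a) : Derivation ℤ S S :=
  Derivation.mk' d.toIntLinearMap (fun a b => by simpa [smul_eq_mul] using h a b)

theorem intDer_apply {S : Type u} [CommRing S] (d : S →+ S)
    (h : ∀ a b : S, d (a * b) = a * d b + b * d a) (x : S) : intDer d h x = d x := rfl

variable {R : Type u} [CommRing R]

/-- `∂/∂Y` on `R[X][Y]` -/
noncomputable def dY := intDer (S := R[X][Y])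
  (Polynomial.derivative (R := R[X])).toAddMonoidHom (fun a b => by
    simp only [LinearMap.toAddMonoidHom_coe, derivative_mul]
    ring)

/-- the additive map `swap ∘ ∂/∂Y ∘ swap` -/
noncomputable def dXfun : R[X][Y] →+ R[X][Y] :=
  (Bivariate.swap (R := R)).toAlgHom.toLinearMap.toAddMonoidHom.comp
    ((Polynomial.derivative (R := R[X])).toAddMonoidHom.comp
      (Bivariate.swap (R := R)).toAlgHom.toLinearMap.toAddMonoidHom)

theorem dXfun_apply (p : R[X][Y]) :
    dXfun p = Bivariate.swap (Polynomial.derivative (Bivariate.swap p)) := rfl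

/-- `∂/∂X` on `R[X][Y]` -/
noncomputable def dX := intDer (S := R[X][Y]) (dXfun (R := R)) (fun a b => by
  simp only [dXfun_apply, map_mul, derivative_mul, map_add, Bivariate.swap_swap_apply]
  ring)

theorem dY_apply (p : R[X][Y]) : dY p = Polynomial.derivative p := rfl

theorem dX_apply (p : R[X][Y]) :
    dX p = Bivariate.swap (Polynomial.derivative (Bivariate.swap p)) := rfl

theorem dX_C (a : R[X]) : dX (C a : R[X][Y]) = C (Polynomial.derivative a) := by
  rw [dX_apply, Bivariate.swap_C, derivative_map, Bivariate.swap_map_C]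

theorem dX_Y : dX (Y : R[X][Y]) = 0 := by
  rw [dX_apply, Bivariate.swap_Y, derivative_C, map_zero]

variable (W : WeierstrassCurve.Affine R)

theorem dY_polynomial : dY W.polynomial = W.polynomialY := by
  rw [dY_apply, WeierstrassCurve.Affine.polynomial, WeierstrassCurve.Affine.polynomialY]
  simp only [derivative_add, derivative_sub, derivative_mul, derivative_C, derivative_X,
    derivative_X_pow, zero_mul, zero_add, mul_one, sub_zero, Nat.cast_ofNat, Nat.add_one_sub_one,
    pow_one, map_ofNat]

theorem dX_polynomial : dX W.polynomial = W.polynomialX := by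
  rw [WeierstrassCurve.Affine.polynomial, WeierstrassCurve.Affine.polynomialX]
  simp only [map_add, map_sub, Derivation.leibniz, Derivation.leibniz_pow, dX_C, dX_Y,
    derivative_add, derivative_mul, derivative_C, derivative_X, derivative_X_pow, smul_zero,
    zero_mul, zero_add, add_zero, mul_one, smul_eq_mul, mul_zero, Nat.cast_ofNat, map_mul,
    map_pow, map_ofNat, map_one, map_zero]
  ring

end derivations


section identities

variable {R : Type u} [CommRing R] (W : WeierstrassCurve.Affine R)

/-- `X³` lies in the ideal generated by `W, W_X, W_Y, a₃, a₄, a₆` -/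
theorem X_cube_eq : (C (X ^ 3) : R[X][Y]) =
    2 * W.polynomial - Y * W.polynomialY - C X * W.polynomialX - C (C W.a₃) * Y
      + C (C W.a₄) * C X + 2 * C (C W.a₆) := by
  rw [WeierstrassCurve.Affine.polynomial, WeierstrassCurve.Affine.polynomialX,
    WeierstrassCurve.Affine.polynomialY]
  simp only [map_add, map_mul, map_pow, map_ofNat]
  ring

theorem Y_sq_eq : (Y ^ 2 : R[X][Y]) =
    W.polynomial - C (C W.a₁) * C X * Y - C (C W.a₃) * Y
      + C X * (C (X ^ 2) + C (C W.a₂) * C X + C (C W.a₄)) + C (C W.a₆) := by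
  rw [WeierstrassCurve.Affine.polynomial]
  simp only [map_add, map_mul, map_pow]
  ring

/-- every bivariate polynomial is its value at the origin modulo `(X, Y)` -/
theorem exists_decomp (g : R[X][Y]) : ∃ h1 : R[X][Y], ∃ h2 : R[X],
    g = Y * h1 + C X * C h2 + C (C (g.evalEval 0 0)) := by
  obtain ⟨h1, e1⟩ := Polynomial.X_dvd_sub_C (p := g)
  obtain ⟨h2, e2⟩ := Polynomial.X_dvd_sub_C (p := g.coeff 0)
  refine ⟨h1, h2, ?_⟩
  have e3 : g.evalEval 0 0 = (g.coeff 0).coeff 0 := by
    rw [Polynomial.evalEval, map_zero, ← Polynomial.coeff_zero_eq_eval_zero,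
      ← Polynomial.coeff_zero_eq_eval_zero]
  have e4 : g = Y * h1 + C (g.coeff 0) := by rw [← e1]; ring
  have e5 : g.coeff 0 = X * h2 + C ((g.coeff 0).coeff 0) := by rw [← e2]; ring
  rw [e3]
  conv_lhs => rw [e4, e5]
  simp only [map_add, map_mul]
  ring

end identities


section key

variable {R : Type u} [CommRing R] (n : Ideal R[X][Y])

/-- the structure map `R → R[X][Y]/n` -/
noncomputable def phi : R →+* R[X][Y] ⧸ n :=
  (Ideal.Quotient.mk n).comp ((C : R[X] →+* R[X][Y]).comp (C : R →+* R[X]))

theorem phi_apply (r : R) : phi n r = Ideal.Quotient.mk n (C (C r)) := rfl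

theorem evalEval_map_mk (p : R[X][Y]) :
    (p.map (mapRingHom (phi n))).evalEval (Ideal.Quotient.mk n (C X)) (Ideal.Quotient.mk n Y) =
      Ideal.Quotient.mk n p := by
  have h : (evalEvalRingHom (Ideal.Quotient.mk n (C X)) (Ideal.Quotient.mk n Y)).comp
      (mapRingHom (mapRingHom (phi n))) = Ideal.Quotient.mk n := by
    ext <;> simp [phi_apply]
  exact congr($h p)

end key

section generic

/-- quotient of the localization of a regular ring at a prime `n ∋ f`, when `f` is not in the
second symbolic power of `n` -/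
theorem isRegularLocalRing_quotient_of_forall_notMem {S : Type u} [CommRing S] [IsRegularRing S]
    (f : S) (n : Ideal S) [n.IsPrime] (hfn : f ∈ n) (h : ∀ s : S, s ∉ n → s * f ∉ n ^ 2) :
    IsRegularLocalRing (Localization.AtPrime n ⧸
      (Ideal.span {f}).map (algebraMap S (Localization.AtPrime n))) := by
  have e1 : (Ideal.span {f}).map (algebraMap S (Localization.AtPrime n)) =
      Ideal.span {algebraMap S (Localization.AtPrime n) f} := by
    rw [Ideal.map_span, Set.image_singleton]
  rw [e1]
  apply Groth.Agent.H46.isRegularLocalRing_quotient_of_not_mem_sq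
  · exact (IsLocalization.AtPrime.to_map_mem_maximal_iff (Localization.AtPrime n) n _).mpr hfn
  · intro hmem
    rw [← Localization.AtPrime.map_eq_maximalIdeal, ← Ideal.map_pow,
      IsLocalization.algebraMap_mem_map_algebraMap_iff n.primeCompl] at hmem
    obtain ⟨s, hs, hsf⟩ := hmem
    exact h s hs hsf

/-- the local criterion: at every prime `n ⊇ I` the quotient of the localization is regular -/
def Crit {S : Type u} [CommRing S] (I : Ideal S) : Prop :=
  ∀ (n : Ideal S) [n.IsPrime], I ≤ n →
    IsRegularLocalRing (Localization.AtPrime n ⧸ I.map (algebraMap S (Localization.AtPrime n)))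

theorem isRegularLocalRing_localization_of_crit {S : Type u} [CommRing S] (I : Ideal S)
    (h : Crit I) (P : Ideal (S ⧸ I)) [P.IsPrime] : IsRegularLocalRing (Localization.AtPrime P) := by
  refine Groth.Agent.H46.isRegularLocalRing_localization_quotient I P ?_
  haveI : (P.comap (Ideal.Quotient.mk I)).IsPrime := Ideal.comap_isPrime _ _
  apply h
  intro x hx
  rw [Ideal.mem_comap, Ideal.Quotient.eq_zero_iff_mem.mpr hx]
  exact P.zero_mem

end generic

section main

variable {R : Type u} [CommRing R] [IsDomain R] [IsDiscreteValuationRing R]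
  (W : WeierstrassCurve.Affine R)

/-- at a prime `n ∋ W` of `R[X][Y]` not containing the maximal ideal of `R`, some partial
derivative of `W` is outside `n` -/
theorem partial_notMem_of_generic (hΔ : W.Δ ≠ 0) (n : Ideal R[X][Y]) [n.IsPrime]
    (hfn : W.polynomial ∈ n)
    (hq : ¬ maximalIdeal R ≤ n.comap ((C : R[X] →+* R[X][Y]).comp (C : R →+* R[X]))) :
    W.polynomialX ∉ n ∨ W.polynomialY ∉ n := by
  set q := n.comap ((C : R[X] →+* R[X][Y]).comp (C : R →+* R[X])) with hqdef
  haveI : q.IsPrime := Ideal.comap_isPrime _ _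
  have hq0 : q = ⊥ := by
    by_contra hne
    have hmax : q.IsMaximal := Ideal.IsPrime.isMaximal inferInstance hne
    exact hq (IsLocalRing.eq_maximalIdeal hmax).ge
  have hinj : Function.Injective (phi n) := by
    rw [RingHom.injective_iff_ker_eq_bot, ← hq0]
    ext r
    rw [RingHom.mem_ker, phi_apply, Ideal.Quotient.eq_zero_iff_mem, hqdef, Ideal.mem_comap]
    rfl
  have hΔ' : (WeierstrassCurve.map W (phi n)).Δ ≠ (0 : R[X][Y] ⧸ n) := by
    rw [WeierstrassCurve.map_Δ]
    exact fun h => hΔ (hinj (h.trans (map_zero _).symm))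
  have heq : (WeierstrassCurve.map W (phi n)).toAffine.Equation (Ideal.Quotient.mk n (C X))
      (Ideal.Quotient.mk n Y) := by
    rw [WeierstrassCurve.Affine.Equation, WeierstrassCurve.Affine.map_polynomial,
      evalEval_map_mk, Ideal.Quotient.eq_zero_iff_mem]
    exact hfn
  have hns := (WeierstrassCurve.Affine.equation_iff_nonsingular_of_Δ_ne_zero hΔ').mp heq
  rcases hns.2 with h | h
  · left
    rw [WeierstrassCurve.Affine.map_polynomialX, evalEval_map_mk, Ne,
      Ideal.Quotient.eq_zero_iff_mem] at h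
    exact h
  · right
    rw [WeierstrassCurve.Affine.map_polynomialY, evalEval_map_mk, Ne,
      Ideal.Quotient.eq_zero_iff_mem] at h
    exact h


/-- the singular case: `n` contains `W`, both partials and the maximal ideal of `R` -/
theorem notMem_sq_of_special (n : Ideal R[X][Y]) [n.IsPrime]
    (h3 : W.a₃ ∈ maximalIdeal R) (h4 : W.a₄ ∈ maximalIdeal R)
    (h6 : W.a₆ ∈ maximalIdeal R) (h6' : W.a₆ ∉ maximalIdeal R ^ 2)
    (hfn : W.polynomial ∈ n) (hX : W.polynomialX ∈ n) (hY : W.polynomialY ∈ n)
    (hq : maximalIdeal R ≤ n.comap ((C : R[X] →+* R[X][Y]).comp (C : R →+* R[X]))) :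
    ∀ s : R[X][Y], s ∉ n → s * W.polynomial ∉ n ^ 2 := by
  have hCC : ∀ a ∈ maximalIdeal R, (C (C a) : R[X][Y]) ∈ n := fun a ha => hq ha
  -- `X ∈ n`
  have hXn : (C X : R[X][Y]) ∈ n := by
    have h1 : (C (X ^ 3) : R[X][Y]) ∈ n := by
      rw [X_cube_eq W]
      refine n.add_mem (n.add_mem (n.sub_mem (n.sub_mem (n.sub_mem ?_ ?_) ?_) ?_) ?_) ?_
      · exact n.mul_mem_left _ hfn
      · exact n.mul_mem_left _ hY
      · exact n.mul_mem_left _ hX
      · exact n.mul_mem_right _ (hCC _ h3)
      · exact n.mul_mem_right _ (hCC _ h4)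
      · exact n.mul_mem_left _ (hCC _ h6)
    rw [map_pow] at h1
    exact Ideal.IsPrime.mem_of_pow_mem inferInstance 3 h1
  -- `Y ∈ n`
  have hYn : (Y : R[X][Y]) ∈ n := by
    have h1 : (Y ^ 2 : R[X][Y]) ∈ n := by
      rw [Y_sq_eq W]
      refine n.add_mem (n.add_mem (n.sub_mem (n.sub_mem hfn ?_) ?_) ?_) ?_
      · exact n.mul_mem_right _ (n.mul_mem_left _ hXn)
      · exact n.mul_mem_right _ (hCC _ h3)
      · exact n.mul_mem_right _ hXn
      · exact hCC _ h6
    exact Ideal.IsPrime.mem_of_pow_mem inferInstance 2 h1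
  -- the value at the origin of an element of `n` lies in the maximal ideal
  have hq' : n.comap ((C : R[X] →+* R[X][Y]).comp (C : R →+* R[X])) ≤ maximalIdeal R :=
    IsLocalRing.le_maximalIdeal (Ideal.comap_ne_top _ (Ideal.IsPrime.ne_top inferInstance))
  have hA : ∀ g ∈ n, g.evalEval 0 0 ∈ maximalIdeal R := by
    intro g hg
    obtain ⟨h1, h2, e⟩ := exists_decomp g
    apply hq'
    rw [Ideal.mem_comap]
    have e' : (C (C (g.evalEval 0 0)) : R[X][Y]) = g - Y * h1 - C X * C h2 := by
      linear_combination -e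
    change (C (C (g.evalEval 0 0)) : R[X][Y]) ∈ n
    rw [e']
    exact n.sub_mem (n.sub_mem hg (n.mul_mem_right _ hYn)) (n.mul_mem_right _ hXn)
  have hB : ∀ z ∈ n ^ 2, z.evalEval 0 0 ∈ maximalIdeal R ^ 2 := by
    intro z hz
    rw [pow_two] at hz
    refine Submodule.mul_induction_on hz ?_ ?_
    · intro a ha b hb
      rw [evalEval_mul, pow_two]
      exact Ideal.mul_mem_mul (hA a ha) (hA b hb)
    · intro a b ha hb
      rw [evalEval_add]
      exact Ideal.add_mem _ ha hb
  have hC : ∀ s : R[X][Y], s ∉ n → s.evalEval 0 0 ∉ maximalIdeal R := by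
    intro s hs hmem
    apply hs
    obtain ⟨h1, h2, e⟩ := exists_decomp s
    rw [e]
    exact n.add_mem (n.add_mem (n.mul_mem_right _ hYn) (n.mul_mem_right _ hXn)) (hCC _ hmem)
  intro s hs hsf
  have h1 := hB _ hsf
  rw [evalEval_mul, WeierstrassCurve.Affine.evalEval_polynomial_zero] at h1
  have hunit : IsUnit (s.evalEval 0 0) := by
    by_contra hnu
    exact hC s hs ((IsLocalRing.mem_maximalIdeal _).mpr hnu)
  have h2 := (Ideal.unit_mul_mem_iff_mem _ hunit).mp h1
  exact h6' (by simpa using h2)

/-- the local criterion holds for the Weierstrass polynomial -/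
theorem crit_weierstrass (hΔ : W.Δ ≠ 0)
    (h3 : W.a₃ ∈ maximalIdeal R) (h4 : W.a₄ ∈ maximalIdeal R)
    (h6 : W.a₆ ∈ maximalIdeal R) (h6' : W.a₆ ∉ maximalIdeal R ^ 2) :
    Crit (Ideal.span {W.polynomial}) := by
  intro n _ hn
  have hfn : W.polynomial ∈ n := hn (Ideal.subset_span rfl)
  by_cases hY : W.polynomialY ∈ n
  swap
  · exact Groth.Agent.H46.isRegularLocalRing_localization_quotient_of_derivation _ _ dY _ hfn
      (by rwa [dY_polynomial])
  by_cases hX : W.polynomialX ∈ n
  swap
  · exact Groth.Agent.H46.isRegularLocalRing_localization_quotient_of_derivation _ _ dX _ hfn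
      (by rwa [dX_polynomial])
  by_cases hq : maximalIdeal R ≤ n.comap ((C : R[X] →+* R[X][Y]).comp (C : R →+* R[X]))
  · exact isRegularLocalRing_quotient_of_forall_notMem _ _ hfn
      (notMem_sq_of_special W _ h3 h4 h6 h6' hfn hX hY hq)
  · rcases partial_notMem_of_generic W hΔ _ hfn hq with h | h
    · exact absurd hX h
    · exact absurd hY h

/-- **Regularity of the affine Weierstrass model** over a discrete valuation ring with
`a₃, a₄, a₆ ∈ m`, `a₆ ∉ m²`, `Δ ≠ 0`. -/
theorem isRegularLocalRing_localization (hΔ : W.Δ ≠ 0)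
    (h3 : W.a₃ ∈ maximalIdeal R) (h4 : W.a₄ ∈ maximalIdeal R)
    (h6 : W.a₆ ∈ maximalIdeal R) (h6' : W.a₆ ∉ maximalIdeal R ^ 2)
    (P : Ideal W.CoordinateRing) [hP : P.IsPrime] :
    IsRegularLocalRing (Localization.AtPrime P) :=
  @isRegularLocalRing_localization_of_crit R[X][Y] _ (Ideal.span {W.polynomial})
    (crit_weierstrass W hΔ h3 h4 h6 h6') P hP

end main

end Groth.Agent.H39.WeierstrassRegular
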